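import Cfsg.Agent.Lib.CharsMore.St.Orth
import Cfsg.Agent.Lib.Geometry.AutStd
import Cfsg.Agent.Lib.Geometry.POmegaStd
import Cfsg.Agent.Lib.InvolTwo.OmegaClasses

/-!
# Steinberg characters of the standard orthogonal groups
-/

set_option linter.unusedSectionVars false
set_option linter.style.haveILetI false

namespace CfsgLib.CharsMore.St

open QuadraticMap Matrix CfsgLib CfsgLib.Geometry

universe u

variable {F : Type u} [Field F]

theorem polar_plus (m : ℕ) (x y : Fin m ⊕ Fin m → F) :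
    polar (matQuad (plusMat m F)) x y = ∑ i, (x (.inl i) * y (.inr i) + x (.inr i) * y (.inl i)) := by
  rw [QuadraticMap.polar, coe_matQuad_plus]
  simp only [Cfsg.quadFormPlus, Pi.add_apply, ← Finset.sum_sub_distrib]
  exact Finset.sum_congr rfl fun i _ => by ring

theorem polar_odd (m : ℕ) (x y : Unit ⊕ (Fin m ⊕ Fin m) → F) :
    polar (matQuad (oddMat m F)) x y = 2 * (x (.inl ()) * y (.inl ())) +
      ∑ i, (x (.inr (.inl i)) * y (.inr (.inr i)) + x (.inr (.inr i)) * y (.inr (.inl i))) := by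
  rw [QuadraticMap.polar, coe_matQuad_odd]
  simp only [Cfsg.quadFormOdd, Pi.add_apply, add_mul, mul_add, Finset.sum_add_distrib, mul_comm (y (.inr (.inl _))) (x (.inr (.inr _)))]
  ring

theorem polar_minus (m : ℕ) (a b : F) (x y : (Fin m ⊕ Fin m) ⊕ Fin 2 → F) :
    polar (matQuad (minusMat m F a b)) x y =
      (∑ i, (x (.inl (.inl i)) * y (.inl (.inr i)) + x (.inl (.inr i)) * y (.inl (.inl i)))) +
      (2 * (x (.inr 0) * y (.inr 0)) + a * (x (.inr 0) * y (.inr 1) + x (.inr 1) * y (.inr 0)) +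
        2 * b * (x (.inr 1) * y (.inr 1))) := by
  rw [QuadraticMap.polar, coe_matQuad_minus]
  simp only [Cfsg.quadFormMinus, Pi.add_apply, add_mul, mul_add, Finset.sum_add_distrib, mul_comm (y (.inl (.inl _))) (x (.inl (.inr _)))]
  ring

/-- The frame of the plus form. -/
def plusFrame (F : Type u) [Field F] (m : ℕ) : QFrame (matQuad (plusMat m F)) m where
  e i := Pi.single (.inl i) 1
  f i := Pi.single (.inr i) 1
  sing_e i := by rw [coe_matQuad_plus]; simp [Cfsg.quadFormPlus]
  sing_f i := by rw [coe_matQuad_plus]; simp [Cfsg.quadFormPlus]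
  h_ee i j := by simp [polar_plus]
  h_ff i j := by simp [polar_plus]
  h_ef i j := by simp [polar_plus, Pi.single_apply, eq_comm]
  aniso x _ he hf := by
    funext k
    rcases k with k | k
    · simpa [polar_plus, Pi.single_apply] using hf k
    · simpa [polar_plus, Pi.single_apply] using he k

/-- The frame of the odd form. -/
def oddFrame (F : Type u) [Field F] (m : ℕ) : QFrame (matQuad (oddMat m F)) m where
  e i := Pi.single (.inr (.inl i)) 1
  f i := Pi.single (.inr (.inr i)) 1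
  sing_e i := by rw [coe_matQuad_odd]; simp [Cfsg.quadFormOdd]
  sing_f i := by rw [coe_matQuad_odd]; simp [Cfsg.quadFormOdd]
  h_ee i j := by simp [polar_odd]
  h_ff i j := by simp [polar_odd]
  h_ef i j := by simp [polar_odd, Pi.single_apply, eq_comm]
  aniso x hx he hf := by
    have hl : ∀ i, x (.inr (.inl i)) = 0 := fun i => by
      simpa [polar_odd, Pi.single_apply] using hf i
    have hr : ∀ i, x (.inr (.inr i)) = 0 := fun i => by
      simpa [polar_odd, Pi.single_apply] using he i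
    rw [coe_matQuad_odd] at hx
    simp [Cfsg.quadFormOdd, hl] at hx
    funext k
    rcases k with k | k | k
    exacts [hx, hl k, hr k]

/-- The frame of the minus form. -/
def minusFrame (F : Type u) [Field F] (m : ℕ) (a b : F)
    (hab : ∀ z₁ z₂ : F, z₁ ^ 2 + a * z₁ * z₂ + b * z₂ ^ 2 = 0 → z₁ = 0 ∧ z₂ = 0) :
    QFrame (matQuad (minusMat m F a b)) m where
  e i := Pi.single (.inl (.inl i)) 1
  f i := Pi.single (.inl (.inr i)) 1
  sing_e i := by rw [coe_matQuad_minus]; simp [Cfsg.quadFormMinus]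
  sing_f i := by rw [coe_matQuad_minus]; simp [Cfsg.quadFormMinus]
  h_ee i j := by simp [polar_minus]
  h_ff i j := by simp [polar_minus]
  h_ef i j := by simp [polar_minus, Pi.single_apply, eq_comm]
  aniso x hx he hf := by
    have hl : ∀ i, x (.inl (.inl i)) = 0 := fun i => by
      simpa [polar_minus, Pi.single_apply] using hf i
    have hr : ∀ i, x (.inl (.inr i)) = 0 := fun i => by
      simpa [polar_minus, Pi.single_apply] using he i
    rw [coe_matQuad_minus] at hx
    simp [Cfsg.quadFormMinus, hl] at hx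
    obtain ⟨h0, h1⟩ := hab _ _ hx
    funext k
    rcases k with (k | k) | k
    · exact hl k
    · exact hr k
    · fin_cases k
      exacts [h0, h1]

variable [Finite F]

theorem exists_oddSteinberg (h2 : (2 : F) ≠ 0) (m : ℕ) (p : ℕ) [Fact p.Prime] [CharP F p] :
    ∃ χ : Cfsg.POmega F (Cfsg.quadFormOdd m F) → ℂ,
      Cfsg.IsIrrCharacter (Cfsg.POmega F (Cfsg.quadFormOdd m F)) χ ∧
      ∀ P : Sylow p (Cfsg.POmega F (Cfsg.quadFormOdd m F)), χ 1 = Nat.card P ∧
        ∀ x : Cfsg.POmega F (Cfsg.quadFormOdd m F), x ∈ P → x ≠ 1 → χ x = 0 := by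
  rw [← coe_matQuad_odd]
  exact exists_omegaSteinberg (nondegenerate_odd h2 m)
    (reflGroup_eq_orth_of_two_ne (nondegenerate_odd h2 m) h2) (oddFrame F m) (by simp; omega) p

theorem exists_plusSteinberg (m : ℕ) (h : m ≠ 2 ∨ ∃ a : F, a ≠ 0 ∧ a ≠ 1) (p : ℕ) [Fact p.Prime]
    [CharP F p] :
    ∃ χ : Cfsg.POmega F (Cfsg.quadFormPlus m F) → ℂ,
      Cfsg.IsIrrCharacter (Cfsg.POmega F (Cfsg.quadFormPlus m F)) χ ∧
      ∀ P : Sylow p (Cfsg.POmega F (Cfsg.quadFormPlus m F)), χ 1 = Nat.card P ∧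
        ∀ x : Cfsg.POmega F (Cfsg.quadFormPlus m F), x ∈ P → x ≠ 1 → χ x = 0 := by
  rw [← coe_matQuad_plus]
  exact exists_omegaSteinberg (nondegenerate_plus m)
    (reflGroup_eq_orth (nondegenerate_plus m) (h.imp_left fun hm => by simp; omega))
    (plusFrame F m) (by simp; omega) p

theorem exists_minusSteinberg (m : ℕ) {a b : F}
    (hab : ∀ z₁ z₂ : F, z₁ ^ 2 + a * z₁ * z₂ + b * z₂ ^ 2 = 0 → z₁ = 0 ∧ z₂ = 0) (p : ℕ)
    [Fact p.Prime] [CharP F p] :
    ∃ χ : Cfsg.POmega F (Cfsg.quadFormMinus m F a b) → ℂ,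
      Cfsg.IsIrrCharacter (Cfsg.POmega F (Cfsg.quadFormMinus m F a b)) χ ∧
      ∀ P : Sylow p (Cfsg.POmega F (Cfsg.quadFormMinus m F a b)), χ 1 = Nat.card P ∧
        ∀ x : Cfsg.POmega F (Cfsg.quadFormMinus m F a b), x ∈ P → x ≠ 1 → χ x = 0 := by
  rw [← coe_matQuad_minus]
  have hQ := nondegenerate_minus m hab
  refine exists_omegaSteinberg hQ ?_ (minusFrame F m a b hab) (by simp; omega) p
  by_cases hm : m = 1
  · subst hm
    by_cases h2 : (2 : F) = 0
    · haveI := CharTwo.of_one_ne_zero_of_two_eq_zero (one_ne_zero (α := F)) h2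
      exact CfsgLib.InvolTwo.OmegaClasses.reflGroup_eq_orth_of_anisotropic hQ
        (singular_finrank_le_minus 1 hab)
    · exact reflGroup_eq_orth_of_two_ne hQ h2
  · exact reflGroup_eq_orth hQ (Or.inl (by simp; omega))

end CfsgLib.CharsMore.St
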