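import Cfsg.Agent.Lib.CharsMore.St.MatAct
import Cfsg.Agent.Lib.Classical.SympBasic
import Cfsg.Prelude.Def_Classical

/-!
# The Steinberg character of a symplectic group
-/

set_option linter.unusedSectionVars false
set_option linter.style.haveILetI false

namespace CfsgLib.CharsMore.St

open Matrix CfsgLib.Classical

universe u

variable {F : Type u} [Field F] {m : ℕ}

/-- The symplectic polar space. -/
def spPolar (F : Type u) [Field F] (m : ℕ) : Polar F (Fin m ⊕ Fin m → F) m where
  σ := RingHom.id F
  σ_σ _ := rfl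
  ε := -1
  ε_mul := by simp
  σ_ε := rfl
  h := sbil
  add_left := sbil_add_left
  smul_left := sbil_smul_left
  swap x y := by rw [sbil_swap x y]; simp
  sing _ := True
  sing_smul _ _ _ := trivial
  sing_add _ _ _ := trivial
  self_of_sing {x} _ := sbil_self x
  e i := Pi.single (.inr i) 1
  f i := Pi.single (.inl i) 1
  sing_e _ := trivial
  sing_f _ := trivial
  h_ee i j := by simp [sbil_single_inr]
  h_ff i j := by simp [sbil_single_inl]
  h_ef i j := by simp [sbil_single_inl, Pi.single_apply, eq_comm]
  aniso x _ he hf := by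
    funext k
    rcases k with k | k
    · simpa [sbil_single_inr] using he k
    · simpa [sbil_single_inl] using hf k
  complete _ _ _ _ _ _ _ _ := ⟨0, trivial⟩

/-- The symplectic group acting on its polar space. -/
noncomputable def spAct (p : ℕ) [Fact p.Prime] [CharP F p] :
    (spPolar F m).Act p (Matrix.symplecticGroup (Fin m) F) where
  ρ := matAct (Submonoid.subtype _)
  inj := matAct_injective Subtype.val_injective
  h_ρ g x y := sbil_mulVec g x y
  sing_ρ _ _ _ := trivial
  elem a b w _ _ hab hwa hwb c _ := by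
    have ha : (spPolar F m).h a a = 0 := sbil_self a
    have hc : (spPolar F m).σ c + (spPolar F m).ε * c + (spPolar F m).h w w = 0 := by
      simp [spPolar, sbil_self]
    refine ⟨⟨LinearMap.toMatrix' ((spPolar F m).rootMap a w c), mem_symplecticGroup_iff_sbil.2
      fun u v => ?_⟩, fun v => ?_⟩
    · rw [LinearMap.toMatrix'_mulVec, LinearMap.toMatrix'_mulVec]
      exact (spPolar F m).h_rootMap ha hwa hc u v
    · exact LinearMap.toMatrix'_mulVec _ v
  frame_fix g := (spPolar F m).frame_fix_of (fun _ _ => trivial)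
    (matAct (Submonoid.subtype (Matrix.symplecticGroup (Fin m) F)))
    (matAct_injective Subtype.val_injective) (fun g x y => sbil_mulVec g x y) g
  fat_or := Or.inl fun i => ⟨0, 1, Or.inr one_ne_zero,
    fun j => ⟨(spPolar F m).zero_left _, (spPolar F m).zero_left _⟩, trivial⟩

theorem exists_spSteinberg [Finite F] (p : ℕ) [Fact p.Prime] [CharP F p] :
    ∃ χ : Cfsg.PSp m F → ℂ, Cfsg.IsIrrCharacter (Cfsg.PSp m F) χ ∧
      ∀ P : Sylow p (Cfsg.PSp m F),
        χ 1 = Nat.card P ∧ ∀ x : Cfsg.PSp m F, x ∈ P → x ≠ 1 → χ x = 0 :=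
  (spAct p).exists_steinberg _ le_rfl

end CfsgLib.CharsMore.St
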