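import Cfsg.Agent.Lib.CharsMore.St.MatAct
import Cfsg.Agent.Lib.Classical.UnitaryFrame
import Cfsg.Prelude.Def_Classical

/-!
# The Steinberg character of a unitary group
-/

set_option linter.unusedSectionVars false
set_option linter.style.haveILetI false

namespace CfsgLib.CharsMore.St

open Matrix CfsgLib.Classical CfsgLib.Classical.Unitary

universe u

variable {F : Type u} [Field F] {σ : F →+* F} {q n : ℕ}

/-- The first coordinate of the `i`-th pair. -/
def pairA {n : ℕ} (i : Fin (n / 2)) : Fin n := ⟨2 * (i : ℕ), by have := i.isLt; omega⟩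

/-- The second coordinate of the `i`-th pair. -/
def pairB {n : ℕ} (i : Fin (n / 2)) : Fin n := ⟨2 * (i : ℕ) + 1, by have := i.isLt; omega⟩

theorem pairA_eq {i j : Fin (n / 2)} : pairA i = pairA j ↔ i = j :=
  ⟨fun h => Fin.ext (by have := congrArg Fin.val h; simp only [pairA] at this; omega),
    fun h => h ▸ rfl⟩

theorem pairB_eq {i j : Fin (n / 2)} : pairB i = pairB j ↔ i = j :=
  ⟨fun h => Fin.ext (by have := congrArg Fin.val h; simp only [pairB] at this; omega),
    fun h => h ▸ rfl⟩

theorem pairA_ne_pairB (i j : Fin (n / 2)) : pairA i ≠ pairB j :=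
  fun h => by have := congrArg Fin.val h; simp only [pairA, pairB] at this; omega

/-- An isotropic vector in the `i`-th pair. -/
def suE (t : F) (i : Fin (n / 2)) : Fin n → F := Pi.single (pairA i) 1 + Pi.single (pairB i) t

/-- The partner of `suE t i`. -/
def suF (t θ : F) (i : Fin (n / 2)) : Fin n → F := Pi.single (pairA i) 1 + (-θ) • suE t i

theorem uh_suE (t : F) (x : Fin n → F) (i : Fin (n / 2)) :
    uh σ x (suE t i) = x (pairA i) + x (pairB i) * σ t := by
  simp [suE, uh_add_right, uh_single_right]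

theorem uh_suF (t θ : F) (x : Fin n → F) (i : Fin (n / 2)) :
    uh σ x (suF t θ i) = x (pairA i) - σ θ * (x (pairA i) + x (pairB i) * σ t) := by
  rw [suF, uh_add_right, uh_smul_right, uh_suE, uh_single_right, map_one, mul_one, map_neg]
  ring

/-- The unitary polar space. -/
def suPolar (hσ : UFrob σ q) (t θ : F) (ht : t * σ t = -1) (hθ : θ + σ θ = 1) :
    Polar F (Fin n → F) (n / 2) where
  σ := σ
  σ_σ := hσ.invol
  ε := 1
  ε_mul := one_mul 1
  σ_ε := map_one σ
  h := uh σ
  add_left := uh_add_left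
  smul_left := uh_smul_left
  swap x y := by rw [one_mul, hσ.symm]
  sing x := uh σ x x = 0
  sing_smul c x hx := by rw [uh_smul_left, uh_smul_right, hx, mul_zero, mul_zero]
  sing_add {x y} hx hy hxy := by
    rw [uh_add_left, uh_add_right, uh_add_right, hx, hy, hxy, hσ.swap_zero hxy]; simp
  self_of_sing hx := hx
  e := suE t
  f := suF t θ
  sing_e i := by
    rw [uh_suE]
    simp [suE, pairA_ne_pairB, Ne.symm (pairA_ne_pairB i i), ht]
  sing_f i := by
    rw [uh_suF]
    simp [suF, suE, pairA_ne_pairB, Ne.symm (pairA_ne_pairB i i)]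
    linear_combination (σ θ * θ) * ht - hθ
  h_ee i j := by
    rw [uh_suE]
    by_cases h : i = j
    · subst h; simp [suE, pairA_ne_pairB, Ne.symm (pairA_ne_pairB i i), ht]
    · simp [suE, pairA_ne_pairB, Ne.symm (pairA_ne_pairB i j), Ne.symm (pairA_ne_pairB j i),
        pairA_eq, pairB_eq, Ne.symm h]
  h_ff i j := by
    rw [uh_suF]
    by_cases h : i = j
    · subst h
      simp [suF, suE, pairA_ne_pairB, Ne.symm (pairA_ne_pairB i i)]
      linear_combination (σ θ * θ) * ht - hθ
    · simp [suF, suE, pairA_ne_pairB, Ne.symm (pairA_ne_pairB i j), Ne.symm (pairA_ne_pairB j i),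
        pairA_eq, pairB_eq, Ne.symm h]
  h_ef i j := by
    rw [uh_suF]
    by_cases h : i = j
    · subst h
      simp [suE, pairA_ne_pairB, Ne.symm (pairA_ne_pairB i i)]
      right
      linear_combination ht
    · simp [suE, pairA_ne_pairB, Ne.symm (pairA_ne_pairB i j), Ne.symm (pairA_ne_pairB j i),
        pairA_eq, pairB_eq, h, Ne.symm h]
  aniso x hx he hf := by
    have hzero : ∀ i : Fin (n / 2), x (pairA i) = 0 ∧ x (pairB i) = 0 := fun i => by
      have h1 := he i
      have h2 := hf i
      rw [uh_suE] at h1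
      rw [uh_suF, h1, mul_zero, sub_zero] at h2
      rw [h2, zero_add] at h1
      refine ⟨h2, (mul_eq_zero.1 h1).resolve_right fun h0 => ?_⟩
      rw [h0, mul_zero] at ht
      exact one_ne_zero (neg_eq_zero.1 ht.symm)
    funext k
    by_cases hk : (k : ℕ) / 2 < n / 2
    · rcases Nat.mod_two_eq_zero_or_one (k : ℕ) with h | h
      · rw [show k = pairA ⟨(k : ℕ) / 2, hk⟩ from Fin.ext (by simp only [pairA]; omega)]
        exact (hzero _).1
      · rw [show k = pairB ⟨(k : ℕ) / 2, hk⟩ from Fin.ext (by simp only [pairB]; omega)]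
        exact (hzero _).2
    have hall : ∀ l : Fin n, l ≠ k → x l = 0 := fun l hl => by
      have hl' : (l : ℕ) ≠ (k : ℕ) := fun e => hl (Fin.ext e)
      have hlk : (l : ℕ) / 2 < n / 2 := by have := l.isLt; have := k.isLt; omega
      rcases Nat.mod_two_eq_zero_or_one (l : ℕ) with h | h
      · rw [show l = pairA ⟨(l : ℕ) / 2, hlk⟩ from Fin.ext (by simp only [pairA]; omega)]
        exact (hzero _).1
      · rw [show l = pairB ⟨(l : ℕ) / 2, hlk⟩ from Fin.ext (by simp only [pairB]; omega)]
        exact (hzero _).2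
    have hxk : x = Pi.single k (x k) := funext fun l => by
      rcases eq_or_ne l k with rfl | hl
      · simp
      · simp [hl, hall l hl]
    rw [hxk, uh_single_left, Pi.single_eq_same] at hx
    rcases mul_eq_zero.1 hx with h | h
    · exact h
    · have h' : σ (σ (x k)) = 0 := by rw [h, map_zero]
      rwa [hσ.invol] at h'
  complete a b w ha hb hab hwa hwb := by
    refine ⟨-(θ * uh σ w w), ?_⟩
    have hba : uh σ b a = 1 := by rw [← hσ.symm, hab, map_one]
    simp only [one_smul, one_mul, uh_add_left, uh_add_right, uh_smul_left, uh_smul_right, ha, hb,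
      hab, hba, hwa, hwb, hσ.swap_zero hwa, hσ.swap_zero hwb, map_neg, map_mul, hσ.symm w w]
    linear_combination (-uh σ w w) * hθ

/-- The special unitary group acting on its polar space. -/
noncomputable def suAct (hσ : UFrob σ q) (t θ : F) (ht : t * σ t = -1) (hθ : θ + σ θ = 1) (p : ℕ)
    [Fact p.Prime] [CharP F p] : (suPolar (n := n) hσ t θ ht hθ).Act p (Cfsg.SU n F q) where
  ρ := matAct ((Cfsg.slToMat n F).comp (Cfsg.SU n F q).subtype)
  inj := matAct_injective fun a b h => Subtype.ext (Subtype.ext h)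
  h_ρ g x y := su_uh hσ g x y
  sing_ρ g x hx := (su_uh hσ g x x).trans hx
  elem a b w ha hb hab hwa hwb c hs := by
    have hc := (suPolar (n := n) hσ t θ ht hθ).h_self_complete hab hwa hwb ha hb c
    rw [show (suPolar (n := n) hσ t θ ht hθ).h _ _ = 0 from hs] at hc
    have hc' : c + σ c + 1 * σ 1 * uh σ w w = 0 := by
      simp only [suPolar, one_mul] at hc
      rw [map_one, one_mul, one_mul]
      linear_combination -hc
    refine ⟨usg hσ a w 1 c ha hwa hc', fun v => ?_⟩
    · refine (usg_mulVec hσ a w v 1 c ha hwa hc').trans ?_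
      simp [suPolar, sub_eq_add_neg, add_comm (c * uh σ v a)]
  frame_fix g := (suPolar (n := n) hσ t θ ht hθ).frame_fix_of (fun _ h => h)
    (matAct ((Cfsg.slToMat n F).comp (Cfsg.SU n F q).subtype))
    (matAct_injective fun a b h => Subtype.ext (Subtype.ext h)) (fun g x y => su_uh hσ g x y) g
  fat_or := Or.inl fun i => by
    obtain ⟨c, hc0, hc⟩ := exists_skew hσ
    refine ⟨0, c, Or.inr hc0, fun j => ⟨(suPolar hσ t θ ht hθ).zero_left _,
      (suPolar hσ t θ ht hθ).zero_left _⟩, ?_⟩
    refine ((suPolar (n := n) hσ t θ ht hθ).h_self_complete ?_ ((suPolar hσ t θ ht hθ).zero_left _)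
      ((suPolar hσ t θ ht hθ).zero_left _) ((suPolar hσ t θ ht hθ).sing_e i)
      ((suPolar hσ t θ ht hθ).sing_f i) c).trans ?_
    · simp [(suPolar (n := n) hσ t θ ht hθ).h_ef]
    · simp only [suPolar, one_mul, uh_zero_left, add_zero]
      linear_combination hc

theorem exists_suSteinberg [Finite F] (hF : Nat.card F = q ^ 2) (p : ℕ) [Fact p.Prime] [CharP F p] :
    ∃ χ : Cfsg.PSU n F q → ℂ, Cfsg.IsIrrCharacter (Cfsg.PSU n F q) χ ∧
      ∀ P : Sylow p (Cfsg.PSU n F q),
        χ 1 = Nat.card P ∧ ∀ x : Cfsg.PSU n F q, x ∈ P → x ≠ 1 → χ x = 0 := by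
  obtain ⟨σ, hσ⟩ := exists_uFrob hF
  obtain ⟨t, ht⟩ := exists_pow_succ_eq hF (c := -1) (by rw [← hσ.pow, map_neg, map_one])
  obtain ⟨θ, hθ⟩ := exists_trace hσ
  exact (suAct hσ t θ (by rw [hσ.pow, ← pow_succ', ht]) hθ p).exists_steinberg _ le_rfl

end CfsgLib.CharsMore.St
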