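import Cfsg.Agent.Lib.Chars.Irr
import Cfsg.Agent.Lib.Chars.Quotient
import Mathlib

/-!
# Steinberg characters from chamber systems

A finite group acts on a chamber system.  Suppose that a Sylow `p`-subgroup `P` fixes a chamber `x₀`
and is regular on a set `T` of chambers such that a function with vanishing panel sums is
determined by its values on `T`, and that such a function is nonzero at exactly one chamber of `T`.
Then the functions with vanishing panel sums form an irreducible module of dimension `#P`, regular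
on `P`.
-/

set_option linter.unusedSectionVars false
set_option linter.style.haveILetI false

namespace CfsgLib.CharsMore.St

open Cfsg CfsgLib.Chars

universe u v w

/-- A chamber system with the data making its alternating homology a Steinberg module. -/
structure Data (p : ℕ) (G : Type u) [Group G] (X : Type v) [MulAction G X] [Fintype X]
    (ι : Type w) where
  /-- the panels: `panel i x` contains the chambers `i`-adjacent to `x`, including `x` -/
  panel : ι → X → Finset X
  panel_smul : ∀ i (g : G) x, panel i (g • x) = (panel i x).map ⟨(g • ·), MulAction.injective g⟩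
  mem_self : ∀ i x, x ∈ panel i x
  /-- a measure of the distance to `T` -/
  level : X → ℕ
  /-- the chambers opposite `x₀` -/
  T : Set X
  up : ∀ x ∉ T, ∃ i, ∀ y ∈ panel i x, y ≠ x → level x < level y
  P : Sylow p G
  x₀ : X
  t₀ : X
  fixed : ∀ u ∈ (P : Subgroup G), u • x₀ = x₀
  mem_T : ∀ t, t ∈ T ↔ ∃ u ∈ (P : Subgroup G), u • t₀ = t
  free : ∀ u ∈ (P : Subgroup G), u • t₀ = t₀ → u = 1
  /-- an apartment -/
  apt : X → ℂ
  apt_sum : ∀ i x, ∑ y ∈ panel i x, apt y = 0
  apt_T : ∀ t ∈ T, t ≠ t₀ → apt t = 0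
  apt_t₀ : apt t₀ ≠ 0
  apt_x₀ : apt x₀ ≠ 0
  g₀ : G
  reach : ∀ f : X → ℂ, (∀ i x, ∑ y ∈ panel i x, f y = 0) → f (g₀ • x₀) = 0 → f t₀ = 0

namespace Data

open scoped Classical

variable {p : ℕ} {G : Type u} [Group G] [Fintype G] {X : Type v} [MulAction G X] [Fintype X]
  {ι : Type w} (D : Data p G X ι)

/-- The functions with vanishing panel sums. -/
def Z : Submodule ℂ (X → ℂ) where
  carrier := {f | ∀ i x, ∑ y ∈ D.panel i x, f y = 0}
  add_mem' {f g} hf hg i x := by simp [Finset.sum_add_distrib, hf i x, hg i x]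
  zero_mem' i x := by simp
  smul_mem' c f hf i x := by simp [← Finset.mul_sum, hf i x]

theorem smul_mem (g : G) {f : X → ℂ} (hf : f ∈ D.Z) : permRep G X g f ∈ D.Z := fun i x => by
  have h := hf i (g⁻¹ • x)
  rw [D.panel_smul, Finset.sum_map] at h
  simpa [permRep_apply] using h

/-- The representation on `Z`. -/
noncomputable def rep : Representation ℂ G D.Z where
  toFun g := (permRep G X g).restrict fun _ hf => D.smul_mem g hf
  map_one' := LinearMap.ext fun f => Subtype.ext (by simp)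
  map_mul' a b := LinearMap.ext fun f => Subtype.ext (by simp)

theorem rep_apply (g : G) (f : D.Z) (x : X) : (D.rep g f : X → ℂ) x = (f : X → ℂ) (g⁻¹ • x) := rfl

/-- The apartment as an element of `Z`. -/
def aptZ : D.Z := ⟨D.apt, D.apt_sum⟩

theorem eq_zero {f : D.Z} (h : ∀ t ∈ D.T, (f : X → ℂ) t = 0) : f = 0 := by
  classical
  have key : ∀ n x, Finset.univ.sup D.level - D.level x ≤ n → (f : X → ℂ) x = 0 := by
    intro n
    induction n using Nat.strong_induction_on with
    | _ n ih =>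
      intro x hx
      by_cases hxT : x ∈ D.T
      · exact h x hxT
      obtain ⟨i, hi⟩ := D.up x hxT
      have hs := f.2 i x
      rw [← Finset.add_sum_erase _ _ (D.mem_self i x), Finset.sum_eq_zero (s := (D.panel i x).erase x)
        (fun y hy => ?_), add_zero] at hs
      · exact hs
      · obtain ⟨hne, hy'⟩ := Finset.mem_erase.1 hy
        have hlt := hi y hy' hne
        have hle : D.level y ≤ Finset.univ.sup D.level := Finset.le_sup (Finset.mem_univ y)
        exact ih _ (show Finset.univ.sup D.level - D.level y < n by omega) y le_rfl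
  exact Subtype.ext (funext fun x => key _ x le_rfl)

theorem apply_mem_T {u : G} (hu : u ∈ (D.P : Subgroup G)) {t : X} (ht : t ∈ D.T) : u • t ∈ D.T := by
  obtain ⟨v, hv, rfl⟩ := (D.mem_T t).1 ht
  exact (D.mem_T _).2 ⟨u * v, mul_mem hu hv, mul_smul u v _⟩

/-- Restriction to `T`. -/
noncomputable def res : D.Z →ₗ[ℂ] (D.T → ℂ) := (LinearMap.funLeft ℂ ℂ Subtype.val).comp D.Z.subtype

theorem res_apply (f : D.Z) (t : D.T) : D.res f t = (f : X → ℂ) t := rfl

theorem res_bijective : Function.Bijective D.res := by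
  classical
  refine ⟨(injective_iff_map_eq_zero _).2 fun f hf => D.eq_zero fun t ht => congrFun hf ⟨t, ht⟩,
    fun φ => ?_⟩
  choose u hu hut using fun t : D.T => (D.mem_T t).1 t.2
  refine ⟨∑ t : D.T, (φ t / D.apt D.t₀) • D.rep (u t) D.aptZ, funext fun t' => ?_⟩
  rw [map_sum, Finset.sum_apply, Finset.sum_eq_single t' (fun t _ hne => ?_) (by simp)]
  · rw [map_smul, Pi.smul_apply, res_apply, rep_apply, smul_eq_mul,
      inv_smul_eq_iff.2 (hut t').symm]
    exact div_mul_cancel₀ _ D.apt_t₀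
  · rw [map_smul, Pi.smul_apply, res_apply, rep_apply, show (D.aptZ : X → ℂ) = D.apt from rfl,
      show D.apt ((u t)⁻¹ • (t' : X)) = 0 from
        D.apt_T _ (D.apply_mem_T (inv_mem (hu t)) t'.2) (fun h => hne ?_), smul_zero]
    rw [inv_smul_eq_iff, hut t] at h
    exact (Subtype.ext h).symm

/-- `Z` as functions on `T`. -/
noncomputable def resEquiv : D.Z ≃ₗ[ℂ] (D.T → ℂ) := LinearEquiv.ofBijective D.res D.res_bijective

/-- The fixed vector of `P`. -/
noncomputable def S : D.Z := D.resEquiv.symm 1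

theorem S_apply {t : X} (ht : t ∈ D.T) : (D.S : X → ℂ) t = 1 :=
  congrFun (D.resEquiv.apply_symm_apply (1 : D.T → ℂ)) ⟨t, ht⟩

open Classical in
theorem sum_P_eq (f : D.Z) (t : X) (ht : t ∈ D.T) :
    ∑ v : (D.P : Subgroup G), (f : X → ℂ) ((v : G)⁻¹ • t) =
      ∑ s : D.T, (f : X → ℂ) s := by
  obtain ⟨u, hu, rfl⟩ := (D.mem_T t).1 ht
  refine Fintype.sum_bijective (M := ℂ)
    (fun v : (D.P : Subgroup G) => (⟨(v : G)⁻¹ • (u • D.t₀),
      D.apply_mem_T (inv_mem v.2) ((D.mem_T _).2 ⟨u, hu, rfl⟩)⟩ : D.T)) ?_ _ _ fun v => rfl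
  refine ⟨fun v w h => ?_, fun s => ?_⟩
  · have h1 := congrArg Subtype.val h
    simp only [← mul_smul] at h1
    have h2 := D.free (((w : G)⁻¹ * u)⁻¹ * ((v : G)⁻¹ * u))
      (mul_mem (inv_mem (mul_mem (inv_mem w.2) hu)) (mul_mem (inv_mem v.2) hu))
      (by rw [mul_smul, h1, inv_smul_smul])
    rw [inv_mul_eq_one, mul_left_inj, inv_inj] at h2
    exact Subtype.ext h2.symm
  · obtain ⟨w, hw, hws⟩ := (D.mem_T s).1 s.2
    refine ⟨⟨u * w⁻¹, mul_mem hu (inv_mem hw)⟩, Subtype.ext ?_⟩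
    show (u * w⁻¹)⁻¹ • u • D.t₀ = _
    rw [← mul_smul, mul_inv_rev, inv_inv, inv_mul_cancel_right, hws]

open Classical in
theorem avg_eq (f : D.Z) :
    ∑ v : (D.P : Subgroup G), D.rep (v : G) f = (∑ s : D.T, (f : X → ℂ) s) • D.S := by
  refine D.res_bijective.1 (funext fun t => ?_)
  rw [map_sum, Finset.sum_apply, map_smul, Pi.smul_apply, res_apply, D.S_apply t.2, smul_eq_mul,
    mul_one, ← D.sum_P_eq f t t.2]
  rfl

open Classical in
theorem apply_x₀ (f : D.Z) :
    (Nat.card (D.P : Subgroup G) : ℂ) * (f : X → ℂ) D.x₀ =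
      (∑ s : D.T, (f : X → ℂ) s) * (D.S : X → ℂ) D.x₀ := by
  have h := congrArg (fun z : D.Z => (z : X → ℂ) D.x₀) (D.avg_eq f)
  simp only [AddSubmonoidClass.coe_finsetSum, Finset.sum_apply, SetLike.val_smul, Pi.smul_apply,
    smul_eq_mul, rep_apply] at h
  rw [← h, Finset.sum_congr rfl (g := fun _ => (f : X → ℂ) D.x₀) fun v _ => by
      rw [inv_smul_eq_iff.2 (D.fixed v v.2).symm],
    Finset.sum_const, Finset.card_univ, nsmul_eq_mul, Nat.card_eq_fintype_card]

theorem S_x₀_ne : (D.S : X → ℂ) D.x₀ ≠ 0 := by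
  classical
  intro h0
  have h := D.apply_x₀ D.aptZ
  rw [h0, mul_zero, mul_eq_zero] at h
  exact D.apt_x₀ (h.resolve_left (Nat.cast_ne_zero.2 Nat.card_pos.ne'))

theorem S_mem {W : Subrepresentation D.rep} (hW : W.toSubmodule ≠ ⊥) : D.S ∈ W.toSubmodule := by
  classical
  by_cases h : ∃ f ∈ W.toSubmodule, ∑ s : D.T, (f : X → ℂ) s ≠ 0
  · obtain ⟨f, hf, hne⟩ := h
    have h1 : (∑ s : D.T, (f : X → ℂ) s) • D.S ∈ W.toSubmodule := by
      rw [← D.avg_eq f]
      exact Submodule.sum_mem _ fun v _ => W.apply_mem_toSubmodule _ hf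
    have h2 := W.toSubmodule.smul_mem (∑ s : D.T, (f : X → ℂ) s)⁻¹ h1
    rwa [smul_smul, inv_mul_cancel₀ hne, one_smul] at h2
  push Not at h
  refine absurd (eq_bot_iff.2 fun f hf => Submodule.mem_bot ℂ |>.2 (D.eq_zero fun t ht => ?_)) hW
  have hx : ∀ g : G, ∀ f ∈ W.toSubmodule, (f : X → ℂ) (g • D.x₀) = 0 := fun g f hf => by
    have h1 := D.apply_x₀ (D.rep g⁻¹ f)
    rw [h _ (W.apply_mem_toSubmodule _ hf), zero_mul, mul_eq_zero, rep_apply, inv_inv] at h1
    exact h1.resolve_left (Nat.cast_ne_zero.2 Nat.card_pos.ne')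
  obtain ⟨u, -, rfl⟩ := (D.mem_T t).1 ht
  have h2 := D.reach _ (D.rep u⁻¹ f).2 (hx _ _ (W.apply_mem_toSubmodule _ hf))
  rwa [rep_apply, inv_inv] at h2

theorem nontrivial_Z : Nontrivial D.Z := ⟨⟨D.S, 0, fun h => by
  have := D.S_x₀_ne
  rw [h] at this
  exact this rfl⟩⟩

theorem irreducible : D.rep.IsIrreducible := by
  rw [Chars.isIrreducible_iff]
  refine ⟨D.nontrivial_Z, fun U hU => ?_⟩
  let W : Subrepresentation D.rep := ⟨U, fun g v hv => hU g v hv⟩
  by_cases h0 : U = ⊥
  · exact Or.inl h0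
  obtain ⟨W', hW'⟩ := exists_isCompl_sub D.rep W
  right
  by_cases h1 : W'.toSubmodule = ⊥
  · have := hW'.sup_eq_top
    rwa [h1, sup_bot_eq] at this
  exact absurd (Submodule.mem_bot ℂ |>.1
    (hW'.inf_eq_bot ▸ Submodule.mem_inf.2 ⟨D.S_mem (W := W) h0, D.S_mem h1⟩))
    fun h => D.S_x₀_ne (by rw [h]; rfl)

/-- The Steinberg character of the chamber system. -/
noncomputable def chi : G → ℂ := D.rep.character

theorem isIrr_chi : IsIrrCharacter G D.chi := by
  haveI := D.irreducible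
  exact isIrrCharacter_character D.rep

theorem chi_on_P {u : G} (hu : u ∈ (D.P : Subgroup G)) :
    D.chi u = if u = 1 then (Nat.card (D.P : Subgroup G) : ℂ) else 0 := by
  classical
  letI : MulAction (D.P : Subgroup G) D.T :=
    { smul := fun v t => ⟨(v : G) • (t : X), D.apply_mem_T v.2 t.2⟩
      one_smul := fun t => Subtype.ext (one_smul G _)
      mul_smul := fun a b t => Subtype.ext (mul_smul (a : G) (b : G) _) }
  have e : D.resEquiv.conj (D.rep u) = permRep (D.P : Subgroup G) D.T ⟨u, hu⟩ := by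
    refine LinearMap.ext fun φ => funext fun t => ?_
    rw [LinearEquiv.conj_apply_apply]
    show (D.resEquiv.symm φ : X → ℂ) (u⁻¹ • (t : X)) = φ ((⟨u, hu⟩ : (D.P : Subgroup G))⁻¹ • t)
    exact congrFun (D.resEquiv.apply_symm_apply φ) ((⟨u, hu⟩ : (D.P : Subgroup G))⁻¹ • t)
  have h := character_permRep (G := (D.P : Subgroup G)) (X := D.T) ⟨u, hu⟩
  rw [Representation.character, ← e, LinearMap.trace_conj'] at h
  show LinearMap.trace ℂ D.Z (D.rep u) = _
  rw [h]
  split_ifs with h1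
  · subst h1
    rw [Nat.cast_inj]
    refine (Nat.card_congr (Equiv.subtypeUnivEquiv fun t => Subtype.ext (one_smul G _))).trans
      (Nat.card_congr (Equiv.ofBijective (fun v : (D.P : Subgroup G) =>
        (⟨(v : G) • D.t₀, (D.mem_T _).2 ⟨v, v.2, rfl⟩⟩ : D.T)) ⟨fun v w hvw => ?_, fun s => ?_⟩)).symm
    · have h0 : (v : G) • D.t₀ = (w : G) • D.t₀ := congrArg Subtype.val hvw
      have h1 := D.free ((w : G)⁻¹ * v) (mul_mem (inv_mem w.2) v.2)
        (by rw [mul_smul, h0, inv_smul_smul])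
      exact Subtype.ext (inv_mul_eq_one.1 h1).symm
    · obtain ⟨w, hw, hws⟩ := (D.mem_T s).1 s.2
      exact ⟨⟨w, hw⟩, Subtype.ext hws⟩
  · rw [Nat.cast_eq_zero, Finite.card_eq_zero_iff]
    refine ⟨fun ⟨t, ht⟩ => h1 ?_⟩
    obtain ⟨w, hw, hws⟩ := (D.mem_T t).1 t.2
    have h2 : u • (t : X) = t := congrArg Subtype.val ht
    rw [← hws, ← mul_smul] at h2
    have h3 := D.free (w⁻¹ * (u * w)) (mul_mem (inv_mem hw) (mul_mem hu hw))
      (by rw [mul_smul, h2, inv_smul_smul])
    rwa [inv_mul_eq_one, eq_comm, mul_eq_right] at h3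

theorem chi_sylow [Fact p.Prime] (Q : Sylow p G) :
    D.chi 1 = (Nat.card Q : ℂ) ∧ ∀ x : G, x ∈ Q → x ≠ 1 → D.chi x = 0 := by
  obtain ⟨g, rfl⟩ := MulAction.exists_smul_eq G D.P Q
  refine ⟨?_, fun x hx hx1 => ?_⟩
  · rw [D.chi_on_P (one_mem _), if_pos rfl, Sylow.card_eq_multiplicity, Sylow.card_eq_multiplicity]
  · have hx' : g⁻¹ * x * g ∈ (D.P : Subgroup G) := by
      rw [← SetLike.mem_coe] at hx
      change x ∈ ((g • D.P : Sylow p G) : Subgroup G) at hx
      rw [Sylow.coe_subgroup_smul, Subgroup.mem_pointwise_smul_iff_inv_smul_mem] at hx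
      simpa [MulAut.smul_def] using hx
    have h1 := D.chi_on_P hx'
    rw [if_neg (fun h => hx1 (by
      rw [show x = g * (g⁻¹ * x * g) * g⁻¹ by group, h]; group))] at h1
    have h2 := isClassFunction_irr ⟨D.chi, D.isIrr_chi⟩ x g⁻¹
    rw [inv_inv] at h2
    exact h2.symm.trans h1

theorem chi_central {z : G} (hz : z ∈ Subgroup.center G) (hx : z • D.x₀ = D.x₀) :
    D.chi z = D.chi 1 := by
  classical
  let W : Subrepresentation D.rep :=
    ⟨LinearMap.ker (D.rep z - 1), fun g f hf => by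
      rw [LinearMap.mem_ker, LinearMap.sub_apply, sub_eq_zero, Module.End.one_apply] at hf ⊢
      rw [← Module.End.mul_apply, ← map_mul, ← Subgroup.mem_center_iff.1 hz g, map_mul,
        Module.End.mul_apply, hf]⟩
  have hS : D.S ∈ W.toSubmodule := by
    show D.S ∈ LinearMap.ker (D.rep z - 1)
    rw [LinearMap.mem_ker, LinearMap.sub_apply, sub_eq_zero, Module.End.one_apply]
    set S' := D.rep z D.S
    have hfix : ∀ v : (D.P : Subgroup G), D.rep (v : G) D.S = D.S := fun v =>
      D.res_bijective.1 (funext fun t => by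
        rw [res_apply, res_apply, rep_apply, D.S_apply (D.apply_mem_T (inv_mem v.2) t.2),
          D.S_apply t.2])
    have h1 := D.avg_eq S'
    rw [Finset.sum_congr rfl (g := fun _ => S') fun v _ => by
      show D.rep (v : G) (D.rep z D.S) = D.rep z D.S
      rw [← Module.End.mul_apply, ← map_mul, Subgroup.mem_center_iff.1 hz (v : G), map_mul,
        Module.End.mul_apply, hfix v],
      Finset.sum_const, Finset.card_univ, ← Nat.cast_smul_eq_nsmul ℂ] at h1
    have hne : (Fintype.card (D.P : Subgroup G) : ℂ) ≠ 0 := Nat.cast_ne_zero.2 Fintype.card_ne_zero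
    have h2 : S' = ((Fintype.card (D.P : Subgroup G) : ℂ)⁻¹ * ∑ s : D.T, (S' : X → ℂ) s) • D.S := by
      rw [mul_smul, ← h1, smul_smul, inv_mul_cancel₀ hne, one_smul]
    have h3 := congrArg (fun f : D.Z => (f : X → ℂ) D.x₀) h2
    rw [show (S' : X → ℂ) D.x₀ = (D.S : X → ℂ) D.x₀ by
      rw [rep_apply, inv_smul_eq_iff.2 hx.symm]] at h3
    simp only [SetLike.val_smul, Pi.smul_apply, smul_eq_mul] at h3
    rw [h2, (mul_eq_right₀ D.S_x₀_ne).1 h3.symm, one_smul]
  have htop := (((Chars.isIrreducible_iff _).1 D.irreducible).2 W.toSubmodule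
    (fun g v hv => W.apply_mem_toSubmodule g hv)).resolve_left fun h => D.S_x₀_ne (by
      have h4 := (Submodule.mem_bot ℂ).1 (h ▸ hS)
      rw [h4]; rfl)
  have h1 : D.rep z = 1 := sub_eq_zero.1 (LinearMap.ker_eq_top.1 htop)
  show D.rep.character z = D.rep.character 1
  simp only [Representation.character, h1, map_one]

/-- The character of a quotient by a central subgroup fixing `x₀`. -/
theorem exists_quotient [Fact p.Prime] (N : Subgroup G) [N.Normal] (hN : N ≤ Subgroup.center G)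
    (hx : ∀ z ∈ N, z • D.x₀ = D.x₀) :
    ∃ χ : G ⧸ N → ℂ, IsIrrCharacter (G ⧸ N) χ ∧ ∀ Q : Sylow p (G ⧸ N),
      χ 1 = Nat.card Q ∧ ∀ x : G ⧸ N, x ∈ Q → x ≠ 1 → χ x = 0 := by
  obtain ⟨ψ, hψ, hψe⟩ := exists_deflate_irr N D.isIrr_chi fun z hz => D.chi_central (hN hz) (hx z hz)
  have hsurj := QuotientGroup.mk'_surjective N
  -- a nontrivial `p`-element of `N` would move `t₀` or have vanishing character
  have hNp : ∀ u ∈ (D.P : Subgroup G), u ∈ N → u = 1 := fun u hu huN => by
    by_contra h1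
    have h2 := D.chi_central (hN huN) (hx u huN)
    rw [D.chi_on_P hu, D.chi_on_P (one_mem _), if_neg h1, if_pos rfl] at h2
    exact Nat.cast_ne_zero.2 Nat.card_pos.ne' h2.symm
  refine ⟨ψ, hψ, fun Q => ?_⟩
  obtain ⟨R, rfl⟩ := Sylow.mapSurjective_surjective hsurj p Q
  obtain ⟨h1, h2⟩ := D.chi_sylow R
  have hinj : ∀ u ∈ (R : Subgroup G), u ∈ N → u = 1 := fun u hu huN => by
    obtain ⟨g, hg⟩ := MulAction.exists_smul_eq G D.P R
    subst hg
    rw [Sylow.coe_subgroup_smul, Subgroup.mem_pointwise_smul_iff_inv_smul_mem] at hu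
    have h3 := hNp _ hu (by
      rw [MulAut.smul_def, MulAut.conj_inv_apply]
      simpa using (inferInstance : N.Normal).conj_mem u huN g⁻¹)
    rwa [inv_smul_eq_iff, smul_one] at h3
  have hcard : Nat.card (R.mapSurjective hsurj : Subgroup (G ⧸ N)) = Nat.card (R : Subgroup G) := by
    rw [Sylow.coe_mapSurjective]
    refine (Nat.card_congr (Equiv.ofBijective
      ((QuotientGroup.mk' N).subgroupMap (R : Subgroup G)) ⟨fun a b hab => ?_,
        (QuotientGroup.mk' N).subgroupMap_surjective _⟩)).symm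
    have h5 : ((a : G) : G ⧸ N) = ((b : G) : G ⧸ N) := congrArg Subtype.val hab
    exact Subtype.ext (inv_mul_eq_one.1
      (hinj _ (mul_mem (inv_mem a.2) b.2) (QuotientGroup.eq.1 h5)))
  refine ⟨?_, fun x hx' hx1 => ?_⟩
  · rw [hcard, ← h1, congrFun hψe 1, QuotientGroup.mk_one]
  · have hx'' : x ∈ Subgroup.map (QuotientGroup.mk' N) (R : Subgroup G) := by
      rw [← Sylow.coe_mapSurjective hsurj R]; exact hx'
    obtain ⟨r, hr, rfl⟩ := hx''
    show ψ (r : G ⧸ N) = 0
    rw [← congrFun hψe r]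
    exact h2 r hr fun h => hx1 (by rw [h, map_one])

end Data

end CfsgLib.CharsMore.St
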