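import Cfsg.Agent.Lib.CharsMore.St.Act
import Cfsg.Agent.Lib.CharsMore.St.Chamber

/-!
# The Steinberg character of a group with root elements on a polar space
-/

set_option linter.unusedSectionVars false
set_option linter.style.haveILetI false

namespace CfsgLib.CharsMore.St

universe u v w

namespace Polar

namespace Act

variable {F : Type u} [Field F] {V : Type v} [AddCommGroup V] [Module F V] {m : ℕ}
  {Q : Polar F V m} {p : ℕ} {G : Type w} [Group G] (A : Q.Act p G) [Finite G]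
  [FiniteDimensional F V]

/-! ### The chambers fixed by the unipotent subgroup -/

theorem fixed_step {x : A.Cham} (hx : ∀ g ∈ A.K, g • x = x) (i : Fin m)
    (hlt : ∀ j < i, Q.e j ∈ x.1 j) :
    Q.e i ∈ x.1 i ∨ ((i : ℕ) + 1 = m ∧ ¬ Q.Fat ∧ Q.f i ∈ x.1 i) := by
  classical
  have hE : A.eLT i ≤ x.1 i := Submodule.span_le.2 (by
    rintro _ ⟨j, hj, rfl⟩; exact x.2.2.1 (le_of_lt hj) (hlt j hj))
  have hEcard : Module.finrank F (A.eLT i) = (i : ℕ) := by
    rw [eLT, Set.image_eq_range, finrank_span_eq_card (b := fun j : Set.Iio i => Q.e j)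
      (Q.linearIndependent_fr.comp (fun j : Set.Iio i => ((j : Fin m), false))
        (fun a b h => Subtype.ext (congrArg Prod.fst h)))]
    simp
  have hElt : A.eLT i < x.1 i := lt_of_le_of_ne hE fun h => by
    have := x.2.1 i
    rw [← h, hEcard] at this
    omega
  obtain ⟨z, hz, hz'⟩ := SetLike.exists_of_lt hElt
  let y := ∑ j ∈ Finset.Iio i, Q.β j z • Q.e j
  have hyE : y ∈ A.eLT i := Submodule.sum_mem _ fun j hj =>
    Submodule.smul_mem _ _ (Submodule.subset_span ⟨j, Finset.mem_Iio.1 hj, rfl⟩)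
  let v := z - y
  have hv : v ∈ x.1 i := sub_mem hz (hE hyE)
  have hv' : v ∉ A.eLT i := fun h => hz' (by simpa [v] using add_mem h hyE)
  have hv0 : v ≠ 0 := fun h => hv' (h ▸ zero_mem _)
  have hvs : Q.sing v := (x.2.2.2 i).1 v hv
  have hαlt : ∀ j < i, Q.α j v = 0 := fun j hj =>
    (x.2.2.2 i).2 v hv _ (x.2.2.1 hj.le (hlt j hj))
  have hβlt : ∀ j < i, Q.β j v = 0 := fun j hj => by
    simp [v, y, Q.β_apply, Q.sub_left, Q.sum_left, Q.smul_left, Q.h_ef, hj]
  -- the vectors of the `i`-th member without initial coordinates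
  have honly : ∀ u ∈ x.1 i, (∀ j < i, Q.β j u = 0) → ∃ c : F, u = c • v := by
    intro u hu hβu
    haveI : Nonempty (Fin m) := ⟨i⟩
    have heq : A.eLT i ⊔ Submodule.span F {v} = x.1 i := by
      refine Submodule.eq_of_le_of_finrank_le
        (sup_le hE ((Submodule.span_singleton_le_iff_mem _ _).2 hv)) ?_
      have hlt' : A.eLT i < A.eLT i ⊔ Submodule.span F {v} := lt_of_le_of_ne le_sup_left fun h =>
        hv' (h ▸ Submodule.mem_sup_right (Submodule.mem_span_singleton_self v))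
      have := Submodule.finrank_lt_finrank_of_lt hlt'
      rw [hEcard] at this
      rw [x.2.1 i]
      omega
    rw [← heq, Submodule.mem_sup] at hu
    obtain ⟨a, ha, b, hb, rfl⟩ := hu
    obtain ⟨c, rfl⟩ := Submodule.mem_span_singleton.1 hb
    refine ⟨c, ?_⟩
    rw [Q.aniso a ((x.2.2.2 i).1 a (hE ha)) (Q.α_eSpan (A.eLT_le i ha)) (fun j => ?_), zero_add]
    rcases lt_or_ge j i with h | h
    · have h1 := hβu j h
      rw [map_add, map_smul, hβlt j h, smul_zero, add_zero] at h1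
      exact h1
    · exact A.β_eLT h ha
  -- moving `v` by root elements
  have move : ∀ (w : V) (c : F), (∀ j ≤ i, Q.h w (Q.e j) = 0) → (∀ j < i, Q.h w (Q.f j) = 0) →
      Q.h w (Q.f i) = 0 → Q.sing (Q.f i + Q.ε • w + (Q.ε * c) • Q.e i) →
      ∃ d : F, Q.h v (Q.e i) • w + (-(Q.ε * Q.h v w) + c * Q.h v (Q.e i)) • Q.e i = d • v := by
    intro w c hwe hwf hwi hs
    obtain ⟨g, hg, hρ⟩ := A.exists_mem_K i w c hwe hwi hs
    refine honly _ ?_ fun j hj => ?_
    · have := sub_mem (A.mem_of_fixed (hx g hg) hv) hv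
      rwa [hρ, add_assoc, add_sub_cancel_left] at this
    · simp [Q.β_apply, Q.add_left, Q.smul_left, hwf j hj, Q.h_ef, hj.ne']
  by_cases hαi : Q.α i v = 0
  · left
    by_contra he
    have hsmall : ∀ u : V, (∀ j ≤ i, Q.h u (Q.e j) = 0) → (∀ j ≤ i, Q.h u (Q.f j) = 0) →
        Q.sing u → Q.h v u = 0 := by
      intro u hue huf hus
      obtain ⟨d, hd⟩ := move u 0 hue (fun j hj => huf j hj.le) (huf i le_rfl) (by
        rw [mul_zero, zero_smul, add_zero]
        refine Q.sing_add (Q.sing_f i) (Q.sing_smul _ hus) ?_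
        rw [Q.smul_right, Q.comm_zero (huf i le_rfl), mul_zero])
      rw [show Q.h v (Q.e i) = 0 from hαi, zero_smul, zero_add, mul_zero, add_zero] at hd
      by_contra hne
      apply he
      have h1 := (x.1 i).smul_mem (-(Q.ε * Q.h v u))⁻¹ ((x.1 i).smul_mem d hv)
      rwa [← hd, smul_smul, inv_mul_cancel₀ (neg_ne_zero.2 (mul_ne_zero Q.ε_ne hne)), one_smul]
        at h1
    have hα : ∀ j, Q.α j v = 0 := fun j => by
      rcases lt_trichotomy j i with h | rfl | h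
      · exact hαlt j h
      · exact hαi
      · exact hsmall _ (fun k _ => Q.h_ee j k)
          (fun k hk => by rw [Q.h_ef, if_neg (lt_of_le_of_lt hk h).ne']) (Q.sing_e j)
    have hβ : ∀ j, j ≠ i → Q.β j v = 0 := fun j hj => by
      rcases lt_or_gt_of_ne hj with h | h
      · exact hβlt j h
      · exact hsmall _ (fun k hk => by rw [Q.h_fe, if_neg (lt_of_le_of_lt hk h).ne'])
          (fun k _ => Q.h_ff j k) (Q.sing_f j)
    have hve : v = Q.β i v • Q.e i := by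
      conv_lhs => rw [Q.eq_sum hvs hα]
      exact Finset.sum_eq_single i (fun j _ hj => by rw [hβ j hj, zero_smul]) (by simp)
    have hne : Q.β i v ≠ 0 := fun h => hv0 (by rw [hve, h, zero_smul])
    have h1 := (x.1 i).smul_mem (Q.β i v)⁻¹ hv
    rw [hve, smul_smul] at h1
    have h2 : (Q.β i v)⁻¹ * Q.β i v = 1 := inv_mul_cancel₀ hne
    rw [← hve, h2, one_smul] at h1
    exact he h1
  · have hlast : ∀ j, ¬ i < j := fun j hj => by
      obtain ⟨d, hd⟩ := move (Q.e j) 0 (fun k _ => Q.h_ee j k)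
        (fun k hk => by rw [Q.h_ef, if_neg (hk.trans hj).ne'])
        (by rw [Q.h_ef, if_neg hj.ne']) (by
        rw [mul_zero, zero_smul, add_zero]
        exact Q.sing_add (Q.sing_f i) (Q.sing_smul _ (Q.sing_e j))
          (by rw [Q.smul_right, Q.h_fe, if_neg hj.ne, mul_zero]))
      have h1 := congrArg (Q.α i) hd
      have h2 := congrArg (Q.β j) hd
      rw [map_smul, map_add, map_smul, map_smul, show Q.α i (Q.e j) = 0 from Q.h_ee j i,
        show Q.α i (Q.e i) = 0 from Q.h_ee i i, smul_zero, smul_zero, add_zero, smul_eq_mul] at h1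
      rw [(mul_eq_zero.1 h1.symm).resolve_right hαi, zero_smul, map_zero, map_add, map_smul,
        map_smul, show Q.β j (Q.e j) = 1 by simp [Q.β_apply, Q.h_ef],
        show Q.β j (Q.e i) = 0 by simp [Q.β_apply, Q.h_ef, hj.ne], smul_zero, add_zero,
        smul_eq_mul, mul_one] at h2
      exact hαi h2
    have hi : (i : ℕ) + 1 = m := by
      by_contra h
      have := i.isLt
      exact hlast ⟨(i : ℕ) + 1, by omega⟩ (Fin.lt_def.2 (Nat.lt_succ_self _))
    right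
    have hF : ¬ Q.Fat := fun hF => by
      obtain ⟨w, c, hne, hw, hs⟩ := hF i
      obtain ⟨d, hd⟩ := move w c (fun j _ => (hw j).1) (fun j _ => (hw j).2) (hw i).2 hs
      have h1 := congrArg (Q.α i) hd
      rw [map_smul, map_add, map_smul, map_smul, show Q.α i w = 0 from (hw i).1,
        show Q.α i (Q.e i) = 0 from Q.h_ee i i, smul_zero, smul_zero, add_zero, smul_eq_mul] at h1
      have hd0 : d = 0 := (mul_eq_zero.1 h1.symm).resolve_right hαi
      rw [hd0, zero_smul] at hd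
      have h2 := congrArg (Q.β i) hd
      rw [map_add, map_smul, map_smul, show Q.β i w = 0 from (hw i).2,
        show Q.β i (Q.e i) = 1 by simp [Q.β_apply, Q.h_ef], smul_zero, zero_add, smul_eq_mul,
        mul_one, map_zero] at h2
      rw [h2, zero_smul, add_zero] at hd
      have hw0 : w = 0 := (smul_eq_zero.1 hd).resolve_left hαi
      rw [hw0, Q.zero_right, mul_zero, neg_zero, zero_add] at h2
      exact (hne.resolve_left (not_not.2 hw0)) ((mul_eq_zero.1 h2).resolve_right hαi)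
    refine ⟨hi, hF, ?_⟩
    have hjlt : ∀ j, j ≠ i → j < i := fun j hj => lt_of_le_of_ne (not_lt.1 (hlast j)) hj
    rcases thin_cases hF hvs (fun j hj => hαlt j (hjlt j hj)) (fun j hj => hβlt j (hjlt j hj))
      with h | h
    · exfalso
      apply hαi
      rw [h, map_smul, show Q.α i (Q.e i) = 0 from Q.h_ee i i, smul_zero]
    · have h1 := (x.1 i).smul_mem (Q.ε * Q.α i v)⁻¹ hv
      have h2 : (Q.ε * Q.α i v)⁻¹ • v = Q.f i := by
        conv_lhs => arg 2; rw [h]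
        rw [smul_smul, inv_mul_cancel₀ (mul_ne_zero Q.ε_ne hαi), one_smul]
      rwa [h2] at h1

/-- The other chamber that the unipotent subgroup can fix. -/
def x₁ (l : Fin m) : A.Cham := A.cw (1, Function.update (fun _ => false) l true)

theorem fixed_cases {x : A.Cham} (hx : ∀ g ∈ A.K, g • x = x) :
    x = A.x₀ ∨ (¬ Q.Fat ∧ ∃ l : Fin m, (l : ℕ) + 1 = m ∧ x = A.x₁ l) := by
  have key : ∀ i : Fin m, Q.e i ∈ x.1 i ∨ ((i : ℕ) + 1 = m ∧ ¬ Q.Fat ∧ Q.f i ∈ x.1 i) := by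
    intro i
    induction i using WellFoundedLT.induction with
    | _ i ih =>
      refine A.fixed_step hx i fun j hj => (ih j hj).resolve_right fun h => ?_
      have := Fin.lt_def.1 hj
      have := i.isLt
      omega
  by_cases h : ∀ i, Q.e i ∈ x.1 i
  · exact Or.inl (A.eq_cw h)
  push Not at h
  obtain ⟨l, hl⟩ := h
  obtain ⟨hlast, hF, hfl⟩ := (key l).resolve_left hl
  refine Or.inr ⟨hF, l, hlast, A.eq_cw fun j => ?_⟩
  rcases eq_or_ne j l with rfl | hj
  · simpa [vec, fr] using hfl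
  · have h1 : Q.e j ∈ x.1 j := (key j).resolve_right fun h => hj (Fin.ext (by omega))
    simpa [vec, fr, hj] using h1

/-- In the orbit of the standard chamber only this chamber is fixed. -/
theorem fixed_eq {h : G} (hx : ∀ g ∈ A.K, g • h • A.x₀ = h • A.x₀) : h • A.x₀ = A.x₀ := by
  rcases A.fixed_cases hx with h1 | ⟨hF, l, hl, h1⟩
  · exact h1
  exfalso
  refine (A.fat_or.resolve_left hF) h l hl ?_
  have h2 := congrArg (fun y : A.Cham => y.1 l) h1
  simp only [A.smul_val] at h2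
  have h3 : A.x₀.1 l = Q.eSpan := by
    refine (Q.wflag_eq_range _ hl).trans ?_
    rfl
  rw [← h3, h2]
  refine (Q.wflag_eq_range _ hl).trans (congrArg _ (congrArg _ (funext fun j => ?_)))
  rcases eq_or_ne j l with rfl | hj
  · simp [vec, fr]
  · simp [vec, fr, hj]

theorem center_fix {z : G} (hz : z ∈ Subgroup.center G) : z • A.x₀ = A.x₀ :=
  A.fixed_eq fun g hg => by
    rw [← mul_smul, Subgroup.mem_center_iff.1 hz g, mul_smul, A.fix_x₀ hg]

theorem free {g : G} (hg : g ∈ A.K) [Fact p.Prime] [CharP F p] (h : g • A.t₀ = A.t₀) : g = 1 := by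
  obtain ⟨k, hk⟩ := A.isPGroup_K ⟨g, hg⟩
  exact A.eq_one_of_fix ⟨k, congrArg Subtype.val hk⟩ (A.fix_x₀ hg) h

theorem exists_sylow [Fact p.Prime] [CharP F p] : ∃ P : Sylow p G, (P : Subgroup G) = A.K := by
  obtain ⟨P, hle⟩ := A.isPGroup_K.exists_le_sylow
  refine ⟨P, le_antisymm ?_ hle⟩
  by_contra hne
  haveI : Group.IsNilpotent (P : Subgroup G) := P.isPGroup'.isNilpotent
  have hlt : A.K.subgroupOf (P : Subgroup G) < ⊤ := lt_top_iff_ne_top.2 fun h =>
    hne (Subgroup.subgroupOf_eq_top.1 h)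
  obtain ⟨⟨n, hnP⟩, hn, hnK⟩ := SetLike.exists_of_lt
    (Group.normalizerCondition_of_isNilpotent (G := (P : Subgroup G)) _ hlt)
  apply hnK
  rw [Subgroup.mem_subgroupOf]
  show n ∈ A.K
  have hconj : ∀ g ∈ A.K, n⁻¹ * g * n ∈ A.K := fun g hg => by
    have h1 := Subgroup.mem_normalizer_iff.1 (inv_mem hn) ⟨g, hle hg⟩
    simpa [Subgroup.mem_subgroupOf] using h1.1 (by simpa [Subgroup.mem_subgroupOf] using hg)
  have hnx : n • A.x₀ = A.x₀ := A.fixed_eq fun g hg => by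
    rw [show g • n • A.x₀ = n • (n⁻¹ * g * n) • A.x₀ by simp only [← mul_smul]; group,
      A.fix_x₀ (hconj g hg)]
  obtain ⟨u, hu, hut⟩ := A.exists_smul_eq (A.isOpp_smul hnx A.isOpp_t₀)
  obtain ⟨k, hk⟩ := P.isPGroup' (⟨u, hle hu⟩ * ⟨n, hnP⟩)
  have h1 := A.eq_one_of_fix (g := u * n) ⟨k, congrArg Subtype.val hk⟩
    (by rw [mul_smul, hnx, A.fix_x₀ hu]) (by rw [mul_smul, hut])
  rw [eq_inv_of_mul_eq_one_right h1]
  exact inv_mem hu

/-! ### Moving the standard chamber to an opposite one -/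

theorem ne_zero_fr (q : Fin m × Bool) : Q.fr q ≠ 0 := Q.linearIndependent_fr.ne_zero q

theorem flip (hF : Q.Fat) (i : Fin m) :
    ∃ g, (∃ c : F, A.ρ g (Q.e i) = c • Q.f i) ∧
      ∀ j, j ≠ i → A.ρ g (Q.e j) = Q.e j ∧ A.ρ g (Q.f j) = Q.f j := by
  obtain ⟨w, c, hne, hw, hs⟩ := hF i
  have hew : ∀ j, Q.h (Q.e j) w = 0 ∧ Q.h (Q.f j) w = 0 := fun j =>
    ⟨Q.comm_zero (hw j).1, Q.comm_zero (hw j).2⟩
  have hc : c ≠ 0 := by
    intro hc
    rw [hc, mul_zero, zero_smul, add_zero] at hs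
    have h1 : Q.sing ((Q.f i + Q.ε • w) + (-1 : F) • Q.f i) :=
      Q.sing_add hs (Q.sing_smul _ (Q.sing_f i))
        (by simp [Q.add_left, Q.smul_left, Q.neg_right, Q.h_ff, (hw i).2])
    rw [show (Q.f i + Q.ε • w) + (-1 : F) • Q.f i = Q.ε • w by module] at h1
    have h2 : Q.ε • w = 0 := Q.aniso _ h1 (fun j => by simp [Q.smul_left, (hw j).1])
      (fun j => by simp [Q.smul_left, (hw j).2])
    exact hne.elim ((smul_eq_zero.1 h2).resolve_left Q.ε_ne ▸ fun h => h rfl) fun h => h hc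
  obtain ⟨g₁, h₁⟩ := A.elem (Q.e i) (Q.f i) w (Q.sing_e i) (Q.sing_f i) (by simp [Q.h_ef])
    (hw i).1 (hw i).2 c hs
  have hsum : Q.ε • Q.e i + Q.ε • c⁻¹ • w + (Q.ε * (Q.ε * c⁻¹)) • Q.f i =
      c⁻¹ • (Q.f i + Q.ε • w + (Q.ε * c) • Q.e i) := by
    simp only [smul_add, smul_smul, ← mul_assoc, Q.ε_mul, one_mul]
    rw [show c⁻¹ * Q.ε * c = Q.ε by field_simp, mul_comm Q.ε c⁻¹]
    abel
  obtain ⟨g₂, h₂⟩ := A.elem (Q.f i) (Q.ε • Q.e i) (c⁻¹ • w) (Q.sing_f i)
    (Q.sing_smul _ (Q.sing_e i)) (by simp [Q.smul_right, Q.h_fe, Q.σ_ε, Q.ε_mul])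
    (by simp [Q.smul_left, (hw i).2]) (by simp [Q.smul_left, Q.smul_right, (hw i).1])
    (Q.ε * c⁻¹) (hsum ▸ Q.sing_smul _ hs)
  have hg₁f : A.ρ g₁ (Q.f i) = Q.f i + Q.ε • w + (Q.ε * c) • Q.e i := by
    simp [h₁, Q.h_fe, (hew i).2, mul_comm c Q.ε]
  refine ⟨g₁⁻¹ * g₂, ⟨Q.ε * c⁻¹, ?_⟩, fun j hj => ?_⟩
  · have h3 : A.ρ g₂ (Q.ε • Q.e i) = c⁻¹ • A.ρ g₁ (Q.f i) := by
      rw [hg₁f, ← hsum, h₂]
      simp [Q.smul_left, Q.smul_right, Q.h_ef, (hew i).1, Q.ε_mul, mul_comm (Q.ε * c⁻¹) Q.ε]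
    have h4 : A.ρ g₂ (Q.e i) = (Q.ε * c⁻¹) • A.ρ g₁ (Q.f i) := by
      rw [← one_smul F (Q.e i), ← Q.ε_mul, ← smul_smul, map_smul, h3, smul_smul]
    rw [A.ρ_mul, h4, map_smul, A.ρ_inv_ρ]
  · have ha : A.ρ g₁ (Q.e j) = Q.e j ∧ A.ρ g₁ (Q.f j) = Q.f j := by
      simp [h₁, Q.h_ee, Q.h_fe, hj, (hew j).1, (hew j).2]
    have hb : A.ρ g₂ (Q.e j) = Q.e j ∧ A.ρ g₂ (Q.f j) = Q.f j := by
      simp [h₂, Q.smul_right, Q.h_ef, Q.h_ff, hj, (hew j).1, (hew j).2]
    refine ⟨?_, ?_⟩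
    · rw [A.ρ_mul, hb.1]; conv_lhs => rw [← ha.1]
      rw [A.ρ_inv_ρ]
    · rw [A.ρ_mul, hb.2]; conv_lhs => rw [← ha.2]
      rw [A.ρ_inv_ρ]

theorem swap_pairs {x x' y y' : V} (sx : Q.sing x) (sx' : Q.sing x') (sy : Q.sing y)
    (sy' : Q.sing y') (hxx : Q.h x x' = 1) (hyy : Q.h y y' = 1) (hxy : Q.h x y = 0)
    (hxy' : Q.h x y' = 0) (hx'y : Q.h x' y = 0) (hx'y' : Q.h x' y' = 0) :
    ∃ g, A.ρ g x = -y ∧ A.ρ g y = x ∧ A.ρ g x' = -y' ∧ A.ρ g y' = x' ∧
      ∀ v, Q.h v x = 0 → Q.h v x' = 0 → Q.h v y = 0 → Q.h v y' = 0 → A.ρ g v = v := by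
  have hxs : Q.h x' x = Q.ε := by rw [Q.swap, hxx, map_one, mul_one]
  have hys : Q.h y' y = Q.ε := by rw [Q.swap, hyy, map_one, mul_one]
  obtain ⟨a, ha⟩ := A.elem x x' ((-Q.ε) • y') sx sx' hxx
    (by simp [Q.neg_left, Q.smul_left, Q.comm_zero hxy'])
    (by simp [Q.neg_left, Q.smul_left, Q.comm_zero hx'y']) 0 (by
      rw [mul_zero, zero_smul, add_zero, smul_smul]
      exact Q.sing_add sx' (Q.sing_smul _ sy') (by rw [Q.smul_right, hx'y', mul_zero]))
  obtain ⟨b, hb⟩ := A.elem y y' (Q.ε • x') sy sy' hyy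
    (by simp [Q.smul_left, hx'y]) (by simp [Q.smul_left, hx'y']) 0 (by
      rw [mul_zero, zero_smul, add_zero, smul_smul]
      exact Q.sing_add sy' (Q.sing_smul _ sx') (by
        rw [Q.smul_right, Q.comm_zero hx'y', mul_zero]))
  have hax : A.ρ a x = x := by simp [ha, Q.self_of_sing sx, Q.smul_right, Q.neg_right, hxy']
  have hay' : A.ρ a y' = y' := by
    simp [ha, Q.comm_zero hxy', Q.smul_right, Q.neg_right, Q.self_of_sing sy']
  have hay : A.ρ a y = y + x := by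
    simp [ha, Q.comm_zero hxy, Q.smul_right, Q.neg_right, hyy, Q.σ_ε, Q.ε_mul]
  have hax' : A.ρ a x' = x' - y' := by
    simp [ha, hxs, Q.smul_right, Q.neg_right, hx'y', smul_smul, Q.ε_mul]
    abel
  have hby : A.ρ b y = y := by simp [hb, Q.self_of_sing sy, Q.smul_right, Q.comm_zero hx'y]
  have hbx' : A.ρ b x' = x' := by
    simp [hb, hx'y, Q.smul_right, Q.self_of_sing sx']
  have hbx : A.ρ b x = x - y := by
    simp [hb, hxy, Q.smul_right, hxx, Q.σ_ε, Q.ε_mul]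
    abel
  have hby' : A.ρ b y' = y' + x' := by
    simp [hb, hys, Q.smul_right, Q.comm_zero hx'y', smul_smul, Q.ε_mul]
  refine ⟨a * b * a, ?_, ?_, ?_, ?_, fun v v1 v2 v3 v4 => ?_⟩
  · simp only [A.ρ_mul, hax, hbx, map_sub, hay]; abel
  · simp only [A.ρ_mul, hay, map_add, hby, hbx, map_sub, hax]; abel
  · simp only [A.ρ_mul, hax', map_sub, hbx', hby', map_add, hay']; abel
  · simp only [A.ρ_mul, hay', hby', map_add, hax']; abel
  · have h1 : A.ρ a v = v := by simp [ha, v1, v4, Q.smul_right, Q.neg_right]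
    have h2 : A.ρ b v = v := by simp [hb, v3, v2, Q.smul_right]
    simp only [A.ρ_mul, h1, h2]

theorem flip_two {i j : Fin m} (hij : i ≠ j) :
    ∃ g, (∃ c : F, A.ρ g (Q.e i) = c • Q.f i) ∧ (∃ c : F, A.ρ g (Q.e j) = c • Q.f j) ∧
      ∀ k, k ≠ i → k ≠ j → A.ρ g (Q.e k) = Q.e k ∧ A.ρ g (Q.f k) = Q.f k := by
  obtain ⟨g, g1, g2, g3, g4, g5⟩ := A.swap_pairs (Q.sing_e i) (Q.sing_f i) (Q.sing_f j)
    (Q.sing_smul Q.ε (Q.sing_e j)) (by simp [Q.h_ef])
    (by simp [Q.smul_right, Q.h_fe, Q.σ_ε, Q.ε_mul]) (by simp [Q.h_ef, hij])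
    (by simp [Q.smul_right, Q.h_ee]) (Q.h_ff i j) (by simp [Q.smul_right, Q.h_fe, hij])
  obtain ⟨k, k1, k2, k3, k4, k5⟩ := A.swap_pairs (Q.sing_f i) (Q.sing_smul Q.ε (Q.sing_e i))
    (Q.sing_f j) (Q.sing_smul Q.ε (Q.sing_e j))
    (by simp [Q.smul_right, Q.h_fe, Q.σ_ε, Q.ε_mul])
    (by simp [Q.smul_right, Q.h_fe, Q.σ_ε, Q.ε_mul]) (Q.h_ff i j)
    (by simp [Q.smul_right, Q.h_fe, hij]) (by simp [Q.smul_left, Q.h_ef, hij])
    (by simp [Q.smul_left, Q.smul_right, Q.h_ee])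
  refine ⟨k * g, ⟨-1, ?_⟩, ⟨-Q.ε, ?_⟩, fun l hli hlj => ⟨?_, ?_⟩⟩
  · rw [A.ρ_mul, g1, map_neg, k2, neg_one_smul]
  · have h : Q.e j = Q.ε • Q.ε • Q.e j := by rw [smul_smul, Q.ε_mul, one_smul]
    rw [A.ρ_mul, h, map_smul, g4, map_smul, k1, smul_neg, neg_smul]
  · rw [A.ρ_mul, g5 _ (Q.h_ee l i) (by simp [Q.h_ef, hli]) (by simp [Q.h_ef, hlj])
      (by simp [Q.smul_right, Q.h_ee]), k5 _ (by simp [Q.h_ef, hli])
      (by simp [Q.smul_right, Q.h_ee]) (by simp [Q.h_ef, hlj]) (by simp [Q.smul_right, Q.h_ee])]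
  · rw [A.ρ_mul, g5 _ (by simp [Q.h_fe, hli]) (Q.h_ff l i) (Q.h_ff l j)
      (by simp [Q.smul_right, Q.h_fe, hlj]), k5 _ (Q.h_ff l i)
      (by simp [Q.smul_right, Q.h_fe, hli]) (Q.h_ff l j) (by simp [Q.smul_right, Q.h_fe, hlj])]

theorem exists_flips (hF : Q.Fat) (k : ℕ) (hk : k ≤ m) :
    ∃ g, (∀ j : Fin m, (j : ℕ) < k → ∃ c : F, A.ρ g (Q.e j) = c • Q.f j) ∧
      ∀ j : Fin m, k ≤ (j : ℕ) → A.ρ g (Q.e j) = Q.e j ∧ A.ρ g (Q.f j) = Q.f j := by
  induction k with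
  | zero => exact ⟨1, fun j hj => absurd hj (by omega), fun j _ => ⟨A.ρ_one _, A.ρ_one _⟩⟩
  | succ k ih =>
    obtain ⟨g, g1, g2⟩ := ih (by omega)
    obtain ⟨i, hi⟩ : ∃ i : Fin m, (i : ℕ) = k := ⟨⟨k, by omega⟩, rfl⟩
    obtain ⟨r, ⟨c, r1⟩, r2⟩ := A.flip hF i
    refine ⟨r * g, fun j hj => ?_, fun j hj => ?_⟩
    · rcases Nat.lt_succ_iff_lt_or_eq.1 hj with hj | hj
      · obtain ⟨d, hd⟩ := g1 j hj
        exact ⟨d, by rw [A.ρ_mul, hd, map_smul, (r2 j (fun e => by subst e; omega)).2]⟩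
      · obtain rfl : j = i := Fin.ext (by omega)
        exact ⟨c, by rw [A.ρ_mul, (g2 j (by omega)).1, r1]⟩
    · have hne : j ≠ i := fun e => by subst e; omega
      exact ⟨by rw [A.ρ_mul, (g2 j (by omega)).1, (r2 j hne).1],
        by rw [A.ρ_mul, (g2 j (by omega)).2, (r2 j hne).2]⟩

theorem exists_flips_two (k : ℕ) (hk : 2 * k ≤ m) :
    ∃ g, (∀ j : Fin m, (j : ℕ) < 2 * k → ∃ c : F, A.ρ g (Q.e j) = c • Q.f j) ∧
      ∀ j : Fin m, 2 * k ≤ (j : ℕ) → A.ρ g (Q.e j) = Q.e j ∧ A.ρ g (Q.f j) = Q.f j := by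
  induction k with
  | zero => exact ⟨1, fun j hj => absurd hj (by omega), fun j _ => ⟨A.ρ_one _, A.ρ_one _⟩⟩
  | succ k ih =>
    obtain ⟨g, g1, g2⟩ := ih (by omega)
    obtain ⟨a, ha⟩ : ∃ a : Fin m, (a : ℕ) = 2 * k := ⟨⟨2 * k, by omega⟩, rfl⟩
    obtain ⟨b, hb⟩ : ∃ b : Fin m, (b : ℕ) = 2 * k + 1 := ⟨⟨2 * k + 1, by omega⟩, rfl⟩
    obtain ⟨r, ⟨c, r1⟩, ⟨c', r1'⟩, r2⟩ := A.flip_two (i := a) (j := b)
      (fun e => by subst e; omega)
    refine ⟨r * g, fun j hj => ?_, fun j hj => ?_⟩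
    · rcases (show (j : ℕ) < 2 * k ∨ (j : ℕ) = 2 * k ∨ (j : ℕ) = 2 * k + 1 by omega)
        with hj | hj | hj
      · obtain ⟨d, hd⟩ := g1 j hj
        exact ⟨d, by rw [A.ρ_mul, hd, map_smul,
          (r2 j (fun e => by subst e; omega) (fun e => by subst e; omega)).2]⟩
      · obtain rfl : j = a := Fin.ext (by omega)
        exact ⟨c, by rw [A.ρ_mul, (g2 j (by omega)).1, r1]⟩
      · obtain rfl : j = b := Fin.ext (by omega)
        exact ⟨c', by rw [A.ρ_mul, (g2 j (by omega)).1, r1']⟩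
    · have h1 : j ≠ a := fun e => by subst e; omega
      have h2 : j ≠ b := fun e => by subst e; omega
      exact ⟨by rw [A.ρ_mul, (g2 j (by omega)).1, (r2 j h1 h2).1],
        by rw [A.ρ_mul, (g2 j (by omega)).2, (r2 j h1 h2).2]⟩

theorem smul_x₀_eq {g : G} {s : Fin m → Bool}
    (h : ∀ j, ∃ c : F, A.ρ g (Q.e j) = c • Q.fr (j, s j)) : g • A.x₀ = A.cw (1, s) := by
  refine A.eq_cw fun j => ?_
  obtain ⟨c, hc⟩ := h j
  have h1 : c ≠ 0 := fun h0 => ne_zero_fr (Q := Q) (j, false) ((A.ρ g).injective (by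
    rw [map_zero, Q.fr_false, hc, h0, zero_smul]))
  have h2 := ((g • A.x₀).1 j).smul_mem c⁻¹ (A.mem_smul (g := g) (A.e_mem_x₀ (le_refl j)))
  rwa [hc, smul_smul, inv_mul_cancel₀ h1, one_smul] at h2

theorem panel_t₀ (hF : ¬ Q.Fat) {l : Fin m} (hl : (l : ℕ) + 1 = m) {y : A.Cham}
    (hy : ∀ j, j ≠ l → y.1 j = A.t₀.1 j) :
    y = A.t₀ ∨ y = A.cw (1, Function.update (fun _ => true) l false) := by
  classical
  have hfj : ∀ j, j ≠ l → Q.f j ∈ y.1 j := fun j hj => (hy j hj).symm ▸ A.f_mem_t₀ le_rfl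
  have hle : ∀ j, j ≠ l → Q.f j ∈ y.1 l := fun j hj =>
    y.2.2.1 (Fin.le_def.2 (by have := j.isLt; omega)) (hfj j hj)
  have hb : below y.1 l < y.1 l := lt_of_le_of_ne (y.2.below_le l) fun h => by
    have := y.2.1 l
    rw [← h, y.2.finrank_below] at this
    omega
  obtain ⟨z, hz, hz'⟩ := SetLike.exists_of_lt hb
  let a := ∑ j ∈ Finset.univ.erase l, (Q.ε * Q.α j z) • Q.f j
  have ha : a ∈ below y.1 l := Submodule.sum_mem _ fun j hj => by
    have hjl := (Finset.mem_erase.1 hj).1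
    refine Submodule.smul_mem _ _ ?_
    have hm1 : 0 < (l : ℕ) := by
      rcases Nat.eq_zero_or_pos (l : ℕ) with h | h
      · exact absurd (Fin.ext (by have := j.isLt; omega)) hjl
      · exact h
    rw [below, dif_neg (by omega)]
    exact y.2.2.1 (Fin.le_def.2 (show (j : ℕ) ≤ (l : ℕ) - 1 by
      have := j.isLt
      have : (j : ℕ) ≠ (l : ℕ) := fun e => hjl (Fin.ext e)
      omega)) (hfj j hjl)
  let v := z - a
  have hv : v ∈ y.1 l := sub_mem hz (y.2.below_le l ha)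
  have hv0 : v ≠ 0 := fun h => hz' (by rw [sub_eq_zero.1 h]; exact ha)
  have hα : ∀ j, j ≠ l → Q.α j v = 0 := fun j hj => by
    simp [v, a, Q.α_apply, Q.sub_left, Q.sum_left, Q.smul_left, Q.h_fe, hj, Ne.symm hj]
    rw [mul_right_comm, Q.ε_mul, one_mul, sub_self]
  have hβ : ∀ j, j ≠ l → Q.β j v = 0 := fun j hj =>
    (y.2.2.2 l).2 v hv _ (hle j hj)
  have key : ∀ (u : V) (c : F), v = c • u → u ∈ y.1 l := fun u c h => by
    have hc : c ≠ 0 := fun h0 => hv0 (by rw [h, h0, zero_smul])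
    have h1 := (y.1 l).smul_mem c⁻¹ hv
    rwa [h, smul_smul, inv_mul_cancel₀ hc, one_smul] at h1
  rcases thin_cases hF ((y.2.2.2 l).1 v hv) hα hβ with h | h
  · refine Or.inr (A.eq_cw fun j => ?_)
    rcases eq_or_ne j l with rfl | hj
    · simpa [vec, fr] using key _ _ h
    · simpa [vec, fr, hj] using hfj j hj
  · refine Or.inl (A.eq_cw fun j => ?_)
    rcases eq_or_ne j l with rfl | hj
    · simpa [vec, fr] using key _ _ h
    · simpa [vec, fr] using hfj j hj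

/-! ### The Steinberg character -/

open scoped Classical in
include A in
theorem exists_steinberg [Finite F] [Finite V] [Fact p.Prime] [CharP F p] (N : Subgroup G) [N.Normal]
    (hN : N ≤ Subgroup.center G) :
    ∃ χ : G ⧸ N → ℂ, Cfsg.IsIrrCharacter (G ⧸ N) χ ∧ ∀ P : Sylow p (G ⧸ N),
      χ 1 = Nat.card P ∧ ∀ x : G ⧸ N, x ∈ P → x ≠ 1 → χ x = 0 := by
  letI : Fintype G := Fintype.ofFinite G
  letI : Fintype A.Cham := Fintype.ofFinite _
  obtain ⟨P, hP⟩ := A.exists_sylow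
  let pan : Fin m → A.Cham → Finset A.Cham := fun i x =>
    Finset.univ.filter fun y => ∀ j, j ≠ i → y.1 j = x.1 j
  have hpan : ∀ i x y, y ∈ pan i x ↔ ∀ j, j ≠ i → y.1 j = x.1 j := fun i x y => by simp [pan]
  obtain ⟨g₀, hg₀⟩ : ∃ g₀ : G, ∀ f : A.Cham → ℂ, (∀ i x, ∑ y ∈ pan i x, f y = 0) →
      f (g₀ • A.x₀) = 0 → f A.t₀ = 0 := by
    by_cases hF : Q.Fat
    · obtain ⟨g, hg, -⟩ := A.exists_flips hF m le_rfl
      refine ⟨g, fun f _ h => ?_⟩
      rwa [A.smul_x₀_eq (s := fun _ => true) fun j => hg j j.isLt] at h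
    · obtain ⟨g, hg1, hg2⟩ := A.exists_flips_two (m / 2) (by omega)
      refine ⟨g, fun f hf h => ?_⟩
      rcases Nat.even_or_odd m with hm | hm
      · obtain ⟨k, hk⟩ := hm
        rwa [A.smul_x₀_eq (s := fun _ => true) fun j => hg1 j (by have := j.isLt; omega)] at h
      obtain ⟨k, hk⟩ := hm
      obtain ⟨l, hl⟩ : ∃ l : Fin m, (l : ℕ) + 1 = m := ⟨⟨m - 1, by omega⟩, by simp; omega⟩
      rw [A.smul_x₀_eq (s := Function.update (fun _ => true) l false) fun j => ?_] at h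
      · have h2 := hf l A.t₀
        rw [show pan l A.t₀ = {A.t₀, A.cw (1, Function.update (fun _ => true) l false)} from ?_,
          Finset.sum_pair ?_, h, add_zero] at h2
        · exact h2
        · intro e
          have := congrFun (congrArg Prod.snd (Q.wchamber_injective e)) l
          simp at this
        · ext y
          rw [hpan, Finset.mem_insert, Finset.mem_singleton]
          refine ⟨A.panel_t₀ hF hl, ?_⟩
          rintro (rfl | rfl) j hj
          · rfl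
          · have h3 : ∀ a ∈ Set.Iic j, a ≠ l := fun a ha e => hj (Fin.ext (by
              subst e
              have := Fin.le_def.1 ha
              have := j.isLt
              omega))
            refine congrArg (Submodule.span F) (Set.image_congr fun a ha => ?_)
            simp [vec, h3 a ha]
      · rcases eq_or_ne j l with rfl | hj
        · exact ⟨1, by simp [fr, (hg2 j (by omega)).1]⟩
        · obtain ⟨c, hc⟩ := hg1 j (by
            have := j.isLt
            have : (j : ℕ) ≠ (l : ℕ) := fun e => hj (Fin.ext e)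
            omega)
          exact ⟨c, by simp [fr, hj, hc]⟩
  let C := Finset.univ.sup fun x : A.Cham => Q.depth x.1
  let D : Data p G A.Cham (Fin m) :=
    { panel := pan
      panel_smul := fun i g x => by
        ext y
        simp only [Finset.mem_map, hpan, Function.Embedding.coeFn_mk]
        refine ⟨fun h => ⟨g⁻¹ • y, fun j hj => ?_, smul_inv_smul g y⟩, ?_⟩
        · have h1 := h j hj
          rw [A.smul_val] at h1
          rw [A.smul_val, h1, ← Submodule.map_comp]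
          conv_rhs => rw [← Submodule.map_id (x.1 j)]
          exact congrArg (Submodule.map · (x.1 j)) (LinearMap.ext fun v => A.ρ_inv_ρ g v)
        · rintro ⟨z, hz, rfl⟩ j hj
          rw [A.smul_val, A.smul_val, hz j hj]
      mem_self := fun i x => (hpan i x x).2 fun _ _ => rfl
      level := fun x => C - Q.depth x.1
      T := {x | Q.IsOpp x.1}
      up := fun x hx => by
        obtain ⟨i, hi⟩ := exists_up x.2 hx
        refine ⟨i, fun y hy hne => ?_⟩
        have h1 := hi y.1 y.2 ((hpan i x y).1 hy) fun e => hne (Subtype.ext e)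
        have h2 : Q.depth x.1 ≤ C :=
          Finset.le_sup (f := fun x : A.Cham => Q.depth x.1) (Finset.mem_univ x)
        omega
      P := P
      x₀ := A.x₀
      t₀ := A.t₀
      fixed := fun u hu => A.fix_x₀ (hP ▸ hu)
      mem_T := fun t => by rw [hP]; exact A.mem_T_iff t
      free := fun u hu h => A.free (hP ▸ hu) h
      apt := Q.apt
      apt_sum := fun i x => Q.sum_apt i _ fun w hw => (hpan i x _).2 fun j hj =>
        (Q.wflag_refl i w hj).trans ((hpan i x _).1 hw j hj)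
      apt_T := fun t ht hne => Q.apt_eq_zero fun w hw => hne (by
        subst hw
        rw [Q.eq_of_isOpp ht]
        rfl)
      apt_t₀ := by rw [show A.t₀ = Q.wchamber _ from rfl, Q.apt_wchamber]; exact wsign_ne _
      apt_x₀ := by rw [show A.x₀ = Q.wchamber _ from rfl, Q.apt_wchamber]; exact wsign_ne _
      g₀ := g₀
      reach := hg₀ }
  exact D.exists_quotient N hN fun z hz => A.center_fix (hN hz)

end Act

end Polar

end CfsgLib.CharsMore.St
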