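import Cfsg.Agent.Lib.CharsMore.St.Frame

/-!
# Groups with root elements acting on a polar space

For a finite group of isometries of a polar space containing the root elements at singular vectors
we determine a Sylow subgroup of the characteristic and its orbit of chambers opposite to the
standard one.
-/

set_option linter.unusedSectionVars false
set_option linter.style.haveILetI false

namespace CfsgLib.CharsMore.St

universe u v w

namespace Polar

variable {F : Type u} [Field F] {V : Type v} [AddCommGroup V] [Module F V] {m : ℕ}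
  (Q : Polar F V m)

theorem neg_right (x y : V) : Q.h x (-y) = -Q.h x y := by
  rw [← neg_one_smul F y, Q.smul_right, map_neg, map_one, neg_one_mul]

/-- There are root elements at every frame vector with parameter orthogonal to the frame. -/
def Fat : Prop :=
  ∀ i, ∃ w c, (w ≠ 0 ∨ c ≠ 0) ∧ (∀ j, Q.h w (Q.e j) = 0 ∧ Q.h w (Q.f j) = 0) ∧
    Q.sing (Q.f i + Q.ε • w + (Q.ε * c) • Q.e i)

/-- A finite group of isometries containing the root elements. -/
structure Act (p : ℕ) (G : Type w) [Group G] where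
  ρ : G →* (V ≃ₗ[F] V)
  inj : Function.Injective ρ
  h_ρ : ∀ g x y, Q.h (ρ g x) (ρ g y) = Q.h x y
  sing_ρ : ∀ g x, Q.sing x → Q.sing (ρ g x)
  elem : ∀ a b w, Q.sing a → Q.sing b → Q.h a b = 1 → Q.h w a = 0 → Q.h w b = 0 → ∀ c,
    Q.sing (b + Q.ε • w + (Q.ε * c) • a) →
      ∃ g, ∀ v, ρ g v = v + Q.h v a • w + (-(Q.ε * Q.h v w) + c * Q.h v a) • a
  frame_fix : ∀ g, (∃ k, g ^ (p ^ k) = 1) → (∀ i, ρ g (Q.e i) = Q.e i) →
    (∀ i, ρ g (Q.f i) = Q.f i) → g = 1
  fat_or : Q.Fat ∨ ∀ (g : G) (l : Fin m), (l : ℕ) + 1 = m →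
    Submodule.map (ρ g).toLinearMap Q.eSpan ≠
      Submodule.span F (Set.range (Function.update Q.e l (Q.f l)))

variable {Q}

/-- Fatness at one index gives fatness at every index. -/
theorem fat_of_one {i : Fin m} {w : V} {c : F} (hne : w ≠ 0 ∨ c ≠ 0)
    (hw : ∀ j, Q.h w (Q.e j) = 0 ∧ Q.h w (Q.f j) = 0)
    (hs : Q.sing (Q.f i + Q.ε • w + (Q.ε * c) • Q.e i)) : Q.Fat := by
  intro j
  by_cases hij : j = i
  · subst hij; exact ⟨w, c, hne, hw, hs⟩
  refine ⟨w, Q.ε * Q.σ c, hne.imp_right fun hc => mul_ne_zero Q.ε_ne (fun h => hc (Q.σ_eq_zero.1 h)),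
    hw, ?_⟩
  have hwf : Q.h w (Q.f j) = 0 := (hw j).2
  have hwe : Q.h w (Q.e j) = 0 := (hw j).1
  have h1 : Q.sing ((Q.f i + Q.ε • w + (Q.ε * c) • Q.e i) + Q.f j) := by
    refine Q.sing_add hs (Q.sing_f j) ?_
    simp [Q.add_left, Q.smul_left, Q.h_ff, hwf, Q.h_ef, Ne.symm hij]
  have hp : Q.sing ((-1 : F) • Q.f i + Q.σ c • Q.e j) :=
    Q.sing_add (Q.sing_smul _ (Q.sing_f i)) (Q.sing_smul _ (Q.sing_e j))
      (by simp [Q.neg_left, Q.smul_right, Q.h_fe, Ne.symm hij])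
  have h2 : Q.sing ((Q.f i + Q.ε • w + (Q.ε * c) • Q.e i + Q.f j) +
      ((-1 : F) • Q.f i + Q.σ c • Q.e j)) := by
    refine Q.sing_add h1 hp ?_
    simp [Q.add_left, Q.add_right, Q.neg_right, Q.smul_left, Q.smul_right, Q.h_ff, Q.h_ee, Q.h_ef,
      Q.h_fe, (hw i).2, hwe, Q.σ_σ, hij, Ne.symm hij]
    linear_combination (0 : F)
  have h3 : Q.sing ((Q.f i + Q.ε • w + (Q.ε * c) • Q.e i + Q.f j +
      ((-1 : F) • Q.f i + Q.σ c • Q.e j)) + (-(Q.ε * c)) • Q.e i) := by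
    refine Q.sing_add h2 (Q.sing_smul _ (Q.sing_e i)) ?_
    simp [Q.add_left, Q.neg_left, Q.neg_right, Q.smul_left, Q.smul_right, Q.h_ee, Q.h_fe, (hw i).1, hij]
  rw [← mul_assoc, Q.ε_mul, one_mul]
  convert h3 using 1
  module

/-- In the thin case a singular vector supported at one index is on one of the two axes. -/
theorem thin_cases (hF : ¬ Q.Fat) {l : Fin m} {v : V} (hs : Q.sing v)
    (hα : ∀ j, j ≠ l → Q.α j v = 0) (hβ : ∀ j, j ≠ l → Q.β j v = 0) :
    v = Q.β l v • Q.e l ∨ v = (Q.ε * Q.α l v) • Q.f l := by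
  classical
  by_cases h : Q.α l v = 0
  · left
    conv_lhs => rw [Q.eq_sum hs fun j => (em (j = l)).elim (fun e => e ▸ h) (hα j)]
    exact Finset.sum_eq_single l (fun j _ hj => by rw [hβ j hj, zero_smul]) (by simp)
  right
  let t := Q.α l v
  let v' := (Q.ε * t⁻¹) • v
  have hv' : Q.sing v' := Q.sing_smul _ hs
  have hαv : Q.α l v' = Q.ε := by
    rw [map_smul, smul_eq_mul, mul_assoc, inv_mul_cancel₀ h, mul_one]
  let c := Q.ε * Q.β l v'
  let w := Q.ε • (v' - Q.f l - Q.β l v' • Q.e l)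
  have hw : ∀ j, Q.h w (Q.e j) = 0 ∧ Q.h w (Q.f j) = 0 := by
    intro j
    have h1 : Q.h v' (Q.e j) = if l = j then Q.ε else 0 := by
      rcases eq_or_ne j l with rfl | hj
      · simpa [Q.α_apply] using hαv
      · rw [if_neg (Ne.symm hj)]; show Q.α j v' = 0; rw [map_smul, hα j hj, smul_zero]
    have h2 : Q.h v' (Q.f j) = if l = j then Q.β l v' else 0 := by
      rcases eq_or_ne j l with rfl | hj
      · rw [if_pos rfl]; rfl
      · rw [if_neg (Ne.symm hj)]; show Q.β j v' = 0; rw [map_smul, hβ j hj, smul_zero]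
    simp [w, Q.smul_left, Q.sub_left, Q.h_fe, Q.h_ff, Q.h_ee, Q.h_ef, h1, h2]
  have hsing : Q.sing (Q.f l + Q.ε • w + (Q.ε * c) • Q.e l) := by
    convert hv' using 1
    simp only [w, c, smul_smul, ← mul_assoc, Q.ε_mul, one_smul, one_mul]
    abel
  have hwc : w = 0 ∧ c = 0 := by
    by_contra hne
    exact hF (fat_of_one (by tauto) hw hsing)
  have h3 : v' = Q.f l := by
    have h4 : v' - Q.f l - Q.β l v' • Q.e l = 0 := by
      have := hwc.1
      rcases smul_eq_zero.1 this with h5 | h5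
      exacts [absurd h5 Q.ε_ne, h5]
    rw [(mul_eq_zero.1 hwc.2).resolve_left Q.ε_ne, zero_smul, sub_zero, sub_eq_zero] at h4
    exact h4
  rw [← h3, smul_smul]
  have h5 : Q.ε * t * (Q.ε * t⁻¹) = 1 := by
    rw [mul_mul_mul_comm, Q.ε_mul, mul_inv_cancel₀ h, one_mul]
  rw [h5, one_smul]

namespace Act

variable {p : ℕ} {G : Type w} [Group G] (A : Q.Act p G)

theorem ρ_mul (g k : G) (x : V) : A.ρ (g * k) x = A.ρ g (A.ρ k x) := by
  rw [map_mul]; rfl

theorem ρ_one (x : V) : A.ρ 1 x = x := by rw [map_one]; rfl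

theorem ρ_inv_ρ (g : G) (x : V) : A.ρ g⁻¹ (A.ρ g x) = x := by
  rw [← ρ_mul, inv_mul_cancel, ρ_one]

theorem ρ_ρ_inv (g : G) (x : V) : A.ρ g (A.ρ g⁻¹ x) = x := by
  rw [← ρ_mul, mul_inv_cancel, ρ_one]

theorem h_left (g : G) (x y : V) : Q.h (A.ρ g x) y = Q.h x (A.ρ g⁻¹ y) := by
  conv_lhs => rw [← A.ρ_ρ_inv g y]
  exact A.h_ρ g _ _

theorem isFlag_map (g : G) {W : Fin m → Submodule F V} (hW : Q.IsFlag W) :
    Q.IsFlag fun i => (W i).map (A.ρ g).toLinearMap := by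
  refine ⟨fun i => ?_, fun i j hij => Submodule.map_mono (hW.2.1 hij), fun i => ⟨?_, ?_⟩⟩
  · rw [LinearEquiv.finrank_map_eq, hW.1]
  · rintro _ ⟨x, hx, rfl⟩
    exact A.sing_ρ g x ((hW.2.2 i).1 x hx)
  · rintro _ ⟨x, hx, rfl⟩ _ ⟨y, hy, rfl⟩
    exact (A.h_ρ g x y).trans ((hW.2.2 i).2 x hx y hy)

/-- The chambers, with the action of the group. -/
def Cham (_A : Q.Act p G) : Type v := Q.Chamber

instance [Finite V] : Finite A.Cham := inferInstanceAs (Finite Q.Chamber)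

theorem cham_ext {x y : A.Cham} (h : ∀ i, x.1 i = y.1 i) : x = y := Subtype.ext (funext h)

instance : MulAction G A.Cham where
  smul g x := ⟨fun i => (x.1 i).map (A.ρ g).toLinearMap, A.isFlag_map g x.2⟩
  one_smul x := A.cham_ext fun i => by
    show (x.1 i).map (A.ρ 1).toLinearMap = x.1 i
    rw [show (A.ρ 1).toLinearMap = LinearMap.id from LinearMap.ext fun v => A.ρ_one v,
      Submodule.map_id]
  mul_smul g k x := A.cham_ext fun i => by
    show (x.1 i).map (A.ρ (g * k)).toLinearMap =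
      ((x.1 i).map (A.ρ k).toLinearMap).map (A.ρ g).toLinearMap
    rw [← Submodule.map_comp]
    exact congrArg (Submodule.map · (x.1 i)) (LinearMap.ext fun v => A.ρ_mul g k v)

theorem smul_val (g : G) (x : A.Cham) (i : Fin m) :
    (g • x).1 i = (x.1 i).map (A.ρ g).toLinearMap := rfl

theorem mem_smul {g : G} {x : A.Cham} {i : Fin m} {v : V} (hv : v ∈ x.1 i) :
    A.ρ g v ∈ (g • x).1 i := ⟨v, hv, rfl⟩

theorem mem_of_fixed {g : G} {x : A.Cham} (hg : g • x = x) {i : Fin m} {v : V} (hv : v ∈ x.1 i) :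
    A.ρ g v ∈ x.1 i := by
  conv => rw [← hg]
  exact A.mem_smul hv

/-- The chamber of a signed permutation. -/
def cw (w : Word m) : A.Cham := Q.wchamber w

theorem eq_cw [FiniteDimensional F V] {x : A.Cham} {w : Word m} (h : ∀ j, Q.vec w j ∈ x.1 j) :
    x = A.cw w := A.cham_ext fun i => by
  refine (Submodule.eq_of_le_of_finrank_le (Submodule.span_le.2 ?_) (le_of_eq ?_)).symm
  · rintro _ ⟨j, hj, rfl⟩
    exact x.2.2.1 hj (h j)
  · rw [x.2.1 i]
    exact ((Q.isFlag_wflag w).1 i).symm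

/-- The standard chamber. -/
def x₀ : A.Cham := A.cw (1, fun _ => false)

/-- The chamber opposite to it in the apartment. -/
def t₀ : A.Cham := A.cw (1, fun _ => true)

theorem e_mem_x₀ {i j : Fin m} (h : j ≤ i) : Q.e j ∈ A.x₀.1 i := Q.vec_mem (1, fun _ => false) h

theorem f_mem_t₀ {i j : Fin m} (h : j ≤ i) : Q.f j ∈ A.t₀.1 i := Q.vec_mem (1, fun _ => true) h

theorem h_x₀ {i : Fin m} {x : V} (hx : ∀ j ≤ i, Q.h x (Q.e j) = 0) {y : V} (hy : y ∈ A.x₀.1 i) :
    Q.h x y = 0 := by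
  induction hy using Submodule.span_induction with
  | mem y hy => obtain ⟨j, hj, rfl⟩ := hy; exact hx j hj
  | zero => exact Q.zero_right x
  | add a b _ _ h1 h2 => rw [Q.add_right, h1, h2, add_zero]
  | smul c a _ h1 => rw [Q.smul_right, h1, mul_zero]

theorem h_x₀_lt {i j : Fin m} (hij : i < j) {y : V} (hy : y ∈ A.x₀.1 i) : Q.β j y = 0 := by
  induction hy using Submodule.span_induction with
  | mem y hy =>
    obtain ⟨k, hk, rfl⟩ := hy
    show Q.h (Q.e k) (Q.f j) = 0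
    rw [Q.h_ef, if_neg]
    exact (lt_of_le_of_lt hk hij).ne
  | zero => exact map_zero _
  | add a b _ _ h1 h2 => rw [map_add, h1, h2, add_zero]
  | smul c a _ h1 => rw [map_smul, h1, smul_zero]

/-- The stabiliser of the standard chamber preserves the vanishing of initial coordinates. -/
theorem α_of_fix {g : G} (hg : g • A.x₀ = A.x₀) {i : Fin m} {v : V}
    (hv : ∀ j ≤ i, Q.α j v = 0) : ∀ j ≤ i, Q.α j (A.ρ g v) = 0 := fun j hj => by
  show Q.h (A.ρ g v) (Q.e j) = 0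
  rw [A.h_left]
  exact A.h_x₀ hv (A.mem_of_fixed (inv_smul_eq_iff.2 hg.symm) (A.e_mem_x₀ hj))

theorem isOpp_smul {g : G} (hg : g • A.x₀ = A.x₀) {x : A.Cham} (hx : Q.IsOpp x.1) :
    Q.IsOpp (g • x).1 := by
  rintro i _ ⟨y, hy, rfl⟩ h
  have h1 := A.α_of_fix (inv_smul_eq_iff.2 hg.symm) h
  simp only [LinearEquiv.coe_coe, A.ρ_inv_ρ] at h1
  rw [hx i y hy h1, map_zero]

theorem h_t₀ {i : Fin m} {y : V} {z : V} (hy : ∀ j ≤ i, Q.h (Q.f j) z = 0) (h : y ∈ A.t₀.1 i) :
    Q.h y z = 0 := by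
  induction h using Submodule.span_induction with
  | mem y h => obtain ⟨j, hj, rfl⟩ := h; exact hy j hj
  | zero => exact Q.zero_left z
  | add a b _ _ h1 h2 => rw [Q.add_left, h1, h2, add_zero]
  | smul c a _ h1 => rw [Q.smul_left, h1, mul_zero]

theorem isOpp_t₀ : Q.IsOpp A.t₀.1 := fun i x hx h =>
  Q.aniso x ((A.t₀.2.2.2 i).1 x hx) (fun j => if hj : j ≤ i then h j hj else
    A.h_t₀ (fun k hk => by rw [Q.h_fe, if_neg (fun e => hj (by rw [← e]; exact hk))]) hx)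
    (fun j => A.h_t₀ (fun k _ => Q.h_ff k j) hx)

/-! ### The unipotent subgroup -/

/-- The span of the first members of the frame. -/
def eLT (_A : Q.Act p G) (i : Fin m) : Submodule F V := Submodule.span F (Q.e '' Set.Iio i)

theorem eLT_le (i : Fin m) : A.eLT i ≤ Q.eSpan :=
  Submodule.span_mono (Set.image_subset_range _ _)

theorem eLT_mono {i j : Fin m} (h : i ≤ j) : A.eLT i ≤ A.eLT j :=
  Submodule.span_mono (Set.image_mono (Set.Iio_subset_Iio h))

theorem β_eLT {i j : Fin m} (hij : i ≤ j) {y : V} (hy : y ∈ A.eLT i) : Q.β j y = 0 := by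
  induction hy using Submodule.span_induction with
  | mem y hy =>
    obtain ⟨k, hk, rfl⟩ := hy
    show Q.h (Q.e k) (Q.f j) = 0
    rw [Q.h_ef, if_neg (lt_of_lt_of_le hk hij).ne]
  | zero => exact map_zero _
  | add a b _ _ h1 h2 => rw [map_add, h1, h2, add_zero]
  | smul c a _ h1 => rw [map_smul, h1, smul_zero]

/-- Unipotence relative to the standard chamber. -/
def IsUni (g : G) : Prop :=
  (∀ i, A.ρ g (Q.e i) - Q.e i ∈ A.eLT i) ∧
    ∀ v, (∀ i, Q.α i v = 0) → A.ρ g v - v ∈ Q.eSpan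

theorem map_eLT {g : G} (hg : A.IsUni g) {i : Fin m} {y : V} (hy : y ∈ A.eLT i) :
    A.ρ g y ∈ A.eLT i := by
  induction hy using Submodule.span_induction with
  | mem y hy =>
    obtain ⟨k, hk, rfl⟩ := hy
    have := add_mem (A.eLT_mono (le_of_lt hk) (hg.1 k))
      (Submodule.subset_span (⟨k, hk, rfl⟩ : Q.e k ∈ Q.e '' Set.Iio i))
    rwa [sub_add_cancel] at this
  | zero => rw [map_zero]; exact zero_mem _
  | add a b _ _ h1 h2 => rw [map_add]; exact add_mem h1 h2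
  | smul c a _ h1 => rw [map_smul]; exact Submodule.smul_mem _ c h1

theorem map_eSpan {g : G} (hg : A.IsUni g) {y : V} (hy : y ∈ Q.eSpan) : A.ρ g y ∈ Q.eSpan := by
  induction hy using Submodule.span_induction with
  | mem y hy =>
    obtain ⟨k, rfl⟩ := hy
    have := add_mem (A.eLT_le _ (hg.1 k)) (Submodule.subset_span (Set.mem_range_self (f := Q.e) k))
    rwa [sub_add_cancel] at this
  | zero => rw [map_zero]; exact zero_mem _
  | add a b _ _ h1 h2 => rw [map_add]; exact add_mem h1 h2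
  | smul c a _ h1 => rw [map_smul]; exact Submodule.smul_mem _ c h1

theorem isUni_mul {g k : G} (hg : A.IsUni g) (hk : A.IsUni k) : A.IsUni (g * k) := by
  have e : ∀ x, A.ρ (g * k) x - x = A.ρ g (A.ρ k x - x) + (A.ρ g x - x) := fun x => by
    rw [A.ρ_mul, map_sub]; abel
  refine ⟨fun i => ?_, fun v hv => ?_⟩
  · rw [e]; exact add_mem (A.map_eLT hg (hk.1 i)) (hg.1 i)
  · rw [e]; exact add_mem (A.map_eSpan hg (hk.2 v hv)) (hg.2 v hv)

theorem isUni_one : A.IsUni 1 :=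
  ⟨fun i => by rw [A.ρ_one, sub_self]; exact zero_mem _,
    fun v _ => by rw [A.ρ_one, sub_self]; exact zero_mem _⟩

theorem isUni_pow {g : G} (hg : A.IsUni g) : ∀ n : ℕ, A.IsUni (g ^ n)
  | 0 => by rw [pow_zero]; exact A.isUni_one
  | n + 1 => by rw [pow_succ]; exact A.isUni_mul (isUni_pow hg n) hg

/-- The unipotent subgroup of the standard chamber. -/
noncomputable def K [Finite G] : Subgroup G where
  carrier := {g | A.IsUni g}
  one_mem' := A.isUni_one
  mul_mem' := A.isUni_mul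
  inv_mem' {g} hg := by
    have h : g⁻¹ = g ^ (orderOf g - 1) := inv_eq_of_mul_eq_one_right (by
      rw [← pow_succ', Nat.sub_add_cancel (orderOf_pos g), pow_orderOf_eq_one])
    rw [h]
    exact A.isUni_pow hg _

variable [Finite G] [FiniteDimensional F V]

theorem mem_K {g : G} : g ∈ A.K ↔ A.IsUni g := Iff.rfl

theorem fix_x₀ {g : G} (hg : g ∈ A.K) : g • A.x₀ = A.x₀ := by
  refine A.eq_cw fun j => ?_
  have h1 : A.ρ g⁻¹ (Q.e j) ∈ A.x₀.1 j := by
    have h2 : A.eLT j ≤ A.x₀.1 j := Submodule.span_le.2 (by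
      rintro _ ⟨k, hk, rfl⟩; exact A.e_mem_x₀ (le_of_lt hk))
    have := add_mem (h2 ((A.mem_K.1 (inv_mem hg)).1 j)) (A.e_mem_x₀ (le_refl j))
    rwa [sub_add_cancel] at this
  have := A.mem_smul (g := g) h1
  rwa [A.ρ_ρ_inv] at this

/-- A unipotent element lowers the coordinates. -/
theorem α_sub {g : G} (hg : g ∈ A.K) {i : Fin m} {v : V} (hv : ∀ j < i, Q.α j v = 0) :
    ∀ j ≤ i, Q.α j (A.ρ g v - v) = 0 := fun j hj => by
  rw [map_sub, sub_eq_zero]
  show Q.h (A.ρ g v) (Q.e j) = Q.h v (Q.e j)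
  rw [A.h_left, ← sub_add_cancel (A.ρ g⁻¹ (Q.e j)) (Q.e j), Q.add_right, add_eq_right]
  have hd := (A.mem_K.1 (inv_mem hg)).1 j
  generalize A.ρ g⁻¹ (Q.e j) - Q.e j = d at hd
  induction hd using Submodule.span_induction with
  | mem y hy => obtain ⟨k, hk, rfl⟩ := hy; exact hv k (lt_of_lt_of_le hk hj)
  | zero => exact Q.zero_right v
  | add a b _ _ h1 h2 => rw [Q.add_right, h1, h2, add_zero]
  | smul c a _ h1 => rw [Q.smul_right, h1, mul_zero]

theorem isPGroup_K [Fact p.Prime] [CharP F p] : IsPGroup p A.K := by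
  rintro ⟨g, hg⟩
  obtain ⟨k, hk⟩ : ∃ k, 2 * m + 1 ≤ p ^ k :=
    ⟨2 * m + 1, (Nat.lt_pow_self (Fact.out (p := p.Prime)).one_lt).le⟩
  refine ⟨k, Subtype.ext ?_⟩
  let D : Module.End F V := (A.ρ g).toLinearMap - 1
  have hD : ∀ v, D v = A.ρ g v - v := fun v => rfl
  have hDe : ∀ (n : ℕ) (i : Fin m), (i : ℕ) ≤ n → ∀ y ∈ Submodule.span F (Q.e '' {j | (j : ℕ) < n}),
      (D ^ n) y = 0 := by
    intro n
    induction n with
    | zero =>
      intro i _ y hy
      simpa using hy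
    | succ n ih =>
      intro i hi y hy
      induction hy using Submodule.span_induction with
      | mem y hy =>
        obtain ⟨j, hj, rfl⟩ := hy
        rw [pow_succ, Module.End.mul_apply, hD]
        have hj' : (j : ℕ) ≤ n := Nat.lt_succ_iff.1 hj
        exact ih j hj' _ (Submodule.span_mono
          (Set.image_mono fun l hl => lt_of_lt_of_le hl hj') ((A.mem_K.1 hg).1 j))
      | zero => exact map_zero _
      | add a b _ _ h1 h2 => rw [map_add, h1, h2, add_zero]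
      | smul c a _ h1 => rw [map_smul, h1, smul_zero]
  have hDE : ∀ y ∈ Q.eSpan, (D ^ m) y = 0 := fun y hy => by
    rcases isEmpty_or_nonempty (Fin m) with h | ⟨⟨i⟩⟩
    · simp [eSpan, Set.range_eq_empty] at hy; rw [hy, map_zero]
    · refine hDe m i (le_of_lt i.isLt) y (Submodule.span_mono ?_ hy)
      rintro _ ⟨j, rfl⟩; exact ⟨j, j.isLt, rfl⟩
  have hα : ∀ (n : ℕ) (v : V), ∀ j : Fin m, (j : ℕ) < n → Q.α j ((D ^ n) v) = 0 := by
    intro n
    induction n with
    | zero => intro v j hj; omega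
    | succ n ih =>
      intro v j hj
      rw [pow_succ', Module.End.mul_apply, hD]
      exact A.α_sub hg (i := j) (fun l hl => ih v l (by
        have := Fin.lt_iff_val_lt_val.1 hl; omega)) j le_rfl
  have hDtop : D ^ (2 * m + 1) = 0 := LinearMap.ext fun v => by
    rw [show 2 * m + 1 = m + 1 + m by omega, pow_add, Module.End.mul_apply]
    have hw : ∀ i, Q.α i ((D ^ m) v) = 0 := fun i => hα m v i i.isLt
    rw [pow_succ, Module.End.mul_apply, hD]
    exact hDE _ ((A.mem_K.1 hg).2 _ hw)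
  apply A.inj
  refine LinearEquiv.ext fun v => ?_
  have h2 : ∀ n, A.ρ (g ^ n) v = (((A.ρ g).toLinearMap : Module.End F V) ^ n) v := by
    intro n
    induction n generalizing v with
    | zero => rw [pow_zero, A.ρ_one]; rfl
    | succ n ih => rw [pow_succ, A.ρ_mul, pow_succ, Module.End.mul_apply, ih]; rfl
  simp only [SubmonoidClass.coe_pow, OneMemClass.coe_one, A.ρ_one, h2]
  rcases subsingleton_or_nontrivial V with hV | hV
  · exact Subsingleton.elim _ _
  haveI : CharP (Module.End F V) p :=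
    charP_of_injective_algebraMap (algebraMap F (Module.End F V)).injective p
  rw [show ((A.ρ g).toLinearMap : Module.End F V) = D + 1 from (sub_add_cancel _ 1).symm,
    add_pow_char_pow_of_commute p k (Commute.one_right D), pow_eq_zero_of_le hk hDtop, zero_add,
    one_pow, Module.End.one_apply]

/-- Root elements at `e k` in the unipotent subgroup. -/
theorem exists_mem_K (k : Fin m) (w : V) (c : F) (hwe : ∀ j ≤ k, Q.h w (Q.e j) = 0)
    (hwf : Q.h w (Q.f k) = 0) (hs : Q.sing (Q.f k + Q.ε • w + (Q.ε * c) • Q.e k)) :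
    ∃ g ∈ A.K, ∀ v, A.ρ g v =
      v + Q.h v (Q.e k) • w + (-(Q.ε * Q.h v w) + c * Q.h v (Q.e k)) • Q.e k := by
  obtain ⟨g, hg⟩ := A.elem (Q.e k) (Q.f k) w (Q.sing_e k) (Q.sing_f k) (by simp [Q.h_ef])
    (hwe k le_rfl) hwf c hs
  refine ⟨g, A.mem_K.2 ⟨fun i => ?_, fun v hv => ?_⟩, hg⟩
  · rw [hg, Q.h_ee, zero_smul, add_zero, mul_zero, add_zero, add_sub_cancel_left]
    by_cases hik : i ≤ k
    · rw [Q.comm_zero (hwe i hik), mul_zero, neg_zero, zero_smul]
      exact zero_mem _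
    · exact Submodule.smul_mem _ _ (Submodule.subset_span ⟨k, not_le.1 hik, rfl⟩)
  · rw [hg, show Q.h v (Q.e k) = 0 from hv k, zero_smul, add_zero, mul_zero, add_zero,
      add_sub_cancel_left]
    exact Submodule.smul_mem _ _ (Submodule.subset_span (Set.mem_range_self k))

/-- An element fixing `x₀` and `t₀` is diagonal on the frame. -/
theorem diag {g : G} (hg : g • A.x₀ = A.x₀) (hg' : g • A.t₀ = A.t₀) (i : Fin m) :
    (∃ c : F, A.ρ g (Q.e i) = c • Q.e i) ∧ ∃ c : F, A.ρ g (Q.f i) = c • Q.f i := by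
  haveI : Nonempty (Fin m) := ⟨i⟩
  have hgi := inv_smul_eq_iff.2 hg.symm
  have hgi' := inv_smul_eq_iff.2 hg'.symm
  have he := A.mem_of_fixed hg (A.e_mem_x₀ (le_refl i))
  have hf := A.mem_of_fixed hg' (A.f_mem_t₀ (le_refl i))
  refine ⟨⟨Q.β i (A.ρ g (Q.e i)), ?_⟩, ⟨Q.ε * Q.α i (A.ρ g (Q.f i)), ?_⟩⟩
  · have hβ : ∀ j, j ≠ i → Q.β j (A.ρ g (Q.e i)) = 0 := by
      intro j hj
      rcases lt_or_gt_of_ne hj with h | h
      · show Q.h (A.ρ g (Q.e i)) (Q.f j) = 0
        rw [A.h_left]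
        refine Q.comm_zero (A.h_t₀ (fun l hl => ?_) (A.mem_of_fixed hgi' (A.f_mem_t₀ le_rfl)))
        rw [Q.h_fe, if_neg (lt_of_le_of_lt hl h).ne]
      · exact A.h_x₀_lt h he
    have hα : ∀ j, Q.α j (A.ρ g (Q.e i)) = 0 := fun j => by
      refine Q.comm_zero (A.h_x₀ (fun l _ => ?_) he)
      exact Q.h_ee j l
    conv_lhs => rw [Q.eq_sum (A.sing_ρ g _ (Q.sing_e i)) hα]
    exact Finset.sum_eq_single i (fun j _ hj => by rw [hβ j hj, zero_smul]) (by simp)
  · have hα : ∀ j, j ≠ i → Q.α j (A.ρ g (Q.f i)) = 0 := by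
      intro j hj
      rcases lt_or_gt_of_ne hj with h | h
      · show Q.h (A.ρ g (Q.f i)) (Q.e j) = 0
        rw [A.h_left]
        exact A.h_x₀ (fun l hl => by rw [Q.h_fe, if_neg (lt_of_le_of_lt hl h).ne'])
          (A.mem_of_fixed hgi (A.e_mem_x₀ le_rfl))
      · refine A.h_t₀ (fun l hl => ?_) hf
        rw [Q.h_fe, if_neg (lt_of_le_of_lt hl h).ne]
    have hβ : ∀ j, Q.β j (A.ρ g (Q.f i)) = 0 := fun j => A.h_t₀ (fun l _ => Q.h_ff l j) hf
    rw [← sub_eq_zero]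
    refine Q.aniso _ ?_ (fun j => ?_) (fun j => ?_)
    · rw [sub_eq_add_neg, ← neg_smul]
      refine Q.sing_add (A.sing_ρ g _ (Q.sing_f i)) (Q.sing_smul _ (Q.sing_f i)) ?_
      rw [Q.smul_right, show Q.h (A.ρ g (Q.f i)) (Q.f i) = 0 from hβ i, mul_zero]
    · rw [Q.sub_left, Q.smul_left, Q.h_fe, show Q.h (A.ρ g (Q.f i)) (Q.e j) = Q.α j (A.ρ g (Q.f i))
        from rfl]
      rcases eq_or_ne i j with rfl | hj
      · rw [if_pos rfl, mul_right_comm, Q.ε_mul, one_mul, sub_self]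
      · rw [if_neg hj, hα j (Ne.symm hj), mul_zero, sub_zero]
    · rw [Q.sub_left, Q.smul_left, Q.h_ff, show Q.h (A.ρ g (Q.f i)) (Q.f j) = 0 from hβ j,
        mul_zero, sub_zero]

theorem eq_one_of_fix [Fact p.Prime] [CharP F p] {g : G} (hp : ∃ k, g ^ (p ^ k) = 1)
    (hg : g • A.x₀ = A.x₀) (hg' : g • A.t₀ = A.t₀) : g = 1 := by
  obtain ⟨k, hk⟩ := hp
  have key : ∀ (x : V) (c : F), x ≠ 0 → A.ρ g x = c • x → A.ρ g x = x := by
    intro x c hx hc
    have h1 : ∀ n, A.ρ (g ^ n) x = c ^ n • x := by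
      intro n
      induction n with
      | zero => rw [pow_zero, A.ρ_one, pow_zero, one_smul]
      | succ n ih => rw [pow_succ, A.ρ_mul, hc, map_smul, ih, smul_smul, pow_succ']
    have h2 := h1 (p ^ k)
    rw [hk, A.ρ_one] at h2
    have h3 : c ^ (p ^ k) = 1 := smul_left_injective F hx (h2.symm.trans (one_smul F x).symm)
    have h4 : (c - 1) ^ (p ^ k) = 0 := by rw [sub_pow_char_pow, h3, one_pow, sub_self]
    rw [hc, sub_eq_zero.1 (eq_zero_of_pow_eq_zero h4), one_smul]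
  refine A.frame_fix g ⟨k, hk⟩ (fun i => ?_) fun i => ?_
  · obtain ⟨⟨c, hc⟩, -⟩ := A.diag hg hg' i
    exact key _ c (Q.linearIndependent_fr.ne_zero (i, false)) hc
  · obtain ⟨-, c, hc⟩ := A.diag hg hg' i
    exact key _ c (Q.linearIndependent_fr.ne_zero (i, true)) hc

/-- The unipotent subgroup is transitive on the opposite chambers. -/
theorem exists_smul_eq {x : A.Cham} (hx : Q.IsOpp x.1) : ∃ g ∈ A.K, g • x = A.t₀ := by
  suffices h : ∀ k ≤ m, ∃ g ∈ A.K, ∀ j : Fin m, (j : ℕ) < k → Q.f j ∈ (g • x).1 j by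
    obtain ⟨g, hg, hj⟩ := h m le_rfl
    exact ⟨g, hg, A.eq_cw fun j => hj j j.isLt⟩
  intro k
  induction k with
  | zero => exact fun _ => ⟨1, one_mem _, fun j hj => absurd hj (by omega)⟩
  | succ k ih =>
    intro hk
    obtain ⟨g, hg, hj⟩ := ih (by omega)
    obtain ⟨i, hi⟩ : ∃ i : Fin m, (i : ℕ) = k := ⟨⟨k, by omega⟩, rfl⟩
    have hy : Q.IsOpp (g • x).1 := A.isOpp_smul (A.fix_x₀ hg) hx
    let φ : (g • x).1 i →ₗ[F] (Set.Iic i → F) :=
      LinearMap.pi fun j => (Q.α j.1).domRestrict _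
    have hφ : Function.Injective φ := (injective_iff_map_eq_zero φ).2 fun v hv =>
      Subtype.ext (hy i v v.2 fun j hj => congrFun hv ⟨j, hj⟩)
    have hdim : Module.finrank F ((g • x).1 i) = Module.finrank F (Set.Iic i → F) := by
      rw [(g • x).2.1 i, Module.finrank_fintype_fun_eq_card]
      simp
    obtain ⟨⟨v, hv⟩, hvφ⟩ := (LinearMap.injective_iff_surjective_of_finrank_eq_finrank hdim).1 hφ
      (fun j => if j.1 = i then Q.ε else 0)
    have hvi : Q.h v (Q.e i) = Q.ε := by simpa [φ, Q.α_apply] using congrFun hvφ ⟨i, Set.mem_Iic.2 le_rfl⟩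
    have hvlt : ∀ j < i, Q.h v (Q.e j) = 0 := fun j hj => by
      simpa [φ, Q.α_apply, hj.ne] using congrFun hvφ ⟨j, Set.mem_Iic.2 (le_of_lt hj)⟩
    let c := Q.ε * Q.h v (Q.f i)
    let w := Q.ε • (v - Q.f i - Q.h v (Q.f i) • Q.e i)
    have hwe : ∀ j ≤ i, Q.h w (Q.e j) = 0 := by
      intro j hj
      rcases eq_or_lt_of_le hj with rfl | hj
      · simp [w, Q.smul_left, Q.sub_left, Q.h_fe, Q.h_ee, hvi]
      · simp [w, Q.smul_left, Q.sub_left, Q.h_fe, Q.h_ee, hvlt j hj, hj.ne']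
    have hwf : Q.h w (Q.f i) = 0 := by simp [w, Q.smul_left, Q.sub_left, Q.h_ff, Q.h_ef]
    have hsum : Q.f i + Q.ε • w + (Q.ε * c) • Q.e i = v := by
      simp only [w, c, smul_smul, ← mul_assoc, Q.ε_mul, one_smul, one_mul]
      abel
    obtain ⟨g₁, hg₁, hρ⟩ := A.exists_mem_K i w c hwe hwf
      (hsum ▸ ((g • x).2.2.2 i).1 v hv)
    have hfi : A.ρ g₁ (Q.f i) = v := by
      rw [hρ, Q.h_fe, if_pos rfl, Q.comm_zero hwf, mul_zero, neg_zero, zero_add, mul_comm c]
      exact hsum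
    refine ⟨g₁⁻¹ * g, mul_mem (inv_mem hg₁) hg, fun j hjk => ?_⟩
    rw [mul_smul]
    rcases Nat.lt_succ_iff_lt_or_eq.1 hjk with hjk | hjk
    · have hji : j < i := Fin.lt_iff_val_lt_val.2 (by omega)
      have hfix : A.ρ g₁ (Q.f j) = Q.f j := by
        have h0 : Q.h (Q.f j) w = 0 := Q.comm_zero (by
          simp [w, Q.smul_left, Q.sub_left, Q.h_ff, Q.h_ef, hji.ne',
            ((g • x).2.2.2 i).2 v hv _ ((g • x).2.2.1 hji.le (hj j hjk))])
        rw [hρ, h0, Q.h_fe, if_neg hji.ne]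
        simp
      have := A.mem_smul (g := g₁⁻¹) (hj j hjk)
      rwa [show A.ρ g₁⁻¹ (Q.f j) = Q.f j by
        conv_lhs => rw [← hfix]
        rw [A.ρ_inv_ρ]] at this
    · obtain rfl : j = i := Fin.ext (by omega)
      have := A.mem_smul (g := g₁⁻¹) hv
      rwa [← hfi, A.ρ_inv_ρ] at this

theorem mem_T_iff (t : A.Cham) : Q.IsOpp t.1 ↔ ∃ g ∈ A.K, g • A.t₀ = t := by
  refine ⟨fun h => ?_, ?_⟩
  · obtain ⟨g, hg, hgt⟩ := A.exists_smul_eq h
    exact ⟨g⁻¹, inv_mem hg, by rw [← hgt, inv_smul_smul]⟩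
  · rintro ⟨g, hg, rfl⟩
    exact A.isOpp_smul (A.fix_x₀ hg) A.isOpp_t₀

end Act

end Polar

end CfsgLib.CharsMore.St
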