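import Cfsg.Agent.Lib.CharsMore.St.Polar

/-!
# Chambers of the apartment of a frame

The signed permutations of the frame of a polar space give chambers; their alternating sum has
vanishing panel sums.
-/

set_option linter.unusedSectionVars false
set_option linter.style.haveILetI false

namespace CfsgLib.CharsMore.St

universe u v

namespace Polar

variable {F : Type u} [Field F] {V : Type v} [AddCommGroup V] [Module F V] {m : ℕ}
  (Q : Polar F V m)

/-- The vectors of the frame. -/
def fr (p : Fin m × Bool) : V := cond p.2 (Q.f p.1) (Q.e p.1)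

theorem fr_false (i : Fin m) : Q.fr (i, false) = Q.e i := rfl

theorem fr_true (i : Fin m) : Q.fr (i, true) = Q.f i := rfl

theorem h_fr (p q : Fin m × Bool) :
    Q.h (Q.fr p) (Q.fr (q.1, !q.2)) = if p = q then cond p.2 Q.ε 1 else 0 := by
  obtain ⟨i, b⟩ := p
  obtain ⟨j, b'⟩ := q
  cases b <;> cases b' <;> simp [fr, Q.h_ee, Q.h_ff, Q.h_ef, Q.h_fe]

theorem h_fr_zero {p q : Fin m × Bool} (h : p.1 ≠ q.1 ∨ p.2 = q.2) :
    Q.h (Q.fr p) (Q.fr q) = 0 := by
  have h1 := Q.h_fr p (q.1, !q.2)
  simp only [Bool.not_not, Prod.mk.eta] at h1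
  rw [h1, if_neg]
  rintro rfl
  simp at h

theorem sing_fr (p : Fin m × Bool) : Q.sing (Q.fr p) := by
  obtain ⟨i, b⟩ := p
  cases b
  exacts [Q.sing_e i, Q.sing_f i]

theorem linearIndependent_fr : LinearIndependent F Q.fr := by
  classical
  refine Fintype.linearIndependent_iff.2 fun g hg q => ?_
  have h1 := congrArg (fun x => Q.h x (Q.fr (q.1, !q.2))) hg
  simp only [Q.sum_left, Q.smul_left, Q.h_fr, Q.zero_left, mul_ite, mul_zero,
    Finset.sum_ite_eq', Finset.mem_univ, if_true] at h1
  refine (mul_eq_zero.1 h1).resolve_right ?_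
  cases q.2
  exacts [one_ne_zero, Q.ε_ne]

/-- Signed permutations of the frame. -/
abbrev Word (m : ℕ) : Type := Equiv.Perm (Fin m) × (Fin m → Bool)

/-- The vectors of a signed permutation. -/
def vec (w : Word m) (j : Fin m) : V := Q.fr (w.1 j, w.2 j)

theorem vec_injective (w : Word m) : Function.Injective fun j => (w.1 j, w.2 j) := fun _ _ h =>
  w.1.injective (Prod.ext_iff.1 h).1

theorem linearIndependent_vec (w : Word m) : LinearIndependent F (Q.vec w) :=
  Q.linearIndependent_fr.comp _ (vec_injective w)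

theorem h_vec (w : Word m) (i j : Fin m) : Q.h (Q.vec w i) (Q.vec w j) = 0 := by
  refine Q.h_fr_zero ?_
  by_cases h : i = j
  · subst h; exact Or.inr rfl
  · exact Or.inl fun h' => h (w.1.injective h')

/-- The chamber of a signed permutation, as a flag. -/
def wflag (w : Word m) (i : Fin m) : Submodule F V :=
  Submodule.span F (Q.vec w '' Set.Iic i)

theorem isFlag_wflag (w : Word m) : Q.IsFlag (Q.wflag w) := by
  classical
  refine ⟨fun i => ?_, fun i j hij => Submodule.span_mono (Set.image_mono (Set.Iic_subset_Iic.2 hij)),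
    fun i => ?_⟩
  · rw [wflag, Set.image_eq_range,
      finrank_span_eq_card (b := fun x : Set.Iic i => Q.vec w x)
        ((Q.linearIndependent_vec w).comp _ Subtype.val_injective)]
    simp
  · haveI : Nonempty (Fin m) := ⟨i⟩
    refine Q.ts_span Q.sing_zero ?_ ?_
    · rintro _ ⟨j, -, rfl⟩
      exact Q.sing_fr _
    · rintro _ ⟨j, -, rfl⟩ _ ⟨k, -, rfl⟩
      exact Q.h_vec w j k

/-- The chamber of a signed permutation. -/
def wchamber (w : Word m) : Q.Chamber := ⟨Q.wflag w, Q.isFlag_wflag w⟩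

theorem wflag_eq_range (w : Word m) {l : Fin m} (hl : (l : ℕ) + 1 = m) :
    Q.wflag w l = Submodule.span F (Set.range (Q.vec w)) := by
  rw [wflag, show Set.Iic l = Set.univ from Set.eq_univ_of_forall fun j =>
    Fin.le_iff_val_le_val.2 (by have := j.isLt; omega), Set.image_univ]

theorem vec_mem (w : Word m) {i j : Fin m} (h : j ≤ i) : Q.vec w j ∈ Q.wflag w i :=
  Submodule.subset_span ⟨j, h, rfl⟩

theorem fr_mem_wflag {w : Word m} {i : Fin m} {p : Fin m × Bool} :
    Q.fr p ∈ Q.wflag w i ↔ ∃ j ≤ i, (w.1 j, w.2 j) = p := by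
  refine ⟨fun h => ?_, fun ⟨j, hj, e⟩ => e ▸ Q.vec_mem w hj⟩
  by_contra hc
  push Not at hc
  have h' : Q.fr p ∈ Submodule.span F (Q.fr '' ((fun j => (w.1 j, w.2 j)) '' Set.Iic i)) := by
    rw [← Set.image_comp]; exact h
  exact Q.linearIndependent_fr.notMem_span_image (by rintro ⟨j, hj, e⟩; exact hc j hj e) h'

theorem wchamber_injective : Function.Injective Q.wchamber := by
  intro w w' h
  have h' : Q.wflag w = Q.wflag w' := congrArg Subtype.val h
  have key : ∀ w w' : Word m, Q.wflag w = Q.wflag w' → ∀ i, ∃ j ≤ i,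
      (w'.1 j, w'.2 j) = (w.1 i, w.2 i) := fun w w' e i => Q.fr_mem_wflag.1 (e ▸ Q.vec_mem w le_rfl)
  choose σ hσ using key w w' h'
  have hi : ∀ i, σ i = i := by
    intro i
    obtain ⟨hle, hp⟩ := hσ i
    obtain ⟨k, hk, hkp⟩ := key w' w h'.symm (σ i)
    have := vec_injective w (hkp.trans hp)
    subst this
    exact le_antisymm hle hk
  refine Prod.ext (Equiv.ext fun i => ?_) (funext fun i => ?_)
  · have := (hσ i).2
    rw [hi i] at this
    exact (congrArg Prod.fst this).symm
  · have := (hσ i).2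
    rw [hi i] at this
    exact (congrArg Prod.snd this).symm

/-- Only one chamber of the apartment is opposite the standard one. -/
theorem eq_of_isOpp {w : Word m} (h : Q.IsOpp (Q.wflag w)) : w = (1, fun _ => true) := by
  have key : ∀ i j, j ≤ i → w.2 j = true ∧ w.1 j ≤ i := by
    intro i j hj
    by_contra hc
    refine (Q.linearIndependent_vec w).ne_zero j (h i _ (Q.vec_mem w hj) fun k hk => ?_)
    show Q.h (Q.fr (w.1 j, w.2 j)) (Q.fr (k, false)) = 0
    refine Q.h_fr_zero ?_
    by_contra hc'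
    push Not at hc'
    have hs : w.2 j = true := by simpa using hc'.2
    exact hc ⟨hs, le_of_eq_of_le hc'.1 (hk.trans le_rfl)⟩
  have hπ : ∀ i, w.1 i = i := by
    intro i
    induction i using WellFoundedLT.induction with
    | _ i ih =>
      refine le_antisymm (key i i le_rfl).2 (not_lt.1 fun hlt => ?_)
      exact hlt.ne (w.1.injective (ih _ hlt))
  exact Prod.ext (Equiv.ext hπ) (funext fun i => (key i i le_rfl).1)

/-- The sign of a signed permutation. -/
noncomputable def wsign (w : Word m) : ℂ :=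
  ((Equiv.Perm.sign w.1 : ℤ) : ℂ) * ∏ j, cond (w.2 j) (-1 : ℂ) 1

theorem wsign_ne (w : Word m) : wsign w ≠ 0 := by
  refine mul_ne_zero (Int.cast_ne_zero.2 (Units.ne_zero _)) (Finset.prod_ne_zero_iff.2 fun j _ => ?_)
  cases w.2 j <;> norm_num

/-- Right multiplication by a simple reflection. -/
def refl (i : Fin m) (w : Word m) : Word m :=
  if h : (i : ℕ) + 1 < m then
    (w.1 * Equiv.swap i ⟨i + 1, h⟩, w.2 ∘ Equiv.swap i ⟨i + 1, h⟩)
  else (w.1, Function.update w.2 i (!w.2 i))

theorem refl_refl (i : Fin m) (w : Word m) : refl i (refl i w) = w := by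
  by_cases h : (i : ℕ) + 1 < m
  · simp only [refl, dif_pos h]
    exact Prod.ext (by simp [mul_assoc, Equiv.swap_mul_self]) (funext fun j => by simp)
  · simp only [refl, dif_neg h]
    refine Prod.ext rfl (funext fun j => ?_)
    by_cases hj : j = i
    · subst hj; simp
    · simp [hj]

theorem wsign_refl (i : Fin m) (w : Word m) : wsign (refl i w) = -wsign w := by
  by_cases h : (i : ℕ) + 1 < m
  · simp only [refl, dif_pos h, wsign]
    rw [map_mul, Equiv.Perm.sign_swap (fun e => by have := congrArg Fin.val e; simp at this)]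
    rw [show (∏ j, cond ((w.2 ∘ ⇑(Equiv.swap i ⟨(i : ℕ) + 1, h⟩)) j) (-1 : ℂ) 1) =
      ∏ j, cond (w.2 j) (-1 : ℂ) 1 from Equiv.prod_comp (Equiv.swap i ⟨(i : ℕ) + 1, h⟩)
        fun j => cond (w.2 j) (-1 : ℂ) 1]
    simp
  · simp only [refl, dif_neg h, wsign]
    rw [← Finset.mul_prod_erase _ _ (Finset.mem_univ i), ← Finset.mul_prod_erase _
      (fun j => cond (w.2 j) (-1 : ℂ) 1) (Finset.mem_univ i)]
    have : ∀ j ∈ Finset.univ.erase i, cond (Function.update w.2 i (!w.2 i) j) (-1 : ℂ) 1 =
        cond (w.2 j) (-1 : ℂ) 1 := fun j hj => by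
      rw [Function.update_of_ne (Finset.mem_erase.1 hj).1]
    rw [Finset.prod_congr rfl this, Function.update_self]
    cases w.2 i <;> simp

theorem wflag_refl (i : Fin m) (w : Word m) {j : Fin m} (hj : j ≠ i) :
    Q.wflag (refl i w) j = Q.wflag w j := by
  by_cases h : (i : ℕ) + 1 < m
  · have e : Q.vec (refl i w) = Q.vec w ∘ Equiv.swap i ⟨(i : ℕ) + 1, h⟩ := by
      funext k; simp [vec, refl, h]
    have hv : (j : ℕ) ≠ (i : ℕ) := fun h' => hj (Fin.ext h')
    have hs : ∀ k ∈ Set.Iic j, Equiv.swap i ⟨(i : ℕ) + 1, h⟩ k ∈ Set.Iic j := by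
      intro k hk
      rw [Set.mem_Iic, Fin.le_iff_val_le_val] at hk ⊢
      rw [Equiv.swap_apply_def]
      split_ifs with h1 h2
      · subst h1; show (k : ℕ) + 1 ≤ j; omega
      · subst h2; change (i : ℕ) + 1 ≤ j at hk; omega
      · exact hk
    rw [wflag, wflag, e, Set.image_comp]
    congr 2
    refine Set.ext fun k => ⟨fun ⟨l, hl, e'⟩ => e' ▸ hs l hl, fun hk => ⟨_, hs k hk, ?_⟩⟩
    simp
  · have hji : ∀ k ∈ Set.Iic j, k ≠ i := fun k hk hki => hj (by
      subst hki
      have h1 : (k : ℕ) ≤ j := hk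
      have := j.isLt
      exact Fin.ext (by omega))
    rw [wflag, wflag]
    congr 1
    exact Set.image_congr fun k hk => by
      simp [vec, refl, h, Function.update_of_ne (hji k hk)]

variable [Finite V]

/-- The alternating sum over the apartment. -/
noncomputable def apt (x : Q.Chamber) : ℂ := by
  classical exact ∑ w : Word m, if Q.wchamber w = x then wsign w else 0

theorem apt_wchamber (w : Word m) : Q.apt (Q.wchamber w) = wsign w := by
  classical
  rw [apt, Finset.sum_eq_single w (fun b _ hb => if_neg fun e => hb (Q.wchamber_injective e))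
    (by simp), if_pos rfl]

theorem apt_eq_zero {x : Q.Chamber} (h : ∀ w, Q.wchamber w ≠ x) : Q.apt x = 0 := by
  classical
  exact Finset.sum_eq_zero fun w _ => if_neg (h w)

theorem sum_apt (i : Fin m) (S : Finset Q.Chamber)
    (hS : ∀ w, Q.wchamber w ∈ S → Q.wchamber (refl i w) ∈ S) : ∑ y ∈ S, Q.apt y = 0 := by
  classical
  simp only [apt]
  rw [Finset.sum_comm]
  simp only [Finset.sum_ite_eq]
  rw [← Finset.sum_filter]
  refine Finset.sum_involution (fun w _ => refl i w) (fun w _ => by rw [wsign_refl, add_neg_cancel])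
    (fun w _ hw e => hw ?_) (fun w hw => ?_) (fun w _ => refl_refl i w)
  · have h := wsign_refl i w
    rw [e] at h
    exact self_eq_neg.1 h
  · simp only [Finset.mem_filter, Finset.mem_univ, true_and] at hw ⊢
    exact hS w hw

end Polar

end CfsgLib.CharsMore.St
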