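import Mathlib

/-!
# Invariant subspaces of a semisimple operator

A function on the invariant subspaces summing to zero over every non-trivial interval from `⊥` is
computed from the factors of the characteristic polynomials, by Weisner's theorem.
-/

set_option linter.unusedSectionVars false
set_option linter.style.haveILetI false

namespace CfsgLib.CharsMore.St.Mobius

open Polynomial Module

universe u v

variable {K : Type u} [Field K] {V : Type v} [AddCommGroup V] [Module K V]

/-- Invariance of a subspace. -/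
abbrev Inv (T : Module.End K V) (U : Submodule K V) : Prop := ∀ v ∈ U, T v ∈ U

variable {T : Module.End K V}

theorem inv_bot : Inv T ⊥ := fun v hv => by
  rw [Submodule.mem_bot] at hv ⊢
  rw [hv, map_zero]

theorem inv_inf {a b : Submodule K V} (ha : Inv T a) (hb : Inv T b) : Inv T (a ⊓ b) :=
  fun v hv => ⟨ha v hv.1, hb v hv.2⟩

theorem inv_sup {a b : Submodule K V} (ha : Inv T a) (hb : Inv T b) : Inv T (a ⊔ b) := fun v hv => by
  obtain ⟨x, hx, y, hy, rfl⟩ := Submodule.mem_sup.1 hv
  rw [map_add]
  exact Submodule.add_mem_sup (ha x hx) (hb y hy)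

theorem inv_aeval {a : Submodule K V} (ha : Inv T a) (p : K[X]) {v : V} (hv : v ∈ a) :
    aeval T p v ∈ a := by
  induction p using Polynomial.induction_on generalizing v with
  | C c => simpa using a.smul_mem c hv
  | add p q hp hq => rw [map_add, LinearMap.add_apply]; exact add_mem (hp hv) (hq hv)
  | monomial n c ih =>
    rw [pow_succ, ← mul_assoc, map_mul, Module.End.mul_apply, aeval_X]
    exact ih (ha v hv)

open scoped Classical in
/-- The characteristic polynomial of the restriction. -/
noncomputable def chp [FiniteDimensional K V] (T : Module.End K V) (U : Submodule K V) : K[X] :=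
  if h : ∀ v ∈ U, T v ∈ U then (T.restrict h).charpoly else 1

variable [FiniteDimensional K V]

theorem chp_eq {U : Submodule K V} (hU : Inv T U) : chp T U = (T.restrict hU).charpoly := dif_pos hU

theorem chp_monic {U : Submodule K V} (hU : Inv T U) : (chp T U).Monic := by
  rw [chp_eq hU]; exact LinearMap.charpoly_monic _

theorem chp_natDegree {U : Submodule K V} (hU : Inv T U) :
    (chp T U).natDegree = finrank K U := by
  rw [chp_eq hU, LinearMap.charpoly_natDegree]

theorem chp_ne_zero {U : Submodule K V} (hU : Inv T U) : chp T U ≠ 0 := (chp_monic hU).ne_zero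

theorem restrict_aeval {U : Submodule K V} (hU : Inv T U) (p : K[X]) (v : U) :
    ((aeval (T.restrict hU) p v : U) : V) = aeval T p (v : V) := by
  induction p using Polynomial.induction_on generalizing v with
  | C c => simp
  | add p q hp hq => simp [hp, hq]
  | monomial n c ih =>
    rw [pow_succ, ← mul_assoc, map_mul _ (C c * X ^ n) X, map_mul _ (C c * X ^ n) X,
      Module.End.mul_apply, Module.End.mul_apply, aeval_X, aeval_X]
    exact ih _

theorem aeval_chp {U : Submodule K V} (hU : Inv T U) {v : V} (hv : v ∈ U) :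
    aeval T (chp T U) v = 0 := by
  have h := restrict_aeval hU (chp T U) ⟨v, hv⟩
  rw [chp_eq hU, LinearMap.aeval_self_charpoly] at h
  rw [chp_eq hU]
  exact h.symm

/-- Minimal invariant subspaces. -/
def IsSimp (T : Module.End K V) (a : Submodule K V) : Prop :=
  Inv T a ∧ a ≠ ⊥ ∧ ∀ b, Inv T b → b ≤ a → b = ⊥ ∨ b = a

theorem exists_simp {W : Submodule K V} (hW : Inv T W) (h0 : W ≠ ⊥) :
    ∃ a ≤ W, IsSimp T a := by
  induction hn : finrank K W using Nat.strong_induction_on generalizing W with
  | _ n ih =>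
    by_cases h : IsSimp T W
    · exact ⟨W, le_rfl, h⟩
    simp only [IsSimp] at h
    push Not at h
    obtain ⟨b, hb, hbW, hb0, hbne⟩ := h hW h0
    subst hn
    obtain ⟨a, hab, ha⟩ := ih _ (Submodule.finrank_lt_finrank_of_lt (lt_of_le_of_ne hbW hbne)) hb
      hb0 rfl
    exact ⟨a, hab.trans hbW, ha⟩

theorem aeval_ne_zero {a : Submodule K V} (ha : IsSimp T a) {v : V} (hv : v ∈ a) (hv0 : v ≠ 0)
    {s : K[X]} (hs : s ≠ 0) (hd : s.natDegree < finrank K a) : aeval T s v ≠ 0 := by
  intro h
  rcases Nat.eq_zero_or_pos s.natDegree with h0 | hpos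
  · rw [eq_C_of_natDegree_eq_zero h0, aeval_C, Module.algebraMap_end_apply] at h
    refine (smul_ne_zero (fun e => hs ?_) hv0) h
    rw [eq_C_of_natDegree_eq_zero h0, e, map_zero]
  let S := Submodule.span K (Set.range fun k : Fin s.natDegree => (T ^ (k : ℕ)) v)
  have hmem : ∀ k < s.natDegree, (T ^ k) v ∈ S := fun k hk => Submodule.subset_span ⟨⟨k, hk⟩, rfl⟩
  have hS : Inv T S := by
    intro w hw
    induction hw using Submodule.span_induction with
    | mem w hw =>
      obtain ⟨k, rfl⟩ := hw
      rw [← Module.End.mul_apply, ← pow_succ']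
      rcases lt_or_eq_of_le (Nat.succ_le_of_lt k.isLt) with hk | hk
      · exact hmem _ hk
      rw [aeval_eq_sum_range, LinearMap.sum_apply, Finset.sum_range_succ] at h
      have h1 : s.leadingCoeff • (T ^ s.natDegree) v ∈ S := by
        rw [show s.leadingCoeff • (T ^ s.natDegree) v =
            -∑ i ∈ Finset.range s.natDegree, (s.coeff i • T ^ i) v by
          rw [eq_neg_iff_add_eq_zero, ← h, add_comm]; rfl]
        exact neg_mem (Submodule.sum_mem _ fun i hi =>
          S.smul_mem _ (hmem i (Finset.mem_range.1 hi)))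
      have h2 := S.smul_mem s.leadingCoeff⁻¹ h1
      rw [smul_smul, inv_mul_cancel₀ (leadingCoeff_ne_zero.2 hs), one_smul] at h2
      rwa [show (k : ℕ) + 1 = s.natDegree from hk]
    | zero => rw [map_zero]; exact zero_mem _
    | add x y _ _ hx hy => rw [map_add]; exact add_mem hx hy
    | smul c x _ hx => rw [map_smul]; exact S.smul_mem c hx
  have hle : S ≤ a := Submodule.span_le.2 (by
    rintro _ ⟨k, rfl⟩
    have := inv_aeval ha.1 (X ^ (k : ℕ)) hv
    simpa using this)
  rcases ha.2.2 S hS hle with e | e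
  · have := hmem 0 hpos
    rw [e, Submodule.mem_bot] at this
    exact hv0 this
  · have := finrank_range_le_card (R := K) fun k : Fin s.natDegree => (T ^ (k : ℕ)) v
    rw [Fintype.card_fin] at this
    change finrank K S ≤ _ at this
    rw [e] at this
    omega

theorem finrank_pos_of_simp {a : Submodule K V} (ha : IsSimp T a) : 0 < finrank K a :=
  Nat.pos_of_ne_zero fun h => ha.2.1 (Submodule.finrank_eq_zero.1 h)

theorem irreducible_chp {a : Submodule K V} (ha : IsSimp T a) : Irreducible (chp T a) := by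
  obtain ⟨v, hv, hv0⟩ := Submodule.exists_mem_ne_zero_of_ne_bot ha.2.1
  refine (Monic.irreducible_iff_natDegree (chp_monic ha.1)).2 ⟨fun h => ?_, fun f g hf hg hfg => ?_⟩
  · have := chp_natDegree ha.1
    rw [h, natDegree_one] at this
    exact absurd this.symm (finrank_pos_of_simp ha).ne'
  by_contra! hcon
  have hdeg : f.natDegree + g.natDegree = finrank K a := by
    rw [← chp_natDegree ha.1, ← hfg, Monic.natDegree_mul hf hg]
  have h1 := aeval_ne_zero ha hv hv0 hg.ne_zero (by omega)
  have h2 := aeval_ne_zero ha (inv_aeval ha.1 g hv) h1 hf.ne_zero (by omega)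
  rw [← Module.End.mul_apply, ← map_mul, hfg, aeval_chp ha.1 hv] at h2
  exact h2 rfl

/-- Commuting maps between invariant subspaces. -/
def HomT (T : Module.End K V) (U a : Submodule K V) : Type v :=
  {φ : U →ₗ[K] a // ∀ (u : U) (h : T u ∈ U), (φ ⟨T u, h⟩ : V) = T (φ u : V)}

theorem homT_aeval {U a : Submodule K V} (hU : Inv T U) (φ : HomT T U a) (p : K[X]) (u : U) :
    (φ.1 ⟨aeval T p (u : V), inv_aeval hU p u.2⟩ : V) = aeval T p (φ.1 u : V) := by
  induction p using Polynomial.induction_on generalizing u with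
  | C c =>
    have e : (⟨aeval T (C c) (u : V), inv_aeval hU _ u.2⟩ : U) = c • u := Subtype.ext (by simp)
    rw [e, map_smul]
    simp
  | add p q hp hq =>
    have e : (⟨aeval T (p + q) (u : V), inv_aeval hU _ u.2⟩ : U) =
        (⟨aeval T p (u : V), inv_aeval hU p u.2⟩ : U) + ⟨aeval T q (u : V), inv_aeval hU q u.2⟩ :=
      Subtype.ext (by simp)
    rw [e, map_add, Submodule.coe_add, hp, hq, map_add, LinearMap.add_apply]
  | monomial n c ih =>
    have e : (⟨aeval T (C c * X ^ (n + 1)) (u : V), inv_aeval hU _ u.2⟩ : U) =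
        ⟨aeval T (C c * X ^ n) (T u), inv_aeval hU _ (hU _ u.2)⟩ := Subtype.ext (by
      show aeval T (C c * X ^ (n + 1)) (u : V) = _
      rw [pow_succ, ← mul_assoc, map_mul, Module.End.mul_apply, aeval_X])
    rw [e, ih ⟨T u, hU _ u.2⟩, φ.2 u (hU _ u.2), pow_succ, ← mul_assoc, map_mul _ (C c * X ^ n) X,
      Module.End.mul_apply, aeval_X]

/-- Between simple invariant subspaces with the same polynomial the maps are given by the image of
a generator. -/
theorem card_homT_same {a b : Submodule K V} (ha : IsSimp T a) (hb : IsSimp T b)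
    (h : chp T b = chp T a) : Nat.card (HomT T b a) = Nat.card a := by
  classical
  obtain ⟨v, hv, hv0⟩ := Submodule.exists_mem_ne_zero_of_ne_bot hb.2.1
  let ev : ∀ w : V, Polynomial.degreeLT K (finrank K b) →ₗ[K] V := fun w =>
    ((LinearMap.applyₗ (R := K) w).comp (aeval T).toLinearMap).comp (Submodule.subtype _)
  have hev : ∀ w p, ev w p = aeval T (p : K[X]) w := fun w p => rfl
  let Ψ : Polynomial.degreeLT K (finrank K b) →ₗ[K] b :=
    (ev v).codRestrict b fun p => inv_aeval hb.1 _ hv
  have hΨi : Function.Injective Ψ := by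
    refine (injective_iff_map_eq_zero Ψ).2 fun p hp => Subtype.ext (by_contra fun hp0 => ?_)
    have hdeg := Polynomial.mem_degreeLT.1 p.2
    exact aeval_ne_zero hb hv hv0 hp0 ((natDegree_lt_iff_degree_lt hp0).2 hdeg)
      (congrArg Subtype.val hp)
  have hfin : finrank K (Polynomial.degreeLT K (finrank K b)) = finrank K b := by
    rw [(Polynomial.degreeLTEquiv K _).finrank_eq, finrank_fin_fun]
  haveI : FiniteDimensional K (Polynomial.degreeLT K (finrank K b)) :=
    (Polynomial.degreeLTEquiv K _).symm.finiteDimensional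
  let E := LinearEquiv.ofBijective Ψ
    ⟨hΨi, (LinearMap.injective_iff_surjective_of_finrank_eq_finrank hfin).1 hΨi⟩
  have key : ∀ w ∈ a, ∀ p : K[X], ∀ q : Polynomial.degreeLT K (finrank K b),
      aeval T (q : K[X]) v = aeval T p v → aeval T (q : K[X]) w = aeval T p w := by
    intro w hw p q hq
    set r := ((q : K[X]) - p) %ₘ chp T b with hr
    have hdiv := modByMonic_add_div ((q : K[X]) - p) (chp T b)
    have hrv : ∀ x, aeval T (chp T b) x = 0 →
        aeval T ((q : K[X]) - p) x = aeval T r x := fun x hx => by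
      conv_lhs => rw [← hdiv]
      rw [map_add, LinearMap.add_apply, mul_comm, map_mul, Module.End.mul_apply, hx, map_zero,
        add_zero]
    have hr0 : r = 0 := by
      by_contra hr0
      refine aeval_ne_zero hb hv hv0 hr0 ?_ ?_
      · rw [← chp_natDegree hb.1]
        exact natDegree_modByMonic_lt _ (chp_monic hb.1) fun h1 =>
          (irreducible_chp hb).not_isUnit (h1 ▸ isUnit_one)
      · rw [← hrv v (aeval_chp hb.1 hv), map_sub, LinearMap.sub_apply, hq, sub_self]
    have := hrv w (by rw [h]; exact aeval_chp ha.1 hw)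
    rw [hr0, map_zero, LinearMap.zero_apply, map_sub, LinearMap.sub_apply, sub_eq_zero] at this
    exact this
  have hE : ∀ q, ((E q : b) : V) = aeval T (q : K[X]) v := fun q => rfl
  refine Nat.card_congr (Equiv.ofBijective (fun φ : HomT T b a => φ.1 ⟨v, hv⟩) ⟨fun φ ψ hφψ => ?_,
    fun w => ?_⟩)
  · refine Subtype.ext (LinearMap.ext fun x => Subtype.ext ?_)
    obtain ⟨q, rfl⟩ := E.surjective x
    have e : E q = ⟨aeval T (q : K[X]) v, inv_aeval hb.1 _ hv⟩ := rfl
    rw [e, homT_aeval hb.1 φ _ ⟨v, hv⟩, homT_aeval hb.1 ψ _ ⟨v, hv⟩]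
    exact congrArg (fun y : a => aeval T (q : K[X]) (y : V)) hφψ
  · let φ : b →ₗ[K] a :=
      ((ev (w : V)).codRestrict a fun p => inv_aeval ha.1 _ w.2).comp E.symm.toLinearMap
    have hφ : ∀ (x : b) (p : K[X]), (x : V) = aeval T p v → (φ x : V) = aeval T p (w : V) := fun x p hx => by
      refine key w w.2 p (E.symm x) ?_
      rw [← hE, E.apply_symm_apply, hx]
    refine ⟨⟨φ, fun u hu => ?_⟩, Subtype.ext ?_⟩
    · have h1 : (u : V) = aeval T (E.symm u : K[X]) v := by rw [← hE, E.apply_symm_apply]
      rw [hφ u _ h1, hφ ⟨T u, hu⟩ (X * (E.symm u : K[X]))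
        (by rw [map_mul, Module.End.mul_apply, aeval_X, ← h1]),
        map_mul, Module.End.mul_apply, aeval_X]
    · refine (hφ ⟨v, hv⟩ 1 (by simp)).trans ?_
      simp

theorem card_homT_ne {a b : Submodule K V} (ha : IsSimp T a) (hb : IsSimp T b)
    (h : chp T b ≠ chp T a) : Nat.card (HomT T b a) = 1 := by
  rw [Nat.card_eq_one_iff_unique]
  have hco : IsCoprime (chp T a) (chp T b) :=
    ((irreducible_chp ha).coprime_iff_not_dvd).2 fun hd => h (eq_of_monic_of_associated
      (chp_monic hb.1) (chp_monic ha.1) ((irreducible_chp ha).associated_of_dvd (irreducible_chp hb) hd).symm)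
  obtain ⟨r, s, hrs⟩ := hco
  have key : ∀ φ : HomT T b a, ∀ x, φ.1 x = 0 := fun φ x => by
    have h0 : aeval T (chp T b) (φ.1 x : V) = 0 := by
      rw [← homT_aeval hb.1 φ (chp T b) x,
        show (⟨aeval T (chp T b) (x : V), inv_aeval hb.1 _ x.2⟩ : b) = 0 from
          Subtype.ext (aeval_chp hb.1 x.2), map_zero, Submodule.coe_zero]
    have h1 : aeval T (r * chp T a + s * chp T b) (φ.1 x : V) = 0 := by
      rw [map_add, LinearMap.add_apply, map_mul, map_mul, Module.End.mul_apply,
        Module.End.mul_apply, aeval_chp ha.1 (φ.1 x).2, h0, map_zero, map_zero, add_zero]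
    rw [hrs, map_one, Module.End.one_apply] at h1
    exact Subtype.ext h1
  exact ⟨⟨fun φ ψ => Subtype.ext (LinearMap.ext fun x => (key φ x).trans (key ψ x).symm)⟩,
    ⟨⟨0, fun u _ => by simp⟩⟩⟩

section split

variable {a U W : Submodule K V}

/-- The decomposition of `W` given by a disjoint pair. -/
noncomputable def split (hd : Disjoint a U) (hs : a ⊔ U = W) : (a × U) ≃ₗ[K] W :=
  LinearEquiv.ofBijective ((a.subtype.coprod U.subtype).codRestrict W fun x =>
      hs ▸ Submodule.add_mem_sup x.1.2 x.2.2) ⟨by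
    refine (injective_iff_map_eq_zero _).2 fun x hx => ?_
    have h0 : (x.1 : V) + (x.2 : V) = 0 := congrArg Subtype.val hx
    have h1 : (x.1 : V) ∈ U := by rw [eq_neg_of_add_eq_zero_left h0]; exact neg_mem x.2.2
    have h2 : (x.1 : V) = 0 := (Submodule.disjoint_def.1 hd) _ x.1.2 h1
    rw [h2, zero_add] at h0
    exact Prod.ext (Subtype.ext h2) (Subtype.ext h0), fun w => by
    obtain ⟨y, hy, z, hz, hyz⟩ := Submodule.mem_sup.1 (hs.symm ▸ w.2 : (w : V) ∈ a ⊔ U)
    exact ⟨(⟨y, hy⟩, ⟨z, hz⟩), Subtype.ext hyz⟩⟩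

theorem split_apply (hd : Disjoint a U) (hs : a ⊔ U = W) (x : a × U) :
    (split hd hs x : V) = x.1 + x.2 := rfl

theorem split_symm_add (hd : Disjoint a U) (hs : a ⊔ U = W) (w : W) :
    ((split hd hs).symm w).1.1 + ((split hd hs).symm w).2.1 = (w : V) := by
  conv_rhs => rw [← (split hd hs).apply_symm_apply w]
  rfl

theorem chp_sup (ha : Inv T a) (hU : Inv T U) (hd : Disjoint a U) (hs : a ⊔ U = W) :
    chp T W = chp T a * chp T U := by
  have hW : Inv T W := hs ▸ inv_sup ha hU
  rw [chp_eq ha, chp_eq hU, chp_eq hW, ← LinearMap.charpoly_prodMap,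
    ← (split hd hs).charpoly_conj]
  congr 1
  refine LinearMap.ext fun w => Subtype.ext ?_
  obtain ⟨x, rfl⟩ := (split hd hs).surjective w
  rw [LinearEquiv.conj_apply_apply, LinearEquiv.symm_apply_apply]
  show T ((x.1 : V) + x.2) = T (x.1 : V) + T (x.2 : V)
  rw [map_add]

theorem finrank_sup_eq (hd : Disjoint a U) (hs : a ⊔ U = W) :
    finrank K W = finrank K a + finrank K U := by
  rw [← (split hd hs).finrank_eq, finrank_prod]

end split

theorem exists_compl (hT : T.IsSemisimple) {a W : Submodule K V} (ha : Inv T a) (hW : Inv T W)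
    (h : a ≤ W) : ∃ U, Inv T U ∧ Disjoint a U ∧ a ⊔ U = W := by
  obtain ⟨q, hq, hc⟩ := Module.End.isSemisimple_iff.1 hT a ha
  refine ⟨q ⊓ W, inv_inf hq hW, hc.1.mono_right inf_le_left, ?_⟩
  rw [← sup_inf_assoc_of_le q h, hc.sup_eq_top, top_inf_eq]

variable [Finite K]

open UniqueFactorizationMonoid in
open scoped Classical in
theorem nf_sup {a U W : Submodule K V} (ha : IsSimp T a) (hU : Inv T U) (hd : Disjoint a U)
    (hs : a ⊔ U = W) :
    normalizedFactors (chp T W) = chp T a ::ₘ normalizedFactors (chp T U) := by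
  rw [chp_sup ha.1 hU hd hs, normalizedFactors_mul (chp_ne_zero ha.1) (chp_ne_zero hU),
    normalizedFactors_irreducible (irreducible_chp ha), (chp_monic ha.1).normalize_eq_self,
    Multiset.singleton_add]

open UniqueFactorizationMonoid in
open scoped Classical in
theorem card_homT (hT : T.IsSemisimple) {a : Submodule K V} (ha : IsSimp T a) {U : Submodule K V}
    (hU : Inv T U) : Nat.card (HomT T U a) =
      (Nat.card K ^ (chp T a).natDegree) ^ (normalizedFactors (chp T U)).count (chp T a) := by
  induction hn : finrank K U using Nat.strong_induction_on generalizing U with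
  | _ n ih =>
    subst hn
    by_cases h0 : U = ⊥
    · subst h0
      have hc : chp T (⊥ : Submodule K V) = 1 := eq_one_of_monic_natDegree_zero (chp_monic hU)
        (by rw [chp_natDegree hU, finrank_bot])
      rw [hc, normalizedFactors_one, Multiset.count_zero, pow_zero, Nat.card_eq_one_iff_unique]
      exact ⟨⟨fun φ ψ => Subtype.ext (Subsingleton.elim _ _)⟩, ⟨⟨0, fun u _ => by simp⟩⟩⟩
    obtain ⟨b, hbU, hb⟩ := exists_simp hU h0
    obtain ⟨U', hU', hd, hs⟩ := exists_compl hT hb.1 hU hbU
    let e := split hd hs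
    have he : ∀ x : b × U', ∀ h : T (e x : V) ∈ U,
        (⟨T (e x : V), h⟩ : U) = e (⟨T x.1, hb.1 _ x.1.2⟩, ⟨T x.2, hU' _ x.2.2⟩) := fun x h =>
      Subtype.ext (by show T ((x.1 : V) + x.2) = _; rw [map_add]; rfl)
    have hprod : Nat.card (HomT T U a) = Nat.card (HomT T b a) * Nat.card (HomT T U' a) := by
      rw [← Nat.card_prod]
      refine Nat.card_congr
        { toFun := fun φ => (⟨(φ.1.comp e.toLinearMap).comp (LinearMap.inl K b U'), fun u h => ?_⟩,
            ⟨(φ.1.comp e.toLinearMap).comp (LinearMap.inr K b U'), fun u h => ?_⟩)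
          invFun := fun ψ => ⟨(ψ.1.1.coprod ψ.2.1).comp e.symm.toLinearMap, fun u h => ?_⟩
          left_inv := fun φ => Subtype.ext (LinearMap.ext fun u => ?_)
          right_inv := fun ψ => ?_ }
      · have := φ.2 (e (u, 0)) (hU _ (e (u, 0)).2)
        rw [he (u, 0), show (⟨T ((0 : U') : V), hU' _ (0 : U').2⟩ : U') = 0 from
          Subtype.ext (map_zero T)] at this
        exact this
      · have := φ.2 (e (0, u)) (hU _ (e (0, u)).2)
        rw [he (0, u), show (⟨T ((0 : b) : V), hb.1 _ (0 : b).2⟩ : b) = 0 from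
          Subtype.ext (map_zero T)] at this
        exact this
      · obtain ⟨x, rfl⟩ := e.surjective u
        simp only [LinearMap.comp_apply, he x h, LinearEquiv.coe_coe, e.symm_apply_apply,
          LinearMap.coprod_apply, Submodule.coe_add, map_add, ψ.1.2, ψ.2.2]
      · obtain ⟨x, rfl⟩ := e.surjective u
        simp [← map_add]
      · exact Prod.ext (Subtype.ext (LinearMap.ext fun x => by simp))
          (Subtype.ext (LinearMap.ext fun x => by simp))
    have hlt : finrank K U' < finrank K U := by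
      have := finrank_sup_eq hd hs
      have := finrank_pos_of_simp hb
      omega
    rw [hprod, ih _ hlt hU' rfl, nf_sup hb hU' hd hs, Multiset.count_cons]
    by_cases hab : chp T b = chp T a
    · rw [card_homT_same ha hb hab, if_pos hab.symm, pow_succ', Module.natCard_eq_pow_finrank (K := K),
        chp_natDegree ha.1]
    · rw [card_homT_ne ha hb hab, if_neg (Ne.symm hab), add_zero, one_mul]

/-- The complements of a simple invariant subspace correspond to maps out of one of them. -/
theorem card_compl {a W U₀ : Submodule K V} (ha : Inv T a) (hU₀ : Inv T U₀) (hd : Disjoint a U₀)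
    (hs : a ⊔ U₀ = W) :
    Nat.card {U : Submodule K V // Inv T U ∧ Disjoint a U ∧ a ⊔ U = W} = Nat.card (HomT T U₀ a) := by
  refine (Nat.card_congr (Equiv.ofBijective (fun φ : HomT T U₀ a =>
    (⟨LinearMap.range (U₀.subtype + a.subtype.comp φ.1), ?_, ?_, ?_⟩ :
      {U : Submodule K V // Inv T U ∧ Disjoint a U ∧ a ⊔ U = W})) ⟨?_, ?_⟩)).symm
  · rintro _ ⟨u, rfl⟩
    exact ⟨⟨T u, hU₀ _ u.2⟩, by simp [φ.2]⟩
  · rw [Submodule.disjoint_def]
    rintro _ hxa ⟨u, rfl⟩
    have h1 : (u : V) ∈ a := by simpa using sub_mem hxa (φ.1 u).2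
    have h2 : u = 0 := Subtype.ext (Submodule.disjoint_def.1 hd _ h1 u.2)
    simp [h2]
  · refine le_antisymm (sup_le (hs ▸ le_sup_left) ?_) (hs ▸ sup_le le_sup_left ?_)
    · rintro _ ⟨u, rfl⟩
      rw [← hs, show (U₀.subtype + a.subtype.comp φ.1) u = (φ.1 u : V) + u by simp [add_comm]]
      exact Submodule.add_mem_sup (φ.1 u).2 u.2
    · intro u hu
      refine Submodule.mem_sup.2 ⟨-(φ.1 ⟨u, hu⟩ : V), neg_mem (φ.1 ⟨u, hu⟩).2, _, ⟨⟨u, hu⟩, rfl⟩, ?_⟩
      simp
  · intro φ ψ h
    refine Subtype.ext (LinearMap.ext fun u => Subtype.ext ?_)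
    have h' : LinearMap.range (U₀.subtype + a.subtype.comp φ.1) =
        LinearMap.range (U₀.subtype + a.subtype.comp ψ.1) := congrArg Subtype.val h
    have h1 : (U₀.subtype + a.subtype.comp φ.1) u ∈
        LinearMap.range (U₀.subtype + a.subtype.comp ψ.1) := by
      rw [← h']; exact LinearMap.mem_range_self _ u
    obtain ⟨u', hu'⟩ := h1
    simp only [LinearMap.add_apply, LinearMap.comp_apply, Submodule.subtype_apply] at hu'
    have h2 : (u' : V) - u ∈ a := by
      rw [show (u' : V) - u = (φ.1 u : V) - (ψ.1 u' : V) by linear_combination (norm := abel) hu']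
      exact sub_mem (φ.1 u).2 (ψ.1 u').2
    have h3 : u' = u := Subtype.ext (sub_eq_zero.1
      (Submodule.disjoint_def.1 hd _ h2 (sub_mem u'.2 u.2)))
    subst h3
    exact (add_left_cancel hu').symm
  · rintro ⟨U, hU, hdU, hsU⟩
    let e := split hdU hsU
    let ι : U₀ →ₗ[K] W := Submodule.inclusion (hs ▸ le_sup_right)
    let φ : U₀ →ₗ[K] a := -((LinearMap.fst K a U).comp (e.symm.toLinearMap.comp ι))
    have hφ : ∀ u : U₀, (u : V) + (φ u : V) = ((e.symm (ι u)).2 : V) := fun u => by
      have h1 := split_symm_add hdU hsU (ι u)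
      show (u : V) + -((e.symm (ι u)).1 : V) = _
      rw [show (u : V) = ((e.symm (ι u)).1 : V) + (e.symm (ι u)).2 from h1.symm]
      abel
    refine ⟨⟨φ, fun u h => ?_⟩, Subtype.ext ?_⟩
    · have h2 : e.symm (ι ⟨T u, h⟩) =
          (⟨T (e.symm (ι u)).1, ha _ (e.symm (ι u)).1.2⟩, ⟨T (e.symm (ι u)).2, hU _ (e.symm (ι u)).2.2⟩) := by
        rw [LinearEquiv.symm_apply_eq]
        refine Subtype.ext ?_
        show T (u : V) = T _ + T _
        rw [← map_add]
        exact congrArg T (split_symm_add hdU hsU (ι u)).symm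
      show -(((e.symm (ι ⟨T u, h⟩)).1 : a) : V) = T (-((e.symm (ι u)).1 : V))
      rw [h2, map_neg]
    · refine Submodule.eq_of_le_of_finrank_eq ?_ ?_
      · rintro _ ⟨u, rfl⟩
        show (u : V) + (φ u : V) ∈ U
        rw [hφ]
        exact (e.symm (ι u)).2.2
      · have h1 := finrank_sup_eq hd hs
        have h2 := finrank_sup_eq hdU hsU
        rw [LinearMap.finrank_range_of_inj]
        · show finrank K U₀ = finrank K U
          omega
        · refine (injective_iff_map_eq_zero _).2 fun u hu => Subtype.ext ?_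
          have h3 : (u : V) + (φ u : V) = 0 := hu
          exact Submodule.disjoint_def.1 hd _ (by
            rw [eq_neg_of_add_eq_zero_left h3]; exact neg_mem (φ u).2) u.2

open scoped Classical in
/-- The value attached to a multiset of irreducible polynomials. -/
noncomputable def weight (q : ℕ) (s : Multiset K[X]) : ℂ :=
  ∏ f ∈ s.toFinset, (-1 : ℂ) ^ s.count f * ((q ^ f.natDegree : ℕ) : ℂ) ^ (s.count f).choose 2

theorem weight_cons (q : ℕ) (f : K[X]) (s : Multiset K[X]) [DecidableEq K[X]] :
    weight q (f ::ₘ s) = -((q ^ f.natDegree : ℕ) : ℂ) ^ s.count f * weight q s := by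
  classical
  let t : K[X] → ℕ → ℂ := fun x m => (-1 : ℂ) ^ m * ((q ^ x.natDegree : ℕ) : ℂ) ^ m.choose 2
  have hw : ∀ u : Multiset K[X], u.toFinset ⊆ insert f s.toFinset →
      weight q u = ∏ x ∈ insert f s.toFinset, t x (u.count x) := fun u hu => by
    refine (Finset.prod_congr (by congr!) fun x _ => by congr!).trans (Finset.prod_subset hu fun x _ hx => ?_)
    rw [Multiset.count_eq_zero.2 fun h => hx (Multiset.mem_toFinset.2 h)]
    simp [t]
  rw [hw s (Finset.subset_insert _ _), hw (f ::ₘ s) (by rw [Multiset.toFinset_cons])]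
  rw [← Finset.mul_prod_erase _ _ (Finset.mem_insert_self f _),
    ← Finset.mul_prod_erase _ (fun x => t x (s.count x)) (Finset.mem_insert_self f _),
    Finset.prod_congr rfl (g := fun x => t x (s.count x)) fun x hx => by
      rw [Multiset.count_cons_of_ne (Finset.mem_erase.1 hx).1], Multiset.count_cons_self, ← mul_assoc]
  congr 1
  simp only [t, Nat.choose_succ_succ' _ 1, Nat.choose_one_right, pow_succ, pow_add]
  ring

section mobius

variable [Finite V]

open scoped Classical in
/-- The invariant subspaces below `W`. -/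
noncomputable def below (T : Module.End K V) (W : Submodule K V) : Finset (Submodule K V) :=
  (Set.toFinite {U | Inv T U ∧ U ≤ W}).toFinset

theorem mem_below {U W : Submodule K V} : U ∈ below T W ↔ Inv T U ∧ U ≤ W := by simp [below]

open scoped Classical in
/-- Weisner's theorem. -/
theorem weisner {μ : Submodule K V → ℂ}
    (hμ : ∀ W, Inv T W → W ≠ ⊥ → ∑ U ∈ below T W, μ U = 0) {a : Submodule K V} (ha : Inv T a)
    (ha0 : a ≠ ⊥) {W : Submodule K V} (hW : Inv T W) (haW : a ≤ W) :
    ∑ U ∈ (below T W).filter (fun U => U ⊔ a = W), μ U = 0 := by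
  induction hn : finrank K W using Nat.strong_induction_on generalizing W with
  | _ n ih =>
    subst hn
    have hW0 : W ≠ ⊥ := fun h => ha0 (le_bot_iff.1 (h ▸ haW))
    have hsplit := Finset.sum_fiberwise_of_maps_to (s := below T W)
      (t := (below T W).filter (a ≤ ·)) (g := fun U => U ⊔ a) (fun U hU => by
        obtain ⟨h1, h2⟩ := mem_below.1 hU
        exact Finset.mem_filter.2 ⟨mem_below.2 ⟨inv_sup h1 ha, sup_le h2 haW⟩, le_sup_right⟩) μ
    rw [hμ W hW hW0, Finset.sum_eq_single W (fun W' hW' hne => ?_) (fun h => absurd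
      (Finset.mem_filter.2 ⟨mem_below.2 ⟨hW, le_rfl⟩, haW⟩) h)] at hsplit
    · exact hsplit
    obtain ⟨hW'W, haW'⟩ := Finset.mem_filter.1 hW'
    obtain ⟨hW'i, hle⟩ := mem_below.1 hW'W
    refine (Finset.sum_congr ?_ fun _ _ => rfl).trans
      (ih _ (Submodule.finrank_lt_finrank_of_lt (lt_of_le_of_ne hle hne)) hW'i haW' rfl)
    ext U
    simp only [Finset.mem_filter, mem_below]
    constructor
    · rintro ⟨⟨h1, -⟩, rfl⟩
      exact ⟨⟨h1, le_sup_left⟩, rfl⟩
    · rintro ⟨⟨h1, h2⟩, h3⟩
      exact ⟨⟨h1, h2.trans hle⟩, h3⟩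

open UniqueFactorizationMonoid in
open scoped Classical in
/-- The Möbius function of the invariant subspaces. -/
theorem mobius_eq (hT : T.IsSemisimple) {μ : Submodule K V → ℂ} (h1 : μ ⊥ = 1)
    (hμ : ∀ W, Inv T W → W ≠ ⊥ → ∑ U ∈ below T W, μ U = 0) {W : Submodule K V} (hW : Inv T W) :
    μ W = weight (Nat.card K) (normalizedFactors (chp T W)) := by
  induction hn : finrank K W using Nat.strong_induction_on generalizing W with
  | _ n ih =>
    subst hn
    by_cases h0 : W = ⊥
    · subst h0
      rw [h1, eq_one_of_monic_natDegree_zero (chp_monic hW) (by rw [chp_natDegree hW, finrank_bot]),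
        normalizedFactors_one]
      simp [weight]
    obtain ⟨a, haW, ha⟩ := exists_simp hW h0
    obtain ⟨U₀, hU₀, hd₀, hs₀⟩ := exists_compl hT ha.1 hW haW
    have hsum := weisner hμ ha.1 ha.2.1 hW haW
    have hWmem : W ∈ (below T W).filter (fun U => U ⊔ a = W) :=
      Finset.mem_filter.2 ⟨mem_below.2 ⟨hW, le_rfl⟩, sup_of_le_left haW⟩
    rw [← Finset.add_sum_erase _ _ hWmem] at hsum
    have hmem : ∀ U, U ∈ ((below T W).filter (fun U => U ⊔ a = W)).erase W ↔
        Inv T U ∧ Disjoint a U ∧ a ⊔ U = W := by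
      intro U
      simp only [Finset.mem_erase, Finset.mem_filter, mem_below]
      constructor
      · rintro ⟨hne, ⟨hi, hle⟩, hs⟩
        refine ⟨hi, disjoint_iff.2 ((ha.2.2 _ (inv_inf ha.1 hi) inf_le_left).resolve_right fun h => ?_),
          by rw [sup_comm, hs]⟩
        exact hne (by rw [← hs, sup_of_le_left (inf_eq_left.1 h)])
      · rintro ⟨hi, hd, hs⟩
        refine ⟨fun h => ha.2.1 ?_, ⟨hi, hs ▸ le_sup_right⟩, by rw [sup_comm, hs]⟩
        subst h
        exact (inf_eq_left.2 haW).symm.trans hd.eq_bot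
    have hnf : ∀ U, Inv T U → Disjoint a U → a ⊔ U = W →
        normalizedFactors (chp T U) = (normalizedFactors (chp T W)).erase (chp T a) :=
      fun U hi hd hs => by rw [nf_sup ha hi hd hs, Multiset.erase_cons_head]
    have hval : ∀ U ∈ ((below T W).filter (fun U => U ⊔ a = W)).erase W,
        μ U = weight (Nat.card K) (normalizedFactors (chp T U₀)) := fun U hU => by
      obtain ⟨hi, hd, hs⟩ := (hmem U).1 hU
      have hlt : finrank K U < finrank K W := by
        have := finrank_sup_eq hd hs
        have := finrank_pos_of_simp ha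
        omega
      rw [ih _ hlt hi rfl, hnf U hi hd hs, hnf U₀ hU₀ hd₀ hs₀]
    rw [Finset.sum_congr rfl hval, Finset.sum_const, nsmul_eq_mul] at hsum
    have hcard : (((below T W).filter (fun U => U ⊔ a = W)).erase W).card =
        (Nat.card K ^ (chp T a).natDegree) ^ (normalizedFactors (chp T U₀)).count (chp T a) := by
      rw [← card_homT hT ha hU₀, ← card_compl ha.1 hU₀ hd₀ hs₀, ← Nat.card_eq_finsetCard]
      exact Nat.card_congr (Equiv.subtypeEquivRight hmem)
    rw [hcard] at hsum
    rw [nf_sup ha hU₀ hd₀ hs₀, weight_cons, eq_neg_of_add_eq_zero_left hsum]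
    push_cast
    ring

end mobius

end CfsgLib.CharsMore.St.Mobius
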