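import Cfsg.Prelude.Def_LinearParabolics
import Cfsg.Agent.Lib.CharsMore.St.Mobius
import Mathlib

/-!
# Values of the Steinberg character of `GL_n(q)`

The Steinberg character at `x` is, up to sign, the Möbius function of the lattice of `x`-invariant
subspaces.
-/

set_option linter.unusedSectionVars false
set_option linter.style.haveILetI false

namespace CfsgLib.CharsMore.St.GLValue

open Finset Matrix CfsgLib.CharsMore.St.Mobius

universe u v

variable {n : ℕ}

/-- Partial sums of a composition. -/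
def part (μ : Fin n → ℕ) (j : Fin n) : ℕ := ∑ k ∈ univ.filter (fun k : Fin n => k ≤ j), μ k

/-- The cuts of a composition. -/
def cuts (μ : Fin n → ℕ) : Finset ℕ := (univ.image (part μ)) ∩ Ioo 0 n

theorem mem_cuts {μ : Fin n → ℕ} {d : ℕ} :
    d ∈ cuts μ ↔ (0 < d ∧ d < n) ∧ ∃ j, part μ j = d := by
  simp [cuts, and_comm]

theorem compLabel_lt_compLabel (μ : Fin n → ℕ) (r c : Fin n) :
    Cfsg.compLabel μ c < Cfsg.compLabel μ r ↔ ∃ j, part μ j ≤ r.val ∧ c.val < part μ j := by
  constructor
  · intro h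
    by_contra! hc
    refine absurd h (not_lt.2 (card_le_card fun j hj => ?_))
    simp only [mem_filter, mem_univ, true_and] at hj ⊢
    exact hc j hj
  · rintro ⟨j, h1, h2⟩
    refine card_lt_card ((ssubset_iff_of_subset fun i hi => ?_).2 ⟨j, ?_, ?_⟩)
    · simp only [mem_filter, mem_univ, true_and] at hi ⊢
      exact hi.trans (by omega)
    · simpa [part] using h1
    · simpa [part] using h2

section flags

variable (F : Type u) [Field F] (n)

/-- The standard subspaces. -/
def supp (d : ℕ) : Submodule F (Fin n → F) where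
  carrier := {v | ∀ i : Fin n, d ≤ i.val → v i = 0}
  add_mem' {a b} ha hb i hi := by rw [Pi.add_apply, ha i hi, hb i hi, add_zero]
  zero_mem' _ _ := rfl
  smul_mem' c a ha i hi := by rw [Pi.smul_apply, ha i hi, smul_zero]

variable {F n}

theorem mem_supp {d : ℕ} {v : Fin n → F} : v ∈ supp n F d ↔ ∀ i : Fin n, d ≤ i.val → v i = 0 := Iff.rfl

theorem single_mem_supp {d : ℕ} {i : Fin n} (h : i.val < d) (c : F) :
    (Pi.single i c : Fin n → F) ∈ supp n F d := fun j hj =>
  by rw [Pi.single_eq_of_ne]; rintro rfl; omega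

theorem supp_eq_span {d : ℕ} (hd : d ≤ n) :
    supp n F d = Submodule.span F (Set.range fun i : Fin d => (Pi.single (i.castLE hd) 1 : Fin n → F)) := by
  refine le_antisymm (fun v hv => ?_) (Submodule.span_le.2 ?_)
  · rw [← Finset.univ_sum_single v]
    refine Submodule.sum_mem _ fun i _ => ?_
    by_cases hi : i.val < d
    · rw [show (Pi.single i (v i) : Fin n → F) = v i • Pi.single i 1 by
        rw [← Pi.single_smul, smul_eq_mul, mul_one]]
      exact Submodule.smul_mem _ _ (Submodule.subset_span ⟨⟨i.val, hi⟩, by simp⟩)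
    · rw [hv i (not_lt.1 hi), Pi.single_zero]
      exact zero_mem _
  · rintro _ ⟨i, rfl⟩
    exact single_mem_supp (by simp) 1

theorem finrank_supp {d : ℕ} (hd : d ≤ n) : Module.finrank F (supp n F d) = d := by
  rw [supp_eq_span hd,
    finrank_span_eq_card (b := fun i : Fin d => (Pi.single (i.castLE hd) 1 : Fin n → F)), Fintype.card_fin]
  have h := (Pi.basisFun F (Fin n)).linearIndependent.comp _ (Fin.castLE_injective hd)
  simpa [Function.comp_def] using h

theorem mem_parabolic {μ : Fin n → ℕ} {g : GL (Fin n) F} :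
    g ∈ Cfsg.parabolicGL n F μ ↔ ∀ d ∈ cuts μ, ∀ v ∈ supp n F d,
      (g : Matrix (Fin n) (Fin n) F) *ᵥ v ∈ supp n F d := by
  constructor
  · intro hg d hd v hv r hr
    obtain ⟨-, j, rfl⟩ := mem_cuts.1 hd
    show ∑ c : Fin n, (g : Matrix (Fin n) (Fin n) F) r c * v c = 0
    refine Finset.sum_eq_zero fun c _ => ?_
    by_cases hc : c.val < part μ j
    · show (g : Matrix (Fin n) (Fin n) F) r c * v c = 0
      rw [hg ((compLabel_lt_compLabel μ r c).2 ⟨j, hr, hc⟩), zero_mul]
    · show (g : Matrix (Fin n) (Fin n) F) r c * v c = 0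
      rw [hv c (not_lt.1 hc), mul_zero]
  · intro h r c hrc
    obtain ⟨j, h1, h2⟩ := (compLabel_lt_compLabel μ r c).1 hrc
    have h3 := h (part μ j) (mem_cuts.2 ⟨⟨by omega, lt_of_le_of_lt h1 r.isLt⟩, j, rfl⟩)
      (Pi.single c 1) (single_mem_supp h2 1) r h1
    simpa using h3

end flags

/-! ### The sum over permutations -/

/-- The admissible permutations. -/
def Adm (κ : Equiv.Perm (Fin n)) : Prop := ∀ i : Fin n, (κ i).val ≤ 1 + i.val

instance (κ : Equiv.Perm (Fin n)) : Decidable (Adm κ) := inferInstanceAs (Decidable (∀ _, _))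

/-- The composition of an admissible permutation. -/
def muK (κ : Equiv.Perm (Fin n)) (i : Fin n) : ℕ := 1 + i.val - (κ i).val

theorem part_succ (μ : Fin (n + 1) → ℕ) (j : Fin n) :
    part μ j.succ = μ 0 + part (fun i => μ i.succ) j := by
  simp only [part, Finset.sum_filter, Fin.sum_univ_succ, Fin.zero_le, if_true, Fin.succ_le_succ_iff]

theorem part_zero (μ : Fin (n + 1) → ℕ) : part μ 0 = μ 0 := by
  simp [part, Finset.sum_filter, Fin.sum_univ_succ, Fin.succ_ne_zero]

theorem part_eq_zero_iff {e : Equiv.Perm (Fin (n + 1))} (he : Adm e) (j : Fin (n + 1)) :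
    part (muK e) j = 0 ↔ ∀ i ≤ j, e i ≠ 0 := by
  rw [part, Finset.sum_eq_zero_iff]
  simp only [mem_filter, mem_univ, true_and]
  constructor
  · intro h i hi h0
    have := h i hi
    rw [muK, h0] at this
    simp at this
  · intro h i hi
    have key : ∀ k : ℕ, ∀ i : Fin (n + 1), i.val = k → i ≤ j → (e i).val = 1 + i.val := by
      intro k
      induction k using Nat.strong_induction_on with
      | _ k ih =>
        intro i hik hij
        have h1 : (e i).val ≠ 0 := fun h' => h i hij (Fin.ext h')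
        by_contra hne
        have h2 : (e i).val - 1 < k := by have := he i; omega
        have h3 := ih _ h2 ⟨(e i).val - 1, by omega⟩ rfl
          (le_trans (Fin.le_def.2 (show (e i).val - 1 ≤ i.val by omega)) hij)
        have h4 : e ⟨(e i).val - 1, by omega⟩ = e i := Fin.ext (by rw [h3]; simp only; omega)
        have h5 := congrArg Fin.val (e.injective h4)
        simp only at h5
        omega
    rw [muK, key _ i rfl hi, Nat.sub_self]

theorem decompose_adm_zero (e : Equiv.Perm (Fin (n + 1))) :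
    (Adm (Equiv.Perm.decomposeFin.symm (0, e)) ↔ Adm e) ∧
    (Adm e → cuts (muK (Equiv.Perm.decomposeFin.symm (0, e))) =
      insert 1 ((cuts (muK e)).image (· + 1))) := by
  set κ := Equiv.Perm.decomposeFin.symm ((0 : Fin (n + 2)), e)
  have h0 : κ 0 = 0 := Equiv.Perm.decomposeFin_symm_apply_zero _ _
  have hs : ∀ i : Fin (n + 1), (κ i.succ).val = (e i).val + 1 := fun i => by
    rw [Equiv.Perm.decomposeFin_symm_apply_succ, Equiv.swap_self, Equiv.refl_apply, Fin.val_succ]
  refine ⟨⟨fun h i => ?_, fun h i => ?_⟩, fun _ => ?_⟩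
  · have := h i.succ
    rw [hs, Fin.val_succ] at this
    omega
  · induction i using Fin.cases with
    | zero => rw [h0]; simp
    | succ i => rw [hs, Fin.val_succ]; have := h i; omega
  have hμ0 : muK κ 0 = 1 := by simp [muK, h0]
  have hμs : (fun i : Fin (n + 1) => muK κ i.succ) = muK e := funext fun i => by
    simp only [muK, hs, Fin.val_succ]; omega
  ext d
  simp only [mem_insert, mem_image, mem_cuts]
  constructor
  · rintro ⟨⟨hd0, hd⟩, j, hj⟩
    induction j using Fin.cases with
    | zero => left; rw [part_zero, hμ0] at hj; omega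
    | succ j =>
      rw [part_succ, hμ0, hμs] at hj
      by_cases hp : part (muK e) j = 0
      · left; omega
      · exact Or.inr ⟨part (muK e) j, ⟨⟨by omega, by omega⟩, j, rfl⟩, by omega⟩
  · rintro (rfl | ⟨d', ⟨⟨hd0, hd⟩, j, hj⟩, rfl⟩)
    · exact ⟨⟨by omega, by omega⟩, 0, by rw [part_zero, hμ0]⟩
    · exact ⟨⟨by omega, by omega⟩, j.succ, by rw [part_succ, hμ0, hμs, hj, add_comm]⟩

theorem decompose_adm_one (e : Equiv.Perm (Fin (n + 1))) :
    (Adm (Equiv.Perm.decomposeFin.symm (1, e)) ↔ Adm e) ∧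
    (Adm e → cuts (muK (Equiv.Perm.decomposeFin.symm (1, e))) =
      (cuts (muK e)).image (· + 1)) := by
  set κ := Equiv.Perm.decomposeFin.symm ((1 : Fin (n + 2)), e)
  have h0 : κ 0 = 1 := Equiv.Perm.decomposeFin_symm_apply_zero _ _
  have hs : ∀ i : Fin (n + 1), (κ i.succ).val = if e i = 0 then 0 else (e i).val + 1 := fun i => by
    rw [Equiv.Perm.decomposeFin_symm_apply_succ]
    split_ifs with h
    · rw [h, Fin.succ_zero_eq_one, Equiv.swap_apply_right]; rfl
    · rw [Equiv.swap_apply_of_ne_of_ne (Fin.succ_ne_zero _)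
        (fun h' => h (Fin.succ_injective _ (h'.trans Fin.succ_zero_eq_one.symm))), Fin.val_succ]
  refine ⟨⟨fun h i => ?_, fun h i => ?_⟩, fun he => ?_⟩
  · have := h i.succ
    rw [hs, Fin.val_succ] at this
    split_ifs at this with h'
    · rw [h']; simp
    · omega
  · induction i using Fin.cases with
    | zero => rw [h0]; simp
    | succ i =>
      rw [hs, Fin.val_succ]
      have := h i
      split_ifs <;> omega
  have hμ0 : muK κ 0 = 0 := by simp [muK, h0]
  have hμs : ∀ i : Fin (n + 1), muK κ i.succ = muK e i + if e i = 0 then 1 else 0 := fun i => by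
    simp only [muK, hs, Fin.val_succ]
    have := he i
    split_ifs with h'
    · rw [h']; simp; omega
    · omega
  have hpart : ∀ j, part (muK κ) j.succ = if part (muK e) j = 0 then 0 else part (muK e) j + 1 := by
    intro j
    rw [part_succ, hμ0, zero_add,
      show part (fun i => muK κ i.succ) j = part (muK e) j + if e.symm 0 ≤ j then 1 else 0 by
        simp only [part, hμs, sum_add_distrib, Equiv.apply_eq_iff_eq_symm_apply]
        simp [Finset.sum_filter]]
    by_cases hle : e.symm 0 ≤ j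
    · rw [if_pos hle, if_neg fun hp => (part_eq_zero_iff he j).1 hp _ hle (by simp)]
    · have hp := (part_eq_zero_iff he j).2 fun i hi h' => hle (by rw [← h', Equiv.symm_apply_apply]; exact hi)
      rw [if_neg hle, if_pos hp, hp]
  ext d
  simp only [mem_image, mem_cuts]
  constructor
  · rintro ⟨⟨hd0, hd⟩, j, hj⟩
    induction j using Fin.cases with
    | zero => rw [part_zero, hμ0] at hj; omega
    | succ j =>
      rw [hpart] at hj
      split_ifs at hj with hp
      · omega
      · exact ⟨part (muK e) j, ⟨⟨by omega, by omega⟩, j, rfl⟩, by omega⟩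
  · rintro ⟨d', ⟨⟨hd0, hd⟩, j, hj⟩, rfl⟩
    exact ⟨⟨by omega, by omega⟩, j.succ, by rw [hpart, if_neg (by omega), hj]⟩

theorem signed_sum (n : ℕ) (Φ : Finset ℕ → ℂ) :
    ∑ κ : Equiv.Perm (Fin (n + 1)),
      (if Adm κ then ((Equiv.Perm.sign κ : ℤ) : ℂ) * Φ (cuts (muK κ)) else 0) =
      ∑ S ∈ (Ioo 0 (n + 1)).powerset, (-1 : ℂ) ^ (n + S.card) * Φ S := by
  induction n generalizing Φ with
  | zero =>
    have h1 : cuts (muK (1 : Equiv.Perm (Fin 1))) = ∅ := by
      ext d; simp only [mem_cuts, notMem_empty, iff_false]; rintro ⟨h, -⟩; omega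
    rw [show Ioo 0 (0 + 1) = (∅ : Finset ℕ) by ext; simp; omega, powerset_empty, sum_singleton,
      Finset.sum_eq_single (1 : Equiv.Perm (Fin 1)) (fun b _ hb => absurd (Subsingleton.elim b 1) hb)
      (by simp), if_pos (show Adm 1 from fun i => by simp), h1]
    simp
  | succ n ih =>
    rw [← Equiv.sum_comp Equiv.Perm.decomposeFin.symm, Fintype.sum_prod_type, Fin.sum_univ_succ,
      Fin.sum_univ_succ]
    rw [Finset.sum_eq_zero (s := univ) (f := fun i : Fin n => ∑ _y, _) fun i _ =>
      Finset.sum_eq_zero fun e _ => if_neg fun h => by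
        have := h 0
        rw [Equiv.Perm.decomposeFin_symm_apply_zero] at this
        simp at this]
    rw [add_zero]
    have e1 : (Fin.succ 0 : Fin (n + 2)) = 1 := Fin.succ_zero_eq_one
    have e0 : ∀ e : Equiv.Perm (Fin (n + 1)),
        (if Adm (Equiv.Perm.decomposeFin.symm ((0 : Fin (n + 2)), e)) then
          ((Equiv.Perm.sign (Equiv.Perm.decomposeFin.symm ((0 : Fin (n + 2)), e)) : ℤ) : ℂ) *
            Φ (cuts (muK (Equiv.Perm.decomposeFin.symm ((0 : Fin (n + 2)), e)))) else 0) =
        if Adm e then ((Equiv.Perm.sign e : ℤ) : ℂ) *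
          (fun S => Φ (insert 1 (S.image (· + 1)))) (cuts (muK e)) else 0 := fun e => by
      by_cases h : Adm e
      · rw [if_pos h, if_pos ((decompose_adm_zero e).1.2 h), (decompose_adm_zero e).2 h,
          Equiv.Perm.decomposeFin.symm_sign, if_pos rfl, one_mul]
      · rw [if_neg h, if_neg fun h' => h ((decompose_adm_zero e).1.1 h')]
    have e1' : ∀ e : Equiv.Perm (Fin (n + 1)),
        (if Adm (Equiv.Perm.decomposeFin.symm ((1 : Fin (n + 2)), e)) then
          ((Equiv.Perm.sign (Equiv.Perm.decomposeFin.symm ((1 : Fin (n + 2)), e)) : ℤ) : ℂ) *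
            Φ (cuts (muK (Equiv.Perm.decomposeFin.symm ((1 : Fin (n + 2)), e)))) else 0) =
        if Adm e then ((Equiv.Perm.sign e : ℤ) : ℂ) *
          (fun S => -Φ (S.image (· + 1))) (cuts (muK e)) else 0 := fun e => by
      by_cases h : Adm e
      · rw [if_pos h, if_pos ((decompose_adm_one e).1.2 h), (decompose_adm_one e).2 h,
          Equiv.Perm.decomposeFin.symm_sign, if_neg (by simp)]
        simp
      · rw [if_neg h, if_neg fun h' => h ((decompose_adm_one e).1.1 h')]
    rw [e1, Finset.sum_congr rfl fun e _ => e0 e, Finset.sum_congr rfl fun e _ => e1' e, ih (fun S => Φ (insert 1 (S.image (· + 1)))),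
      ih (fun S => -Φ (S.image (· + 1)))]
    have hIoo : Ioo 0 (n + 1 + 1) = insert 1 ((Ioo 0 (n + 1)).image (· + 1)) := by
      ext d
      simp only [mem_Ioo, mem_insert, mem_image]
      constructor
      · intro hd
        by_cases h1 : d = 1
        · exact Or.inl h1
        · exact Or.inr ⟨d - 1, by omega, by omega⟩
      · rintro (rfl | ⟨a, ha, rfl⟩) <;> omega
    have hinj : Function.Injective fun d : ℕ => d + 1 := fun a b h => by simpa using h
    have hnot : (1 : ℕ) ∉ (Ioo 0 (n + 1)).image (· + 1) := by simp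
    have hdisj : ∀ S ∈ ((Ioo 0 (n + 1)).image (· + 1)).powerset, (1 : ℕ) ∉ S := fun S hS h =>
      hnot (mem_powerset.1 hS h)
    rw [hIoo, powerset_insert, sum_union, sum_image, powerset_image, sum_image, sum_image, add_comm, ← sum_add_distrib,
      ← sum_add_distrib]
    · refine sum_congr rfl fun S _ => ?_
      rw [card_insert_of_notMem (hdisj _ (mem_powerset.2 (image_subset_image (mem_powerset.1 ‹_›)))),
        card_image_of_injective _ hinj]
      ring
    · exact fun a _ b _ h => (Finset.image_injective hinj) h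
    · exact fun a _ b _ h => (Finset.image_injective hinj) h
    · intro a ha b hb h
      have := congrArg (fun s => s.erase 1) h
      simpa [erase_insert (hdisj a ha), erase_insert (hdisj b hb)] using this
    · rw [disjoint_left]
      intro S hS hS'
      obtain ⟨T, -, rfl⟩ := mem_image.1 hS'
      exact hdisj _ hS (mem_insert_self _ _)

/-! ### Invariant flags -/

section Fl

variable {K : Type u} [Field K] {V : Type v} [AddCommGroup V] [Module K V]

/-- Invariant flags of given dimensions inside `W`. -/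
def Fl (T : Module.End K V) (W : Submodule K V) (S : Finset ℕ) : Type v :=
  {c : ℕ → Submodule K V // (∀ d ∉ S, c d = ⊥) ∧
    (∀ d ∈ S, Module.finrank K (c d) = d ∧ Inv T (c d) ∧ c d ≤ W) ∧
    ∀ d ∈ S, ∀ e ∈ S, d ≤ e → c d ≤ c e}

variable {T : Module.End K V} [Finite V] [Finite K]

instance (W : Submodule K V) (S : Finset ℕ) : Finite (Fl T W S) := by
  refine Finite.of_injective (fun c : Fl T W S => fun d : S => c.1 d) fun c c' h =>
    Subtype.ext (funext fun d => ?_)
  by_cases hd : d ∈ S
  · exact congrFun h ⟨d, hd⟩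
  · rw [c.2.1 d hd, c'.2.1 d hd]

theorem card_fl_empty (W : Submodule K V) : Nat.card (Fl T W ∅) = 1 := by
  rw [Nat.card_eq_one_iff_unique]
  exact ⟨⟨fun c c' => Subtype.ext (funext fun d => by
    rw [c.2.1 d (notMem_empty d), c'.2.1 d (notMem_empty d)])⟩,
    ⟨⟨fun _ => ⊥, fun _ _ => rfl, by simp, by simp⟩⟩⟩

theorem sigma_fl_ext {ι : Type v} {f : ι → Submodule K V} {S : Finset ℕ}
    (p q : Σ i, Fl T (f i) S) (h1 : p.1 = q.1) (h2 : p.2.1 = q.2.1) : p = q := by
  obtain ⟨i, c, hc⟩ := p
  obtain ⟨i', c', hc'⟩ := q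
  subst h1
  subst h2
  rfl

open scoped Classical in
/-- Splitting off the largest member. -/
theorem card_fl_insert [FiniteDimensional K V] (W : Submodule K V) {S : Finset ℕ} {d : ℕ}
    (hd : ∀ e ∈ S, e < d) :
    Nat.card (Fl T W (insert d S)) =
      ∑ U ∈ (below T W).filter (fun U : Submodule K V => Module.finrank K U = d), Nat.card (Fl T U S) := by
  have hdS : d ∉ S := fun h => lt_irrefl d (hd d h)
  rw [← Finset.sum_coe_sort, ← Nat.card_sigma]
  refine Nat.card_congr
    { toFun := fun c => ⟨⟨c.1 d, ?_⟩, ⟨Function.update c.1 d ⊥, ?_, ?_, ?_⟩⟩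
      invFun := fun p => ⟨Function.update p.2.1 d p.1, ?_, ?_, ?_⟩
      left_inv := fun c => Subtype.ext (by simp)
      right_inv := fun p => ?_ }
  · obtain ⟨h1, h2, h3⟩ := c.2.2.1 d (mem_insert_self d S)
    exact mem_filter.2 ⟨mem_below.2 ⟨h2, h3⟩, h1⟩
  · intro e he
    by_cases hed : e = d
    · subst hed; exact Function.update_self ..
    · rw [Function.update_of_ne hed, c.2.1 e (by simp [hed, he])]
  · intro e he
    rw [Function.update_of_ne (ne_of_lt (hd e he))]
    obtain ⟨h1, h2, -⟩ := c.2.2.1 e (mem_insert_of_mem he)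
    exact ⟨h1, h2, c.2.2.2 e (mem_insert_of_mem he) d (mem_insert_self d S) (hd e he).le⟩
  · intro e he e' he' hle
    rw [Function.update_of_ne (ne_of_lt (hd e he)), Function.update_of_ne (ne_of_lt (hd e' he'))]
    exact c.2.2.2 e (mem_insert_of_mem he) e' (mem_insert_of_mem he') hle
  · intro e he
    rw [mem_insert, not_or] at he
    rw [Function.update_of_ne he.1, p.2.2.1 e he.2]
  · intro e he
    obtain ⟨hU, hUd⟩ := mem_filter.1 p.1.2
    obtain ⟨hUi, hUW⟩ := mem_below.1 hU
    rcases mem_insert.1 he with rfl | he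
    · rw [Function.update_self]; exact ⟨hUd, hUi, hUW⟩
    · rw [Function.update_of_ne (ne_of_lt (hd e he))]
      obtain ⟨h1, h2, h3⟩ := p.2.2.2.1 e he
      exact ⟨h1, h2, h3.trans hUW⟩
  · intro e hein e' hein' hle
    rcases mem_insert.1 hein with h | he
    · rcases mem_insert.1 hein' with h' | he'
      · rw [h, h']
      · exact absurd (hd e' he') (not_lt.2 (h ▸ hle))
    rw [Function.update_of_ne (ne_of_lt (hd e he))]
    rcases mem_insert.1 hein' with h' | he'
    · rw [h', Function.update_self]; exact (p.2.2.2.1 e he).2.2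
    · rw [Function.update_of_ne (ne_of_lt (hd e' he'))]; exact p.2.2.2.2 e he e' he' hle
  · obtain ⟨⟨U, hU⟩, ⟨c, hc⟩⟩ := p
    have hcd : c d = ⊥ := hc.1 d hdS
    exact sigma_fl_ext _ _ (Subtype.ext (Function.update_self ..))
      (by simp [← hcd])

/-- The alternating number of invariant flags. -/
noncomputable def alt (T : Module.End K V) (W : Submodule K V) : ℂ :=
  if Module.finrank K W = 0 then 1
  else ∑ S ∈ (Ioo 0 (Module.finrank K W)).powerset, (-1 : ℂ) ^ (S.card + 1) * Nat.card (Fl T W S)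

theorem sum_powerset_max (f : Finset ℕ → ℂ) (m : ℕ) :
    ∑ S ∈ (Ioo 0 m).powerset, f S =
      f ∅ + ∑ d ∈ Ioo 0 m, ∑ S ∈ (Ioo 0 d).powerset, f (insert d S) := by
  induction m with
  | zero => simp
  | succ m ih =>
    rcases Nat.eq_zero_or_pos m with rfl | hm
    · rw [show Ioo 0 (0 + 1) = (∅ : Finset ℕ) by ext; simp; omega]; simp
    have h : Ioo 0 (m + 1) = insert m (Ioo 0 m) := by ext; simp only [mem_Ioo, mem_insert]; omega
    rw [h, sum_powerset_insert (by simp), sum_insert (by simp), ih]
    ring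

variable [FiniteDimensional K V]

open scoped Classical in
theorem sum_alt (W : Submodule K V) (hW : Inv T W) (h0 : W ≠ ⊥) : ∑ U ∈ below T W, alt T U = 0 := by
  set m := Module.finrank K W with hm
  have hm0 : m ≠ 0 := fun h => h0 (Submodule.finrank_eq_zero.1 h)
  have hWmem : W ∈ below T W := mem_below.2 ⟨hW, le_rfl⟩
  have hbot : ⊥ ∈ (below T W).erase W :=
    mem_erase.2 ⟨Ne.symm h0, mem_below.2 ⟨inv_bot, bot_le⟩⟩
  rw [← add_sum_erase _ _ hWmem, ← add_sum_erase _ _ hbot]
  rw [show alt T ⊥ = 1 by rw [alt, if_pos (finrank_bot K V)]]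
  rw [alt, if_neg hm0, ← hm, sum_powerset_max]
  rw [card_fl_empty, card_empty, zero_add, pow_one, Nat.cast_one, mul_one]
  have key : ∑ U ∈ ((below T W).erase W).erase ⊥, alt T U =
      -∑ d ∈ Ioo 0 m, ∑ S ∈ (Ioo 0 d).powerset,
        (-1 : ℂ) ^ ((insert d S).card + 1) * Nat.card (Fl T W (insert d S)) := by
    rw [← sum_fiberwise_of_maps_to (t := Ioo 0 m) (g := fun U : Submodule K V => Module.finrank K U)
      (fun U hU => ?_), ← sum_neg_distrib]
    · refine sum_congr rfl fun d hd => ?_
      have hfil : (((below T W).erase W).erase ⊥).filter (fun U : Submodule K V => Module.finrank K U = d) =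
          (below T W).filter (fun U : Submodule K V => Module.finrank K U = d) := by
        ext U
        simp only [mem_filter, mem_erase]
        refine ⟨fun h => ⟨h.1.2.2, h.2⟩, fun h => ⟨⟨fun e => ?_, fun e => ?_, h.1⟩, h.2⟩⟩
        · subst e; have := h.2; rw [finrank_bot] at this; have := mem_Ioo.1 hd; omega
        · subst e; have := h.2; have := mem_Ioo.1 hd; omega
      rw [hfil, ← sum_neg_distrib]
      have hval : ∀ U ∈ (below T W).filter (fun U : Submodule K V => Module.finrank K U = d),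
          alt T U = ∑ S ∈ (Ioo 0 d).powerset, (-1 : ℂ) ^ (S.card + 1) * Nat.card (Fl T U S) :=
        fun U hU => by
          have h := (mem_filter.1 hU).2
          rw [alt, if_neg (by have := mem_Ioo.1 hd; omega), h]
      rw [sum_congr rfl hval, sum_comm]
      refine sum_congr rfl fun S hS => ?_
      have hlt : ∀ e ∈ S, e < d := fun e he => (mem_Ioo.1 (mem_powerset.1 hS he)).2
      rw [card_fl_insert W hlt, card_insert_of_notMem fun h => lt_irrefl d (hlt d h),
        Nat.cast_sum, mul_sum, ← sum_neg_distrib]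
      exact sum_congr rfl fun U _ => by ring
    · obtain ⟨hU0, hUW, hU⟩ := mem_erase.1 hU |>.imp_right mem_erase.1
      rw [mem_Ioo]
      exact ⟨Nat.pos_of_ne_zero fun h => hU0 (Submodule.finrank_eq_zero.1 h),
        Submodule.finrank_lt_finrank_of_lt (lt_of_le_of_ne (mem_below.1 hU).2 hUW)⟩
  rw [key]
  ring

open UniqueFactorizationMonoid in
open scoped Classical in
theorem alt_eq (hT : T.IsSemisimple) :
    alt T ⊤ = Mobius.weight (Nat.card K) (normalizedFactors T.charpoly) := by
  have hinv : Inv T (⊤ : Submodule K V) := fun v _ => trivial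
  rw [Mobius.mobius_eq hT (μ := alt T) (by rw [alt, if_pos (finrank_bot K V)]) sum_alt hinv, chp_eq hinv]
  congr 2
  rw [← (Submodule.topEquiv (R := K) (M := V)).charpoly_conj]
  rfl

end Fl

section cosets

variable {F : Type u} [Field F] [Fintype F]

theorem exists_adapted (S : Finset ℕ) : ∀ (d : ℕ) (W : Submodule F (Fin n → F))
    (c : ℕ → Submodule F (Fin n → F)), Module.finrank F W = d → (∀ e ∈ S, e ≤ d) →
    (∀ e ∈ S, Module.finrank F (c e) = e ∧ c e ≤ W) → (∀ e ∈ S, ∀ e' ∈ S, e ≤ e' → c e ≤ c e') →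
    ∃ v : Fin d → (Fin n → F), LinearIndependent F v ∧ (∀ i, v i ∈ W) ∧
      ∀ e ∈ S, ∀ i : Fin d, i.val < e → v i ∈ c e := by
  induction S using Finset.induction_on_max with
  | empty =>
    intro d W c hW _ _ _
    subst hW
    refine ⟨fun i => (Module.finBasis F W i : Fin n → F), ?_, fun i => Subtype.coe_prop _, by simp⟩
    exact (Module.finBasis F W).linearIndependent.map' W.subtype W.ker_subtype
  | insert a S hlt ih =>
    intro d W c hW hle hc hmono
    obtain ⟨ha, haW⟩ := hc a (mem_insert_self a S)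
    obtain ⟨v, hv, hvc, hvS⟩ := ih a (c a) c ha (fun e he => (hlt e he).le)
      (fun e he => ⟨(hc e (mem_insert_of_mem he)).1,
        hmono e (mem_insert_of_mem he) a (mem_insert_self a S) (hlt e he).le⟩)
      fun e he e' he' => hmono e (mem_insert_of_mem he) e' (mem_insert_of_mem he')
    obtain ⟨q, hq⟩ := exists_isCompl (c a)
    have hd : Disjoint (c a) (q ⊓ W) := hq.1.mono_right inf_le_left
    have hs : c a ⊔ (q ⊓ W) = W := by rw [← sup_inf_assoc_of_le q haW, hq.sup_eq_top, top_inf_eq]
    have hrk : Module.finrank F (q ⊓ W : Submodule F (Fin n → F)) = d - a := by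
      have := Mobius.finrank_sup_eq hd hs
      omega
    let B := Module.finBasisOfFinrankEq F (q ⊓ W : Submodule F (Fin n → F)) hrk
    let b : Fin (d - a) → (Fin n → F) := (q ⊓ W).subtype ∘ B
    have hb : LinearIndependent F b :=
      B.linearIndependent.map' (q ⊓ W).subtype (Submodule.ker_subtype _)
    have hdisj : Disjoint (Submodule.span F (Set.range v)) (Submodule.span F (Set.range b)) :=
      hd.mono (Submodule.span_le.2 (by rintro _ ⟨i, rfl⟩; exact hvc i))
        (Submodule.span_le.2 (by rintro _ ⟨i, rfl⟩; exact (B i).2))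
    have hda : a + (d - a) = d := by have := hle a (mem_insert_self a S); omega
    let e : Fin d ≃ Fin a ⊕ Fin (d - a) := (finCongr hda.symm).trans finSumFinEquiv.symm
    refine ⟨Sum.elim v b ∘ e, (hv.sum_type hb hdisj).comp _ e.injective, fun i => ?_, fun f hf i hi => ?_⟩
    · show Sum.elim v b (e i) ∈ W
      rcases e i with j | j
      · exact haW (hvc j)
      · exact (B j).2.2
    · have hia : i.val < a := lt_of_lt_of_le hi (by
        rcases mem_insert.1 hf with rfl | hf
        exacts [le_rfl, (hlt f hf).le])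
      have hei : e i = Sum.inl ⟨i.val, hia⟩ := by
        simp [e, Equiv.symm_apply_eq, Fin.ext_iff]
      show Sum.elim v b (e i) ∈ c f
      rw [hei]
      rcases mem_insert.1 hf with rfl | hf
      exacts [hvc _, hvS f hf _ hi]

/-- The standard flag moved by `g`. -/
def moved (g : GL (Fin n) F) (d : ℕ) : Submodule F (Fin n → F) :=
  (supp n F d).map (Matrix.mulVecLin (g : Matrix (Fin n) (Fin n) F))

theorem mulVecLin_injective (g : GL (Fin n) F) :
    Function.Injective (Matrix.mulVecLin (g : Matrix (Fin n) (Fin n) F)) := fun a b h => by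
  have := congrArg (fun v => ((g⁻¹ : GL (Fin n) F) : Matrix (Fin n) (Fin n) F) *ᵥ v) h
  simpa [Matrix.mulVecLin_apply, Matrix.mulVec_mulVec] using this

theorem finrank_moved (g : GL (Fin n) F) {d : ℕ} (hd : d ≤ n) : Module.finrank F (moved g d) = d := by
  rw [moved, ← (Submodule.equivMapOfInjective _ (mulVecLin_injective g) _).finrank_eq, finrank_supp hd]

theorem moved_mul (g k : GL (Fin n) F) (d : ℕ) :
    moved (g * k) d = (moved k d).map (Matrix.mulVecLin (g : Matrix (Fin n) (Fin n) F)) := by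
  rw [moved, moved, ← Submodule.map_comp, ← Matrix.mulVecLin_mul]
  rfl

theorem moved_one (d : ℕ) : moved (1 : GL (Fin n) F) d = supp n F d := by
  simp [moved]

theorem mem_parabolic_moved {μ : Fin n → ℕ} {g : GL (Fin n) F} :
    g ∈ Cfsg.parabolicGL n F μ ↔ ∀ d ∈ cuts μ, moved g d = supp n F d := by
  rw [mem_parabolic]
  refine ⟨fun h d hd => Submodule.eq_of_le_of_finrank_eq ?_ ?_, fun h d hd v hv => ?_⟩
  · rintro _ ⟨v, hv, rfl⟩; exact h d hd v hv
  · have hdn := ((mem_cuts.1 hd).1.2).le
    rw [finrank_moved g hdn, finrank_supp hdn]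
  · rw [← h d hd]; exact ⟨v, hv, rfl⟩

open scoped Classical in
/-- The flag of `g` along a set of dimensions. -/
def flagOf (S : Finset ℕ) (g : GL (Fin n) F) (d : ℕ) : Submodule F (Fin n → F) :=
  if d ∈ S then moved g d else ⊥

theorem flagOf_pos {S : Finset ℕ} (g : GL (Fin n) F) {d : ℕ} (hd : d ∈ S) : flagOf S g d = moved g d := by
  classical exact if_pos hd

theorem flagOf_neg {S : Finset ℕ} (g : GL (Fin n) F) {d : ℕ} (hd : d ∉ S) : flagOf S g d = ⊥ := by
  classical exact if_neg hd

theorem flagOf_mem_fl {μ : Fin n → ℕ} {x g : GL (Fin n) F}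
    (h : ∀ d ∈ cuts μ, moved (x * g) d = moved g d) :
    (∀ d ∉ cuts μ, flagOf (cuts μ) g d = ⊥) ∧
      (∀ d ∈ cuts μ, Module.finrank F (flagOf (cuts μ) g d) = d ∧
        Inv (Matrix.mulVecLin (x : Matrix (Fin n) (Fin n) F)) (flagOf (cuts μ) g d) ∧
        flagOf (cuts μ) g d ≤ ⊤) ∧
      ∀ d ∈ cuts μ, ∀ e ∈ cuts μ, d ≤ e → flagOf (cuts μ) g d ≤ flagOf (cuts μ) g e := by
  refine ⟨fun d hd => flagOf_neg g hd, fun d hd => ?_, fun d hd e he hde => ?_⟩
  · rw [flagOf_pos g hd]
    refine ⟨finrank_moved g ((mem_cuts.1 hd).1.2.le), fun v hv => ?_, le_top⟩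
    rw [← h d hd, moved_mul]
    exact ⟨v, hv, rfl⟩
  · rw [flagOf_pos g hd, flagOf_pos g he]
    exact Submodule.map_mono fun v hv i hi => hv i (hde.trans hi)

open scoped Classical in
/-- Fixed cosets are invariant flags. -/
theorem fixedPoint_eq (μ : Fin n → ℕ) (x : GL (Fin n) F) :
    Cfsg.fixedPointCharacter (Cfsg.parabolicGL n F μ) x =
      Nat.card (Fl (Matrix.mulVecLin (x : Matrix (Fin n) (Fin n) F)) ⊤ (cuts μ)) := by
  have hdn : ∀ d ∈ cuts μ, d ≤ n := fun d hd => (mem_cuts.1 hd).1.2.le
  have hinj : ∀ g k : GL (Fin n) F, (g : GL (Fin n) F ⧸ Cfsg.parabolicGL n F μ) = k ↔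
      ∀ d ∈ cuts μ, moved g d = moved k d := by
    intro g k
    rw [QuotientGroup.eq, mem_parabolic_moved]
    refine forall₂_congr fun d _ => ?_
    rw [moved_mul]
    constructor
    · intro h
      rw [← mul_inv_cancel_left g k, moved_mul g, moved_mul g⁻¹, h]
      rfl
    · intro h
      rw [← h, ← moved_mul, inv_mul_cancel, moved_one]
  rw [Cfsg.fixedPointCharacter, Nat.cast_inj]
  let toFl : MulAction.fixedBy (GL (Fin n) F ⧸ Cfsg.parabolicGL n F μ) x →
      Fl (Matrix.mulVecLin (x : Matrix (Fin n) (Fin n) F)) ⊤ (cuts μ) := fun y =>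
    ⟨flagOf (cuts μ) y.1.out, flagOf_mem_fl ((hinj _ _).1
      (((congrArg (x • ·) (QuotientGroup.out_eq' y.1)).trans
        (y.2.trans (QuotientGroup.out_eq' y.1).symm) :) :
        ((x * y.1.out : GL (Fin n) F) : GL (Fin n) F ⧸ Cfsg.parabolicGL n F μ) = y.1.out))⟩
  refine Nat.card_congr (Equiv.ofBijective toFl ⟨fun y z h => Subtype.ext ?_, fun c => ?_⟩)
  · rw [← QuotientGroup.out_eq' y.1, ← QuotientGroup.out_eq' z.1, hinj]
    intro d hd
    have h1 : flagOf (cuts μ) y.1.out d = flagOf (cuts μ) z.1.out d := congrFun (congrArg Subtype.val h) d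
    rwa [flagOf_pos _ hd, flagOf_pos _ hd] at h1
  · obtain ⟨v, hv, -, hvc⟩ := exists_adapted (cuts μ) n ⊤ c.1 (by simp) hdn
      (fun e he => ⟨(c.2.2.1 e he).1, le_top⟩) c.2.2.2
    rcases Nat.eq_zero_or_pos n with rfl | hn
    · have he : cuts μ = ∅ := by ext d; simp only [mem_cuts, notMem_empty, iff_false]; omega
      refine ⟨⟨((1 : GL (Fin 0) F) : GL (Fin 0) F ⧸ Cfsg.parabolicGL 0 F μ),
        congrArg QuotientGroup.mk (Subsingleton.elim (x * 1) 1)⟩, Subtype.ext (funext fun d => ?_)⟩
      rw [c.2.1 d (by simp [he])]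
      exact (toFl _).2.1 d (by simp [he])
    haveI : Nonempty (Fin n) := ⟨⟨0, hn⟩⟩
    let bb : Module.Basis (Fin n) F (Fin n → F) :=
      basisOfLinearIndependentOfCardEqFinrank hv (by simp)
    let M : Matrix (Fin n) (Fin n) F := (Pi.basisFun F (Fin n)).toMatrix bb
    let g : GL (Fin n) F := ⟨M, bb.toMatrix (Pi.basisFun F (Fin n)),
      Module.Basis.toMatrix_mul_toMatrix_flip _ _, Module.Basis.toMatrix_mul_toMatrix_flip _ _⟩
    have hg : ∀ i, (g : Matrix (Fin n) (Fin n) F) *ᵥ Pi.single i 1 = v i := fun i => by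
      ext k
      simp [g, M, bb, Module.Basis.toMatrix_apply]
    have hgc : ∀ d ∈ cuts μ, moved g d = c.1 d := fun d hd => by
      refine Submodule.eq_of_le_of_finrank_eq ?_ (by rw [finrank_moved g (hdn d hd), (c.2.2.1 d hd).1])
      rw [moved, supp_eq_span (hdn d hd), Submodule.map_span_le]
      rintro _ ⟨i, rfl⟩
      rw [Matrix.mulVecLin_apply, hg]
      exact hvc d hd _ (by simp)
    have hfix : x • (g : GL (Fin n) F ⧸ Cfsg.parabolicGL n F μ) = g := by
      show ((x * g : GL (Fin n) F) : GL (Fin n) F ⧸ Cfsg.parabolicGL n F μ) = g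
      rw [hinj]
      intro d hd
      rw [moved_mul, hgc d hd]
      refine Submodule.eq_of_le_of_finrank_eq ?_ ?_
      · rintro _ ⟨w, hw, rfl⟩; exact (c.2.2.1 d hd).2.1 w hw
      · exact (Submodule.equivMapOfInjective _ (mulVecLin_injective x) _).finrank_eq.symm
    refine ⟨⟨(g : GL (Fin n) F ⧸ Cfsg.parabolicGL n F μ), hfix⟩, Subtype.ext (funext fun d => ?_)⟩
    by_cases hd : d ∈ cuts μ
    · refine (flagOf_pos _ hd).trans ?_
      rw [← hgc d hd]
      exact (hinj _ _).1 (QuotientGroup.out_eq' _) d hd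
    · exact (flagOf_neg _ hd).trans (c.2.1 d hd).symm

open UniqueFactorizationMonoid in
open scoped Classical in
theorem steinberg_value (p : ℕ) [Fact p.Prime] [CharP F p] (x : GL (Fin n) F)
    (hx : (orderOf x).Coprime p) :
    Cfsg.unipotentCharacterGL n F (fun _ => 1) x =
      (-1 : ℂ) ^ n * Mobius.weight (Nat.card F)
        (normalizedFactors (x : Matrix (Fin n) (Fin n) F).charpoly) := by
  rcases n with _ | n
  · rw [Matrix.charpoly_isEmpty, normalizedFactors_one]
    simp only [Cfsg.unipotentCharacterGL, Fintype.sum_unique, Mobius.weight, Multiset.toFinset_zero,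
      prod_empty, mul_one, pow_zero]
    rw [if_pos (fun i => i.elim0), fixedPoint_eq]
    have he : cuts (fun i : Fin 0 => 1 + i.val - ((default : Equiv.Perm (Fin 0)) i).val) = ∅ := by
      ext d; simp only [mem_cuts, notMem_empty, iff_false]; omega
    rw [he, card_fl_empty]
    simp [Subsingleton.elim (default : Equiv.Perm (Fin 0)) 1]
  set T : Module.End F (Fin (n + 1) → F) :=
    Matrix.mulVecLin (x : Matrix (Fin (n + 1)) (Fin (n + 1)) F) with hTdef
  have hord : 0 < orderOf x := orderOf_pos x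
  have hpow : T ^ orderOf x = 1 := by
    show (Matrix.toLinAlgEquiv' (x : Matrix (Fin (n + 1)) (Fin (n + 1)) F)) ^ orderOf x = 1
    rw [← map_pow, ← Units.val_pow_eq_pow_val, pow_orderOf_eq_one, Units.val_one, map_one]
  have hss : T.IsSemisimple := by
    have hsq : Squarefree (Polynomial.X ^ orderOf x - Polynomial.C (1 : F)) :=
      (Polynomial.separable_X_pow_sub_C (1 : F) (fun h => by
        have hd : p ∣ orderOf x := (CharP.cast_eq_zero_iff F p _).1 h
        exact (Fact.out (p := p.Prime)).not_dvd_one (hx ▸ Nat.dvd_gcd hd dvd_rfl)) one_ne_zero).squarefree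
    exact Module.End.isSemisimple_of_squarefree_aeval_eq_zero hsq (by simp [hpow])
  have halt := alt_eq (T := T) hss
  rw [hTdef, Matrix.charpoly_mulVecLin] at halt
  rw [← halt, alt, if_neg (by simp), finrank_top, Module.finrank_fin_fun, mul_sum]
  have hval : Cfsg.unipotentCharacterGL (n + 1) F (fun _ => 1) x =
      ∑ S ∈ (Ioo 0 (n + 1)).powerset, (-1 : ℂ) ^ (n + S.card) * Nat.card (Fl T ⊤ S) := by
    rw [← signed_sum n fun S => (Nat.card (Fl T ⊤ S) : ℂ)]
    refine sum_congr rfl fun κ _ => ?_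
    rw [fixedPoint_eq]
    rfl
  rw [hval]
  exact sum_congr rfl fun S _ => by ring

end cosets

end CfsgLib.CharsMore.St.GLValue
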