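import Cfsg.Agent.Lib.KnownB.Flags.Chars
import Cfsg.Agent.Lib.CharsMore.CliffordDegree
import Cfsg.Agent.Lib.CharsMore.CharAlg
import Cfsg.Agent.Lib.Chars.DefectZero
import Cfsg.Agent.Lib.Chars.Quotient
import Cfsg.Agent.Lib.Classical.Order

/-!
# The Steinberg character of a projective special linear group
-/

set_option linter.unusedSectionVars false
set_option linter.style.haveILetI false

namespace CfsgLib.CharsMore.St

open Finset Cfsg

universe u

theorem qnum_sub (q a d : ℕ) :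
    ((∑ l ∈ range (a + d), q ^ l : ℕ) : ℂ) - ((∑ l ∈ range a, q ^ l : ℕ) : ℂ) =
      (q : ℂ) ^ a * ((∑ l ∈ range d, q ^ l : ℕ) : ℂ) := by
  rw [sum_range_add, Nat.cast_add, add_sub_cancel_left, Finset.sum_congr rfl fun x _ => pow_add q a x,
    ← mul_sum, Nat.cast_mul, Nat.cast_pow]

variable {F : Type u} [Field F] [Fintype F] {n : ℕ}

open CfsgLib.KnownB.Flags in
/-- The degree of the Steinberg character of `GL_n`. -/
theorem steinberg_degree :
    Cfsg.unipotentCharacterGL n F (fun _ => 1) 1 = (Fintype.card F : ℂ) ^ (n * (n - 1) / 2) := by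
  classical
  have h := degree_eq (F := F) (ν := fun _ : Fin n => 1) (by simp)
  set q := Fintype.card F
  have hcol : ∀ j : Fin n, ∏ i ∈ Iio j, (((∑ l ∈ range (1 + j.val), q ^ l : ℕ) : ℂ) -
      ((∑ l ∈ range (1 + i.val), q ^ l : ℕ) : ℂ)) =
        (q : ℂ) ^ ((j : ℕ) + 1).choose 2 * ((qfact q j : ℕ) : ℂ) := by
    intro j
    have hterm : ∀ i ∈ range (j : ℕ), (((∑ l ∈ range (1 + j.val), q ^ l : ℕ) : ℂ) -
        ((∑ l ∈ range (1 + i), q ^ l : ℕ) : ℂ)) =
          (q : ℂ) ^ (1 + i) * ((∑ l ∈ range ((j : ℕ) - i), q ^ l : ℕ) : ℂ) := fun i hi => by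
      rw [← qnum_sub, show 1 + i + ((j : ℕ) - i) = 1 + j.val by have := mem_range.1 hi; omega]
    refine Eq.trans (prod_map (Iio j) Fin.valEmbedding (fun i => (((∑ l ∈ range (1 + j.val), q ^ l : ℕ) : ℂ) -
      ((∑ l ∈ range (1 + i), q ^ l : ℕ) : ℂ)))).symm ?_
    rw [Fin.map_valEmbedding_Iio, Nat.Iio_eq_range,
      prod_congr rfl hterm, prod_mul_distrib, prod_pow_eq_pow_sum]
    congr 1
    · congr 1
      clear hterm
      induction (j : ℕ) with
      | zero => simp
      | succ k ih => rw [sum_range_succ, ih, Nat.choose_succ_succ' (k + 1) 1, Nat.choose_one_right]; ring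
    · rw [qfact, Nat.cast_prod, ← prod_range_reflect (fun i => ((∑ l ∈ range (i + 1), q ^ l : ℕ) : ℂ))]
      refine prod_congr rfl fun i hi => ?_
      rw [show (j : ℕ) - 1 - i + 1 = (j : ℕ) - i by have := mem_range.1 hi; omega]
  have hR : ∏ i : Fin n, ∏ j ∈ Ioi i, (((∑ l ∈ range (1 + j.val), q ^ l : ℕ) : ℂ) -
      ((∑ l ∈ range (1 + i.val), q ^ l : ℕ) : ℂ)) =
        (q : ℂ) ^ (n * (n - 1) * (n - 2) / 6 + n * (n - 1) / 2) * ∏ j : Fin n, ((qfact q j : ℕ) : ℂ) := by
    rw [prod_comm' (t' := univ) (s' := fun j => Iio j) (by simp), prod_congr rfl fun j _ => hcol j,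
      prod_mul_distrib, prod_pow_eq_pow_sum]
    congr 2
    rw [← sum_choose_two n, Fin.sum_univ_eq_sum_range (fun j => (j + 1).choose 2) n,
      Fin.sum_univ_eq_sum_range (fun j => j.choose 2) n, ← sum_range_id n, ← sum_add_distrib]
    exact sum_congr rfl fun j _ => by rw [Nat.choose_succ_succ' j 1, Nat.choose_one_right, add_comm]
  have htel : ∏ i : Fin n, ((qfact q (1 + i.val) : ℕ) : ℂ) =
      ((qfact q n : ℕ) : ℂ) * ∏ j : Fin n, ((qfact q j : ℕ) : ℂ) := by
    rw [Fin.prod_univ_eq_prod_range (fun i => ((qfact q (1 + i) : ℕ) : ℂ)) n,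
      Fin.prod_univ_eq_prod_range (fun i => ((qfact q i : ℕ) : ℂ)) n, mul_comm]
    rw [← prod_range_succ (fun i => ((qfact q i : ℕ) : ℂ)) n,
      prod_range_succ' (fun i => ((qfact q i : ℕ) : ℂ)) n]
    simp [qfact, add_comm]
  rw [hR, htel, pow_add] at h
  have h1 : ((qfact q n : ℕ) : ℂ) * ∏ j : Fin n, ((qfact q j : ℕ) : ℂ) ≠ 0 :=
    mul_ne_zero (Nat.cast_ne_zero.2 (qfact_pos _ _).ne')
      (prod_ne_zero_iff.2 fun j _ => Nat.cast_ne_zero.2 (qfact_pos _ _).ne')
  have h2 : (q : ℂ) ^ (n * (n - 1) * (n - 2) / 6) ≠ 0 :=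
    pow_ne_zero _ (Nat.cast_ne_zero.2 Fintype.card_ne_zero)
  refine mul_right_cancel₀ (mul_ne_zero h2 h1) ?_
  linear_combination h

theorem steinberg_scalar {z : GL (Fin n) F} (hz : z ∈ Subgroup.center (GL (Fin n) F))
    (ν : Fin n → ℕ) : Cfsg.unipotentCharacterGL n F ν z = Cfsg.unipotentCharacterGL n F ν 1 := by
  classical
  obtain ⟨c, hc⟩ : ∃ c : F, (z : Matrix (Fin n) (Fin n) F) = Matrix.scalar (Fin n) c := by
    obtain ⟨c, hc⟩ := Matrix.GeneralLinearGroup.mem_center_iff_val_mem_range_scalar.1 hz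
    exact ⟨c, hc.symm⟩
  have hP : ∀ μ, z ∈ Cfsg.parabolicGL n F μ := fun μ i j hij => by
    rw [hc, Matrix.scalar_apply]
    exact Matrix.diagonal_apply_ne _ fun e => by subst e; exact lt_irrefl _ hij
  have hfix : ∀ μ, Cfsg.fixedPointCharacter (Cfsg.parabolicGL n F μ) z =
      Cfsg.fixedPointCharacter (Cfsg.parabolicGL n F μ) 1 := by
    intro μ
    simp only [Cfsg.fixedPointCharacter]
    congr 1
    refine Nat.card_congr (Equiv.subtypeEquivRight fun x => ?_)
    induction x using QuotientGroup.induction_on with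
    | _ g =>
      refine iff_of_true ?_ (one_smul _ _)
      show ((z * g : GL (Fin n) F) : GL (Fin n) F ⧸ Cfsg.parabolicGL n F μ) = g
      rw [← Subgroup.mem_center_iff.1 hz g, QuotientGroup.eq]
      simpa using inv_mem (hP μ)
  simp only [Cfsg.unipotentCharacterGL, hfix]

theorem exists_pslSteinberg (p : ℕ) [Fact p.Prime] [CharP F p] (hn : 1 ≤ n) :
    ∃ χ : Matrix.ProjectiveSpecialLinearGroup (Fin n) F → ℂ,
      IsIrrCharacter (Matrix.ProjectiveSpecialLinearGroup (Fin n) F) χ ∧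
      ∀ P : Sylow p (Matrix.ProjectiveSpecialLinearGroup (Fin n) F), χ 1 = Nat.card P ∧
        ∀ x : Matrix.ProjectiveSpecialLinearGroup (Fin n) F, x ∈ P → x ≠ 1 → χ x = 0 := by
  classical
  letI : Fintype (GL (Fin n) F) := Fintype.ofFinite _
  let S := Matrix.SpecialLinearGroup (Fin n) F
  letI : Fintype S := Fintype.ofFinite _
  haveI : Nonempty (Fin n) := ⟨⟨0, hn⟩⟩
  let ι : S →* GL (Fin n) F := Matrix.SpecialLinearGroup.toGL
  let N : Subgroup (GL (Fin n) F) :=
    (Matrix.GeneralLinearGroup.det : GL (Fin n) F →* Fˣ).ker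
  letI : Fintype N := Fintype.ofFinite _
  have hp : p.Prime := Fact.out
  obtain ⟨f, -, hf⟩ := FiniteField.card F p
  set q := Fintype.card F with hq
  set st := Cfsg.unipotentCharacterGL n F (fun _ => 1) with hst
  have hirr : IsIrrCharacter (GL (Fin n) F) st :=
    CfsgLib.KnownB.Flags.isIrr_unipotent monotone_const (by simp)
  have hdeg : st 1 = ((q ^ (n * (n - 1) / 2) : ℕ) : ℂ) := by
    rw [hst, steinberg_degree, Nat.cast_pow]
  -- the restriction to `SL` is irreducible
  have hres : IsCharacter N fun x : N => st x :=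
    Chars.isCharacter_restrict N (Chars.isCharacter_of_irr hirr)
  have hres0 : (fun x : N => st x) ≠ 0 := fun h => Chars.irr_degree_ne_zero hirr (congrFun h 1)
  obtain ⟨θ, hθ⟩ := Chars.exists_constituent hres hres0
  obtain ⟨k, hk0, hk, hkdvd⟩ := degree_quotient N hirr θ.2 hθ
  obtain ⟨d, hd0, hd⟩ := Chars.irr_degree_nat θ.2
  have hkq : k * d = q ^ (n * (n - 1) / 2) := by
    rw [hdeg, hd, ← Nat.cast_mul, Nat.cast_inj] at hk
    exact hk.symm
  have hindex : N.index = q - 1 := by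
    rw [Subgroup.index_ker, MonoidHom.range_eq_top.2 Matrix.GeneralLinearGroup.det_surjective,
      Subgroup.card_top, Classical.card_units_field, Nat.card_eq_fintype_card]
  have hq1 : q - 1 + 1 = q := Nat.sub_add_cancel Fintype.card_pos
  have hcop : Nat.Coprime (q - 1) q := by
    conv_rhs => rw [← hq1]
    simp
  have hk1 : k = 1 := Nat.eq_one_of_dvd_coprimes (hcop.pow_right (n * (n - 1) / 2))
    (hindex ▸ hkdvd) ⟨d, hkq.symm⟩
  have heq : (fun x : N => st x) = (θ : N → ℂ) :=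
    eq_of_constituent_degree hres θ.2 hθ (d := d) (e := d)
      (by show st ((1 : N) : GL (Fin n) F) = _; rw [OneMemClass.coe_one, hk, hk1, hd, Nat.cast_one, one_mul]) hd le_rfl
  -- as a character of `SL`
  have hrange : ι.range = N := Classical.range_toGL
  let e : S ≃* N := (MonoidHom.ofInjective Matrix.SpecialLinearGroup.toGL_injective).trans
    (MulEquiv.subgroupCongr hrange)
  let ψ : S → ℂ := fun s => st (ι s)
  have hψ : IsIrrCharacter S ψ := by
    obtain ⟨m, ρ, hρ, hρc⟩ := θ.2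
    refine ⟨m, ρ.comp e.toMonoidHom, ?_, ?_⟩
    · rw [Chars.isIrreducible_iff] at hρ ⊢
      exact ⟨hρ.1, fun U hU => hρ.2 U fun g x hx => by
        have := hU (e.symm g) x hx
        simpa using this⟩
    · funext s
      show ρ.character (e s) = st (ι s)
      rw [hρc, ← heq]
      rfl
  have hψ1 : ψ 1 = ((q ^ (n * (n - 1) / 2) : ℕ) : ℂ) := by
    show st (ι 1) = _
    rw [map_one, hdeg]
  -- the `p`-part of the order
  set M := ∏ i ∈ range (n - 1), (Nat.card F ^ (i + 2) - 1) with hM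
  have hcard : Nat.card S = q ^ (n * (n - 1) / 2) * M := by
    rw [hM, Classical.card_SL_fin', Nat.card_eq_fintype_card (α := F)]
  have hpM : ¬ p ∣ M := by
    rw [hM, hp.prime.dvd_finsetProd_iff]
    rintro ⟨i, -, hi⟩
    have hpq : p ∣ Nat.card F ^ (i + 2) := by
      rw [Nat.card_eq_fintype_card, ← hq, hf, ← pow_mul]
      exact dvd_pow_self p (Nat.mul_ne_zero f.ne_zero (by omega))
    have h1 : 1 ≤ Nat.card F ^ (i + 2) := Nat.one_le_pow _ _ Nat.card_pos
    have := Nat.dvd_sub hpq hi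
    rw [Nat.sub_sub_self h1] at this
    exact hp.not_dvd_one this
  set N' := (f : ℕ) * (n * (n - 1) / 2) with hN'
  have hqN : q ^ (n * (n - 1) / 2) = p ^ N' := by rw [hf, ← pow_mul]
  have hnd : ¬ p ^ (N' + 1) ∣ Nat.card S := by
    rw [hcard, hqN, pow_succ]
    exact fun h => hpM ((Nat.mul_dvd_mul_iff_left (pow_pos hp.pos _)).1 h)
  -- trivial on the centre, of order prime to `p`
  have hcenter : ∀ z ∈ Subgroup.center S, ψ z = ψ 1 := by
    intro z hz
    obtain ⟨r, -, hr⟩ := Matrix.SpecialLinearGroup.mem_center_iff.1 hz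
    show st (ι z) = st (ι 1)
    rw [map_one]
    refine steinberg_scalar (Matrix.GeneralLinearGroup.mem_center_iff_val_mem_range_scalar.2
      ⟨r, ?_⟩) _
    exact hr
  obtain ⟨χ, hχ, hχe⟩ := Chars.exists_deflate_irr (Subgroup.center S) hψ hcenter
  haveI : NeZero n := ⟨by omega⟩
  refine ⟨χ, hχ, fun P => ?_⟩
  obtain ⟨R, rfl⟩ :=
    Sylow.mapSurjective_surjective (QuotientGroup.mk'_surjective (Subgroup.center S)) p P
  have hRcard : Nat.card (R : Subgroup S) = p ^ N' := by
    rw [Sylow.card_eq_multiplicity]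
    congr 1
    rw [hcard, hqN, Nat.factorization_mul (pow_ne_zero _ hp.ne_zero)
      (fun h => hpM (by rw [h]; exact dvd_zero p)), Finsupp.add_apply, hp.factorization_pow,
      Finsupp.single_eq_same, Nat.factorization_eq_zero_of_not_dvd hpM, add_zero]
  have hinj : ∀ u ∈ (R : Subgroup S), u ∈ Subgroup.center S → u = 1 := by
    intro u hu huz
    by_contra h1
    obtain ⟨k', hk'⟩ := R.isPGroup' ⟨u, hu⟩
    have hdvd : p ∣ orderOf u := by
      have h2 : orderOf u ∣ p ^ k' := orderOf_dvd_of_pow_eq_one (congrArg Subtype.val hk')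
      obtain ⟨i, -, hi⟩ := (Nat.dvd_prime_pow hp).1 h2
      rcases Nat.eq_zero_or_pos i with rfl | hi0
      · exact absurd (orderOf_eq_one_iff.1 (by simpa using hi)) h1
      · exact hi ▸ dvd_pow_self p hi0.ne'
    have h3 := Chars.eq_zero_of_dvd_orderOf hψ hp hψ1 hnd (hqN ▸ dvd_rfl) hdvd
    rw [hcenter u huz, hψ1, Nat.cast_eq_zero] at h3
    exact pow_ne_zero _ Fintype.card_ne_zero h3
  refine ⟨?_, fun x hx hx1 => ?_⟩
  · have hc : Nat.card ((R.mapSurjective (QuotientGroup.mk'_surjective (Subgroup.center S)) :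
        Sylow p (S ⧸ Subgroup.center S)) : Subgroup (S ⧸ Subgroup.center S)) =
          Nat.card (R : Subgroup S) := by
      rw [Sylow.coe_mapSurjective]
      refine (Nat.card_congr (Equiv.ofBijective
        ((QuotientGroup.mk' _).subgroupMap (R : Subgroup S)) ⟨fun a b hab => ?_,
          (QuotientGroup.mk' _).subgroupMap_surjective _⟩)).symm
      exact Subtype.ext (inv_mul_eq_one.1
        (hinj _ (mul_mem (inv_mem a.2) b.2) (QuotientGroup.eq.1 (congrArg Subtype.val hab))))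
    rw [hc, hRcard, ← hqN, ← hψ1, congrFun hχe 1, QuotientGroup.mk_one]
  · have hx' : x ∈ Subgroup.map (QuotientGroup.mk' _) (R : Subgroup S) := by
      rw [← Sylow.coe_mapSurjective (QuotientGroup.mk'_surjective _) R]; exact hx
    obtain ⟨r, hr, rfl⟩ := hx'
    show χ (r : S ⧸ Subgroup.center S) = 0
    rw [← congrFun hχe r]
    obtain ⟨k', hk'⟩ := R.isPGroup' ⟨r, hr⟩
    have h1 : r ≠ 1 := fun h => hx1 (by rw [h, map_one])
    refine Chars.eq_zero_of_dvd_orderOf hψ hp hψ1 hnd (hqN ▸ dvd_rfl) ?_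
    have h2 : orderOf r ∣ p ^ k' := orderOf_dvd_of_pow_eq_one (congrArg Subtype.val hk')
    obtain ⟨i, -, hi⟩ := (Nat.dvd_prime_pow hp).1 h2
    rcases Nat.eq_zero_or_pos i with rfl | hi0
    · exact absurd (orderOf_eq_one_iff.1 (by simpa using hi)) h1
    · exact hi ▸ dvd_pow_self p hi0.ne'

end CfsgLib.CharsMore.St
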