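import Cfsg.Agent.Lib.CharsMore.St.Steinberg

/-!
# Matrix groups on polar spaces

Auxiliary facts to verify the hypotheses of the Steinberg character construction for matrix groups.
-/

set_option linter.unusedSectionVars false
set_option linter.style.haveILetI false

namespace CfsgLib.CharsMore.St

open Matrix

universe u v w

section matAct

variable {F : Type u} [Field F] {ι : Type v} [Fintype ι] [DecidableEq ι] {G : Type w} [Group G]

/-- The linear action of a group of matrices. -/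
noncomputable def matAct (φ : G →* Matrix ι ι F) : G →* ((ι → F) ≃ₗ[F] (ι → F)) :=
  (LinearMap.GeneralLinearGroup.generalLinearEquiv F (ι → F)).toMonoidHom.comp
    ((Units.map (Matrix.toLinAlgEquiv' (R := F) (n := ι)).toMonoidHom).comp φ.toHomUnits)

theorem matAct_apply (φ : G →* Matrix ι ι F) (g : G) (v : ι → F) : matAct φ g v = φ g *ᵥ v := rfl

theorem matAct_injective {φ : G →* Matrix ι ι F} (h : Function.Injective φ) :
    Function.Injective (matAct φ) := fun a b e => h (Matrix.ext_iff_mulVec.2 fun v => by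
  rw [← matAct_apply, ← matAct_apply, e])

theorem matAct_eq_of_forall (M : Matrix ι ι F) (L : (ι → F) →ₗ[F] (ι → F)) (h : M = LinearMap.toMatrix' L)
    (v : ι → F) : M *ᵥ v = L v := by
  rw [h, LinearMap.toMatrix'_mulVec]

end matAct

namespace Polar

variable {F : Type u} [Field F] {V : Type v} [AddCommGroup V] [Module F V] {m : ℕ}
  (Q : Polar F V m)

/-- The map of a root element. -/
def rootMap (a w : V) (c : F) : V →ₗ[F] V where
  toFun v := v + Q.h v a • w + (-(Q.ε * Q.h v w) + c * Q.h v a) • a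
  map_add' x y := by simp only [Q.add_left]; module
  map_smul' d x := by simp only [Q.smul_left, RingHom.id_apply]; module

theorem rootMap_apply (a w : V) (c : F) (v : V) :
    Q.rootMap a w c v = v + Q.h v a • w + (-(Q.ε * Q.h v w) + c * Q.h v a) • a := rfl

theorem h_self_complete {a b w : V} (hab : Q.h a b = 1) (hwa : Q.h w a = 0) (hwb : Q.h w b = 0)
    (ha : Q.h a a = 0) (hb : Q.h b b = 0) (c : F) :
    Q.h (b + Q.ε • w + (Q.ε * c) • a) (b + Q.ε • w + (Q.ε * c) • a) =
      Q.σ c + Q.ε * c + Q.h w w := by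
  have hba : Q.h b a = Q.ε := by rw [Q.swap, hab, map_one, mul_one]
  simp only [Q.add_left, Q.add_right, Q.smul_left, Q.smul_right, hab, hba, hwa, hwb, ha, hb,
    Q.comm_zero hwa, Q.comm_zero hwb, map_mul, Q.σ_ε]
  linear_combination (Q.σ c + Q.h w w) * Q.ε_mul

theorem h_rootMap {a w : V} {c : F} (ha : Q.h a a = 0) (hwa : Q.h w a = 0)
    (hc : Q.σ c + Q.ε * c + Q.h w w = 0) (x y : V) :
    Q.h (Q.rootMap a w c x) (Q.rootMap a w c y) = Q.h x y := by
  simp only [rootMap_apply, Q.add_left, Q.add_right, Q.smul_left, Q.smul_right, ha, hwa,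
    Q.comm_zero hwa, map_add, map_neg, map_mul, Q.σ_ε]
  rw [Q.swap y a, Q.swap y w]
  linear_combination (Q.h x a * Q.σ (Q.h y a)) * hc -
    (Q.h x w * Q.σ (Q.h y a)) * Q.ε_mul

/-- If singular vectors are the isotropic ones, nontrivial `p`-elements move the frame. -/
theorem eq_id_of_frame [FiniteDimensional F V] (hsing : ∀ x, Q.h x x = 0 → Q.sing x) {p : ℕ}
    [Fact p.Prime] [CharP F p] {T : V ≃ₗ[F] V} (hh : ∀ x y, Q.h (T x) (T y) = Q.h x y)
    (hp : ∃ k, ∀ v, ((T : V →ₗ[F] V) ^ (p ^ k)) v = v) (he : ∀ i, T (Q.e i) = Q.e i)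
    (hf : ∀ i, T (Q.f i) = Q.f i) : ∀ v, T v = v := by
  classical
  obtain ⟨k, hk⟩ := hp
  let D : Module.End F V := T.toLinearMap - 1
  have hD : ∀ v, D v = T v - v := fun v => rfl
  have hMM : ∀ y, (∀ i, Q.h y (Q.e i) = 0) → (∀ i, Q.h y (Q.f i) = 0) →
      (∀ i, Q.h (D y) (Q.e i) = 0) ∧ ∀ i, Q.h (D y) (Q.f i) = 0 := fun y h1 h2 => by
    refine ⟨fun i => ?_, fun i => ?_⟩
    · conv_lhs => rw [hD, Q.sub_left, h1, sub_zero, ← he i, hh, h1]
    · conv_lhs => rw [hD, Q.sub_left, h2, sub_zero, ← hf i, hh, h2]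
  have key : ∀ (n : ℕ) y, (∀ i, Q.h y (Q.e i) = 0) → (∀ i, Q.h y (Q.f i) = 0) →
      (D ^ n) y = 0 → D y = 0 := by
    intro n
    induction n with
    | zero => intro y _ _ h; rw [pow_zero, Module.End.one_apply] at h; rw [h, map_zero]
    | succ n ih =>
      intro y h1 h2 h
      obtain ⟨h3, h4⟩ := hMM y h1 h2
      rw [pow_succ, Module.End.mul_apply] at h
      have h5 : T (D y) = D y := sub_eq_zero.1 (ih (D y) h3 h4 h)
      refine Q.aniso _ (hsing _ ?_) h3 h4
      rw [show Q.h (D y) (D y) = Q.h (T y - y) (D y) from rfl, Q.sub_left]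
      nth_rewrite 1 [← h5]
      rw [hh, sub_self]
  intro v
  let y := v - ∑ i, (Q.β i v • Q.e i + (Q.ε * Q.α i v) • Q.f i)
  have hy : (∀ i, Q.h y (Q.e i) = 0) ∧ ∀ i, Q.h y (Q.f i) = 0 := by
    refine ⟨fun i => ?_, fun i => ?_⟩
    · simp [y, Q.α_apply, Q.β_apply, Q.sub_left, Q.sum_left, Q.add_left, Q.smul_left, Q.h_fe, Q.h_ee,
        mul_right_comm, Q.ε_mul]
    · simp [y, Q.α_apply, Q.β_apply, Q.sub_left, Q.sum_left, Q.add_left, Q.smul_left, Q.h_ff, Q.h_ef]
  have hDy : D y = D v := by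
    simp [y, hD, map_sum, he, hf]
  rcases subsingleton_or_nontrivial V with hV | hV
  · exact Subsingleton.elim _ _
  haveI : CharP (Module.End F V) p :=
    charP_of_injective_algebraMap (algebraMap F (Module.End F V)).injective p
  have hpow : D ^ (p ^ k) = 0 := by
    refine LinearMap.ext fun x => ?_
    show ((T.toLinearMap - 1 : Module.End F V) ^ p ^ k) x = 0
    rw [sub_pow_char_pow_of_commute p k (Commute.one_right (T.toLinearMap : Module.End F V)),
      one_pow, LinearMap.sub_apply, hk, Module.End.one_apply, sub_self]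
  have := key (p ^ k) y hy.1 hy.2 (by rw [hpow, LinearMap.zero_apply])
  rwa [hDy, hD, sub_eq_zero] at this

theorem pow_apply {G : Type w} [Group G] (ρ : G →* (V ≃ₗ[F] V)) (g : G) (n : ℕ) (v : V) :
    (((ρ g).toLinearMap : Module.End F V) ^ n) v = ρ (g ^ n) v := by
  induction n generalizing v with
  | zero => rw [pow_zero, pow_zero, map_one]; rfl
  | succ n ih => rw [pow_succ, Module.End.mul_apply, ih, pow_succ, map_mul]; rfl

/-- If singular vectors are the isotropic ones, only the trivial `p`-element fixes the frame. -/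
theorem frame_fix_of {G : Type w} [Group G] [FiniteDimensional F V] {p : ℕ} [Fact p.Prime]
    [CharP F p] (hsing : ∀ x, Q.h x x = 0 → Q.sing x) (ρ : G →* (V ≃ₗ[F] V))
    (hinj : Function.Injective ρ) (hρ : ∀ g x y, Q.h (ρ g x) (ρ g y) = Q.h x y) (g : G)
    (hp : ∃ k, g ^ (p ^ k) = 1) (he : ∀ i, ρ g (Q.e i) = Q.e i) (hf : ∀ i, ρ g (Q.f i) = Q.f i) :
    g = 1 := by
  obtain ⟨k, hk⟩ := hp
  refine hinj ?_
  rw [map_one]
  exact LinearEquiv.ext (Q.eq_id_of_frame (T := ρ g) hsing (hρ g)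
    ⟨k, fun v => by rw [pow_apply, hk, map_one]; rfl⟩ he hf)

end Polar

end CfsgLib.CharsMore.St
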