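import Cfsg.Agent.Lib.CharsMore.St.MatAct
import Cfsg.Agent.Lib.Geometry.OmegaMem
import Cfsg.Agent.Lib.Geometry.AutRootCalc
import Cfsg.Agent.Lib.Geometry.MaxSingular
import Cfsg.Prelude.Def_Classical

/-!
# The Steinberg character of an orthogonal group

For a non-degenerate quadratic space of Witt index `m` and dimension at most `2 m + 2` whose
orthogonal group is generated by reflections, the root elements lie in `Ω`, and the parity of maximal
singular subspaces separates the two fixed chambers in dimension `2 m`.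
-/

set_option linter.unusedSectionVars false
set_option linter.style.haveILetI false

namespace CfsgLib.CharsMore.St

open QuadraticMap Matrix CfsgLib CfsgLib.Geometry

universe u v

section membership

variable {F : Type u} [Field F] [Finite F] {V : Type v} [AddCommGroup V] [Module F V]
  [FiniteDimensional F V] {Q : QuadraticForm F V}

theorem sq_eq_one_invariant (x : SqClass F × Multiplicative (ZMod 2)) : x ^ 2 = 1 := by
  obtain ⟨s, t⟩ := x
  refine Prod.ext ?_ ?_
  · obtain ⟨u, rfl⟩ := sqHom_surjective s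
    show sqHom F u ^ 2 = 1
    rw [← map_pow, sqHom_eq_one_iff]
    exact ⟨u, by push_cast; ring⟩
  · show t ^ 2 = 1
    revert t
    decide

theorem siegel_mem_commutator (hQ : (polarBilin Q).Nondegenerate) (hR : reflGroup Q = orth Q)
    (e w : V) (he : Q e = 0) (hw : polar Q e w = 0) :
    (⟨siegel Q e w he hw, siegel_mem_orth Q e w he hw⟩ : orth Q) ∈ commutator (orth Q) := by
  classical
  rw [mem_commutator_orth_iff hQ hR]
  set g : orth Q := ⟨siegel Q e w he hw, siegel_mem_orth Q e w he hw⟩ with hg
  by_cases hwe : w ∈ Submodule.span F {e}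
  · obtain ⟨c, hc⟩ := Submodule.mem_span_singleton.1 hwe
    rw [show g = 1 from Subtype.ext (siegel_eq_one c he hw hc.symm), map_one]
  by_cases he0 : e = 0
  · have h1 : g = 1 := Subtype.ext (LinearEquiv.ext fun v => by
      rw [hg]
      show siegel Q e w he hw v = v
      simp [siegel_apply, he0])
    rw [h1, map_one]
  by_cases h2 : (2 : F) = 0
  · refine Prod.ext (sqClass_eq_one_of_two h2 _) ?_
    obtain ⟨v₀, hv₀⟩ : ∃ v₀, polar Q v₀ e = 1 := by
      obtain ⟨v, hv⟩ : ∃ v, polar Q v e ≠ 0 := by
        by_contra! h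
        exact he0 (hQ.2 e fun v => h v)
      exact ⟨(polar Q v e)⁻¹ • v, by rw [polar_smul_left', inv_mul_cancel₀ hv]⟩
    obtain ⟨v₁, hv₁, hv₁'⟩ : ∃ v₁, polar Q v₁ e = 0 ∧ polar Q v₁ w ≠ 0 := by
      by_contra! h
      refine hwe (Submodule.mem_span_singleton.2 ⟨polar Q v₀ w, (sub_eq_zero.1 (hQ.2 _ fun v => ?_)).symm⟩)
      have h1 := h (v - polar Q v e • v₀) (by
        rw [polar_sub_left, polar_smul_left', hv₀, mul_one, sub_self])
      rw [polar_sub_left, polar_smul_left', sub_eq_zero] at h1
      show polar Q v (w - polar Q v₀ w • e) = 0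
      rw [polar_sub_right, polar_smul_right', h1]
      ring
    have hmov : ∀ v, movMap (g : V ≃ₗ[F] V) v =
        (-polar Q v e) • w + (polar Q v w + Q w * polar Q v e) • e := fun v => by
      rw [movMap_apply, show (g : V ≃ₗ[F] V) v = siegel Q e w he hw v from rfl, siegel_apply]
      module
    have heM : e ∈ movSpace (g : V ≃ₗ[F] V) := by
      refine ⟨(polar Q v₁ w)⁻¹ • v₁, ?_⟩
      rw [map_smul, hmov, hv₁, neg_zero, zero_smul, zero_add, mul_zero, add_zero, smul_smul,
        inv_mul_cancel₀ hv₁', one_smul]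
    have hwM : w ∈ movSpace (g : V ≃ₗ[F] V) := by
      have h1 : movMap (g : V ≃ₗ[F] V) v₀ ∈ movSpace (g : V ≃ₗ[F] V) := ⟨v₀, rfl⟩
      rw [hmov, hv₀] at h1
      have h3 := sub_mem (Submodule.smul_mem _ (polar Q v₀ w + Q w * 1) heM) h1
      simpa using h3
    have hrk : Module.finrank F (movSpace (g : V ≃ₗ[F] V)) = 2 := by
      have h : movSpace (g : V ≃ₗ[F] V) = Submodule.span F (Set.range ![e, w]) := by
        refine le_antisymm ?_ (Submodule.span_le.2 ?_)
        · rintro _ ⟨v, rfl⟩
          rw [hmov]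
          exact add_mem (Submodule.smul_mem _ _ (Submodule.subset_span ⟨1, rfl⟩))
            (Submodule.smul_mem _ _ (Submodule.subset_span ⟨0, rfl⟩))
        · rintro _ ⟨i, rfl⟩
          fin_cases i
          exacts [heM, hwM]
      rw [h, finrank_span_eq_card ((LinearIndependent.pair_iff' he0).2 fun a ha =>
        hwe (Submodule.mem_span_singleton.2 ⟨a, ha⟩))]
      rfl
    show Multiplicative.ofAdd (Module.finrank F (movSpace (g : V ≃ₗ[F] V)) : ZMod 2) = 1
    rw [hrk]
    decide
  · obtain ⟨p, hchar⟩ := CharP.exists F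
    have hp : p.Prime := CharP.char_is_prime F p
    have hpow : ∀ n : ℕ, ((g ^ n : orth Q) : V ≃ₗ[F] V) = siegel Q e ((n : F) • w) he
        (by rw [polar_smul_right', hw, mul_zero]) := by
      intro n
      induction n with
      | zero =>
        rw [pow_zero]
        exact LinearEquiv.ext fun v => by simp [siegel_apply]
      | succ n ih =>
        rw [pow_succ, Subgroup.coe_mul, ih, show (g : V ≃ₗ[F] V) = siegel Q e w he hw from rfl,
          siegel_mul]
        congr 1
        rw [Nat.cast_succ, add_smul, one_smul]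
    have hgp : g ^ p = 1 := Subtype.ext (by
      rw [hpow p]
      exact siegel_eq_one 0 he _ (by rw [CharP.cast_eq_zero, zero_smul, zero_smul]))
    have hodd : Odd p := hp.odd_of_ne_two fun h => h2 (by
      subst h
      exact_mod_cast CharP.cast_eq_zero F 2)
    obtain ⟨k, hk⟩ := hodd
    have h1 : orthInvariant hQ hR g ^ p = 1 := by rw [← map_pow, hgp, map_one]
    rwa [hk, pow_succ, pow_mul, sq_eq_one_invariant, one_pow, one_mul] at h1

end membership

section parity

variable {F : Type u} [Field F] {V : Type v} [AddCommGroup V] [Module F V]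
  [FiniteDimensional F V] {Q : QuadraticForm F V}

theorem isMaxSing_map' {m : ℕ} {g : V ≃ₗ[F] V} (hg : g ∈ orth Q) {X : Submodule F V}
    (hX : IsMaxSing Q m X) : IsMaxSing Q m (X.map g.toLinearMap) :=
  ⟨by rw [LinearEquiv.finrank_map_eq]; exact hX.1, by
    rintro _ ⟨x, hx, rfl⟩
    exact (hg x).trans (hX.2 x hx)⟩

/-- The codimension of the intersection of a maximal singular subspace with its image, mod two. -/
noncomputable def maxSingHom (hQ : (polarBilin Q).Nondegenerate) {m : ℕ}
    (hV : Module.finrank F V = 2 * m) {X : Submodule F V} (hX : IsMaxSing Q m X) :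
    orth Q →* Multiplicative (ZMod 2) :=
  MonoidHom.mk' (fun g => Multiplicative.ofAdd
    ((m - Module.finrank F ↥(X ⊓ X.map (g : V ≃ₗ[F] V).toLinearMap) : ℕ) : ZMod 2)) fun g k => by
    rw [← ofAdd_add]
    refine congrArg Multiplicative.ofAdd ?_
    set U := X.map ((g * k : orth Q) : V ≃ₗ[F] V).toLinearMap
    set W := X.map (g : V ≃ₗ[F] V).toLinearMap
    have h2 := maxSing_parity hQ hV hX _ U W (isMaxSing_map' (g * k).2 hX) (isMaxSing_map' g.2 hX) rfl
    have e : Module.finrank F ↥(U ⊓ W) =
        Module.finrank F ↥(X ⊓ X.map (k : V ≃ₗ[F] V).toLinearMap) := by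
      have : U ⊓ W = (X ⊓ X.map (k : V ≃ₗ[F] V).toLinearMap).map (g : V ≃ₗ[F] V).toLinearMap := by
        rw [Submodule.map_inf _ (g : V ≃ₗ[F] V).injective, ← Submodule.map_comp, inf_comm]
        rfl
      rw [this, LinearEquiv.finrank_map_eq]
    rw [← ZMod.natCast_eq_zero_iff_even, Nat.cast_add, Nat.cast_add, e,
      inf_comm W X, inf_comm U X] at h2
    rw [eq_neg_of_add_eq_zero_right h2, ZMod.neg_eq_self_mod_two, add_comm]

theorem map_ne_of_commutator (hQ : (polarBilin Q).Nondegenerate) {m : ℕ}
    (hV : Module.finrank F V = 2 * m) {X Y : Submodule F V} (hX : IsMaxSing Q m X) {g : orth Q}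
    (hg : g ∈ commutator (orth Q)) (hXY : Module.finrank F ↥(X ⊓ Y) + 1 = m) :
    X.map (g : V ≃ₗ[F] V).toLinearMap ≠ Y := by
  intro h
  have h1 : maxSingHom hQ hV hX g = 1 :=
    Abelianization.commutator_subset_ker (maxSingHom hQ hV hX) hg
  have h2 : ((m - Module.finrank F ↥(X ⊓ Y) : ℕ) : ZMod 2) = 0 :=
    Multiplicative.ofAdd.injective (h ▸ h1)
  rw [show m - Module.finrank F ↥(X ⊓ Y) = 1 by omega, Nat.cast_one] at h2
  exact one_ne_zero h2

end parity

/-- A frame of a quadratic space. -/
structure QFrame {F : Type u} [Field F] {V : Type v} [AddCommGroup V] [Module F V]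
    (Q : QuadraticForm F V) (m : ℕ) where
  e : Fin m → V
  f : Fin m → V
  sing_e : ∀ i, Q (e i) = 0
  sing_f : ∀ i, Q (f i) = 0
  h_ee : ∀ i j, polar Q (e i) (e j) = 0
  h_ff : ∀ i j, polar Q (f i) (f j) = 0
  h_ef : ∀ i j, polar Q (e i) (f j) = if i = j then 1 else 0
  aniso : ∀ x, Q x = 0 → (∀ i, polar Q x (e i) = 0) → (∀ i, polar Q x (f i) = 0) → x = 0

/-- The polar space of a quadratic form. -/
def QFrame.polarSpace {F : Type u} [Field F] {V : Type v} [AddCommGroup V] [Module F V]
    {Q : QuadraticForm F V} {m : ℕ} (B : QFrame Q m) : Polar F V m where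
  σ := RingHom.id F
  σ_σ _ := rfl
  ε := 1
  ε_mul := one_mul 1
  σ_ε := rfl
  h := fun x y => polar Q x y
  add_left x y z := polar_add_left Q x y z
  smul_left c x z := polar_smul_left' Q c x z
  swap x y := by rw [RingHom.id_apply, one_mul, polar_comm]
  sing x := Q x = 0
  sing_smul c x hx := by rw [Geometry.map_smul', hx, mul_zero]
  sing_add hx hy hxy := by rw [Geometry.map_add', hx, hy, hxy, add_zero, add_zero]
  self_of_sing hx := by rw [polar_self', hx, mul_zero]
  e := B.e
  f := B.f
  sing_e := B.sing_e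
  sing_f := B.sing_f
  h_ee := B.h_ee
  h_ff := B.h_ff
  h_ef := B.h_ef
  aniso := B.aniso
  complete a b w ha hb hab hwa hwb := by
    refine ⟨-Q w, ?_⟩
    simp only [one_smul, one_mul, Geometry.map_add', Geometry.map_smul', polar_add_left, polar_smul_right', ha, hb,
      polar_comm Q b a, polar_comm Q b w, hab, hwa, hwb]
    ring

section action

variable {F : Type u} [Field F] [Finite F] {ι : Type} [Fintype ι] [DecidableEq ι]
  {Q : QuadraticForm F (ι → F)} {m : ℕ}

/-- The matrices of `Ω`. -/
def omegaMat (Q : QuadraticForm F (ι → F)) : Cfsg.Omega F ⇑Q →* Matrix ι ι F :=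
  (Units.coeHom (Matrix ι ι F)).comp
    ((Cfsg.isometryGroup F ⇑Q).subtype.comp (Cfsg.Omega F ⇑Q).subtype)

theorem omegaMat_injective : Function.Injective (omegaMat Q) := fun _ _ h =>
  Subtype.ext (Subtype.ext (Units.ext h))

theorem Q_omega (g : Cfsg.Omega F ⇑Q) (x : ι → F) : Q (matAct (omegaMat Q) g x) = Q x :=
  (g : Cfsg.isometryGroup F ⇑Q).2 x x

theorem polar_omega (g : Cfsg.Omega F ⇑Q) (x y : ι → F) :
    polar Q (matAct (omegaMat Q) g x) (matAct (omegaMat Q) g y) = polar Q x y := by
  simp only [QuadraticMap.polar, ← map_add, Q_omega]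

theorem isomEquiv_mem (g : Cfsg.Omega F ⇑Q) :
    isomEquiv Q (g : Cfsg.isometryGroup F ⇑Q) ∈ commutator (orth Q) :=
  (mem_Omega_iff_commutator Q _).1 g.2

theorem omega_frame_fix (hQ : (polarBilin Q).Nondegenerate) (hR : reflGroup Q = orth Q)
    (B : QFrame Q m) (hdim : Fintype.card ι ≤ 2 * m + 2) {p : ℕ} [Fact p.Prime] [CharP F p]
    (g : Cfsg.Omega F ⇑Q) (hp : ∃ k, g ^ (p ^ k) = 1)
    (he : ∀ i, matAct (omegaMat Q) g (B.e i) = B.e i)
    (hf : ∀ i, matAct (omegaMat Q) g (B.f i) = B.f i) : g = 1 := by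
  classical
  by_cases h2 : (2 : F) ≠ 0
  · exact B.polarSpace.frame_fix_of (fun x hx => by
      have : 2 * Q x = 0 := (polar_self' Q x).symm.trans hx
      exact (mul_eq_zero.1 this).resolve_left h2) _ (matAct_injective omegaMat_injective)
      polar_omega g hp he hf
  rw [not_not] at h2
  obtain ⟨k, hk⟩ := hp
  let P := B.polarSpace
  let T := matAct (omegaMat Q) g
  let D : Module.End F (ι → F) := T.toLinearMap - 1
  have hD : ∀ v, D v = T v - v := fun v => rfl
  let M : Submodule F (ι → F) :=
    LinearMap.ker (LinearMap.pi P.α) ⊓ LinearMap.ker (LinearMap.pi P.β)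
  have hM : ∀ x, x ∈ M ↔ (∀ i, polar Q x (B.e i) = 0) ∧ ∀ i, polar Q x (B.f i) = 0 := fun x => by
    simp [M, funext_iff, Polar.α_apply, Polar.β_apply, P, QFrame.polarSpace]
  have hDM : ∀ v, D v ∈ M := fun v => (hM _).2 ⟨fun i => by
    conv_lhs => rw [hD, polar_sub_left, ← he i, polar_omega, he i, sub_self],
    fun i => by
    conv_lhs => rw [hD, polar_sub_left, ← hf i, polar_omega, hf i, sub_self]⟩
  have hrange : LinearMap.range D ≤ M.map D := by
    rintro _ ⟨v, rfl⟩
    refine ⟨v - ∑ i, (P.β i v • B.e i + P.α i v • B.f i), (hM _).2 ⟨fun i => ?_, fun i => ?_⟩, ?_⟩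
    · change P.h _ (P.e i) = 0
      simp [P.sub_left, P.sum_left, P.add_left, P.smul_left, show ∀ j, B.e j = P.e j from fun _ => rfl,
        show ∀ j, B.f j = P.f j from fun _ => rfl, P.h_ee, P.h_fe, P.α_apply,
        show P.ε = 1 from rfl]
    · change P.h _ (P.f i) = 0
      simp [P.sub_left, P.sum_left, P.add_left, P.smul_left, show ∀ j, B.e j = P.e j from fun _ => rfl,
        show ∀ j, B.f j = P.f j from fun _ => rfl, P.h_ef, P.h_ff, P.β_apply]
    · simp [hD, T, map_sum, he, hf]
  have hnil : D ^ (p ^ k) = 0 := by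
    rcases subsingleton_or_nontrivial (ι → F) with hV | hV
    · exact Subsingleton.elim _ _
    haveI : CharP (Module.End F (ι → F)) p :=
      charP_of_injective_algebraMap (algebraMap F (Module.End F (ι → F))).injective p
    refine LinearMap.ext fun x => ?_
    show ((T.toLinearMap - 1 : Module.End F (ι → F)) ^ p ^ k) x = 0
    rw [sub_pow_char_pow_of_commute p k (Commute.one_right (T.toLinearMap : Module.End F (ι → F))),
      one_pow, LinearMap.sub_apply, Polar.pow_apply, hk, map_one]
    simp
  have hMdim : Module.finrank F M ≤ 2 := by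
    have hdisj : M ⊓ Submodule.span F (Set.range P.fr) = ⊥ := by
      rw [eq_bot_iff]
      intro x ⟨hxM, hx⟩
      obtain ⟨c, rfl⟩ := (Submodule.mem_span_range_iff_exists_fun F).1 hx
      have hc : ∀ q, c q = 0 := fun q => by
        have h1 : P.h (∑ r, c r • P.fr r) (P.fr (q.1, !q.2)) = 0 := by
          obtain ⟨i, b⟩ := q
          cases b
          · exact ((hM _).1 hxM).2 i
          · exact ((hM _).1 hxM).1 i
        simp only [P.sum_left, P.smul_left, P.h_fr, mul_ite, mul_zero, Finset.sum_ite_eq',
          Finset.mem_univ, if_true] at h1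
        obtain ⟨i, b⟩ := q
        cases b <;> simpa [show P.ε = 1 from rfl] using h1
      simp [hc]
    have h1 := Submodule.finrank_sup_add_finrank_inf_eq M (Submodule.span F (Set.range P.fr))
    have h3 := Submodule.finrank_le (M ⊔ Submodule.span F (Set.range P.fr))
    rw [hdisj, finrank_bot, finrank_span_eq_card P.linearIndependent_fr] at h1
    simp only [Fintype.card_prod, Fintype.card_fin, Fintype.card_bool,
      Module.finrank_fintype_fun_eq_card] at h1 h3
    omega
  have hsmall : Module.finrank F (LinearMap.range D) ≤ 1 := by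
    by_contra! hc
    have hle : M.map D ≤ M := by rintro _ ⟨v, -, rfl⟩; exact hDM v
    have heq : M.map D = M := by
      refine Submodule.eq_of_le_of_finrank_le hle ?_
      have := Submodule.finrank_mono hrange
      omega
    have hpow : ∀ n : ℕ, M.map (D ^ n) = M := by
      intro n
      induction n with
      | zero => rw [pow_zero]; exact Submodule.map_id M
      | succ n ih =>
        rw [pow_succ, show (D ^ n * D : Module.End F (ι → F)) = (D ^ n).comp D from rfl,
          Submodule.map_comp, heq, ih]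
    have hM0 : M = ⊥ := by rw [← hpow (p ^ k), hnil, Submodule.map_zero]
    have := Submodule.finrank_mono hrange
    rw [heq, hM0, finrank_bot] at this
    omega
  have hinv : orthInvariant hQ hR (isomEquiv Q (g : Cfsg.isometryGroup F ⇑Q)) = 1 :=
    (mem_commutator_orth_iff hQ hR _).1 (isomEquiv_mem g)
  have hmov : movSpace (isomEquiv Q (g : Cfsg.isometryGroup F ⇑Q) : (ι → F) ≃ₗ[F] (ι → F)) =
      LinearMap.range D := by
    have e : movMap (isomEquiv Q (g : Cfsg.isometryGroup F ⇑Q) : (ι → F) ≃ₗ[F] (ι → F)) = -D :=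
      LinearMap.ext fun v => by
        rw [movMap_apply, LinearMap.neg_apply, hD, neg_sub]
        rfl
    rw [movSpace, e, LinearMap.range_neg]
  have hpar : ((Module.finrank F (LinearMap.range D) : ℕ) : ZMod 2) = 0 := by
    rw [← hmov]
    exact Multiplicative.ofAdd.injective (congrArg Prod.snd hinv)
  have h0 : Module.finrank F (LinearMap.range D) = 0 := by
    rw [ZMod.natCast_eq_zero_iff_even] at hpar
    obtain ⟨j, hj⟩ := hpar
    omega
  refine matAct_injective omegaMat_injective (LinearEquiv.ext fun v => ?_)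
  have hv : D v ∈ LinearMap.range D := ⟨v, rfl⟩
  rw [Submodule.finrank_eq_zero.1 h0, Submodule.mem_bot, hD, sub_eq_zero] at hv
  rw [map_one]
  exact hv

/-- `Ω` acting on the polar space of the quadratic form. -/
noncomputable def omegaAct (hQ : (polarBilin Q).Nondegenerate) (hR : reflGroup Q = orth Q)
    (B : QFrame Q m) (hdim : Fintype.card ι ≤ 2 * m + 2) (p : ℕ) [Fact p.Prime] [CharP F p] :
    B.polarSpace.Act p (Cfsg.Omega F ⇑Q) where
  ρ := matAct (omegaMat Q)
  inj := matAct_injective omegaMat_injective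
  h_ρ := polar_omega
  sing_ρ g x hx := (Q_omega g x).trans hx
  elem a b w ha hb hab hwa hwb c hs := by
    replace ha : Q a = 0 := ha
    have haw : polar Q a w = 0 := (polar_comm Q a w).trans hwa
    have hc : c = -Q w := by
      have h := hs
      simp only [QFrame.polarSpace, one_smul, one_mul, Geometry.map_add', Geometry.map_smul', polar_add_left,
        polar_smul_right'] at h ha hb hab hwa hwb
      rw [ha, hb, polar_comm Q b a, polar_comm Q b w, hab, hwa, hwb] at h
      linear_combination h
    let s : orth Q := ⟨siegel Q a w ha haw, siegel_mem_orth Q a w ha haw⟩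
    refine ⟨⟨(isomEquiv Q).symm s, (mem_Omega_iff_commutator Q _).2 ?_⟩, fun v => ?_⟩
    · rw [MulEquiv.apply_symm_apply]
      exact siegel_mem_commutator hQ hR a w ha haw
    · refine (isomEquiv_symm_mulVec Q s v).trans ?_
      show siegel Q a w ha haw v = _
      rw [siegel_apply, hc]
      simp only [QFrame.polarSpace, one_mul]
      module
  frame_fix g := omega_frame_fix hQ hR B hdim g
  fat_or := by
    classical
    by_cases hF : ∃ w : ι → F, w ≠ 0 ∧ ∀ j, polar Q w (B.e j) = 0 ∧ polar Q w (B.f j) = 0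
    · obtain ⟨w, hw0, hw⟩ := hF
      refine Or.inl fun i => ⟨w, -Q w, Or.inl hw0, hw, ?_⟩
      simp [QFrame.polarSpace, Geometry.map_add', Geometry.map_smul', polar_add_left, polar_smul_right', B.sing_e,
        B.sing_f, polar_comm Q (B.f i) w, polar_comm Q (B.f i) (B.e i), (hw i).1, (hw i).2, B.h_ef]
    push Not at hF
    refine Or.inr fun g l hl => ?_
    have hspan : Submodule.span F (Set.range B.polarSpace.fr) = ⊤ := by
      rw [eq_top_iff]
      intro v _
      let a := ∑ i, (B.polarSpace.β i v • B.e i + B.polarSpace.α i v • B.f i)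
      have hva : v - a = 0 := by
        by_contra h0
        obtain ⟨j, hj⟩ := hF _ h0
        refine hj ?_ ?_
        · change B.polarSpace.h _ (B.polarSpace.e j) = 0
          simp [a, Polar.sub_left, Polar.sum_left, Polar.add_left, Polar.smul_left, Polar.h_ee,
            Polar.h_fe, Polar.α_apply, show ∀ j, B.e j = B.polarSpace.e j from fun _ => rfl,
            show ∀ j, B.f j = B.polarSpace.f j from fun _ => rfl,
            show B.polarSpace.ε = 1 from rfl]
        · change B.polarSpace.h _ (B.polarSpace.f j) = 0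
          simp [a, Polar.sub_left, Polar.sum_left, Polar.add_left, Polar.smul_left, Polar.h_ef,
            Polar.h_ff, Polar.β_apply, show ∀ j, B.e j = B.polarSpace.e j from fun _ => rfl,
            show ∀ j, B.f j = B.polarSpace.f j from fun _ => rfl]
      rw [sub_eq_zero.1 hva]
      exact Submodule.sum_mem _ fun i _ => add_mem
        (Submodule.smul_mem _ _ (Submodule.subset_span ⟨(i, false), rfl⟩))
        (Submodule.smul_mem _ _ (Submodule.subset_span ⟨(i, true), rfl⟩))
    have hV : Module.finrank F (ι → F) = 2 * m := by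
      have h1 := finrank_span_eq_card B.polarSpace.linearIndependent_fr
      rw [hspan, finrank_top] at h1
      rw [h1]
      simp [mul_comm]
    haveI : Nonempty (Fin m) := ⟨l⟩
    let w₁ : Polar.Word m := (1, Function.update (fun _ => false) l true)
    have hEW : B.polarSpace.eSpan = B.polarSpace.wflag (1, fun _ => false) l :=
      (B.polarSpace.wflag_eq_range (1, fun _ => false) hl).symm
    have hEf := B.polarSpace.isFlag_wflag (1, fun _ => false)
    have hX : IsMaxSing Q m B.polarSpace.eSpan :=
      ⟨by rw [hEW, hEf.1, hl], B.polarSpace.ts_eSpan.1⟩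
    have hY : Submodule.span F (Set.range (Function.update B.e l (B.f l))) =
        B.polarSpace.wflag w₁ l := by
      rw [B.polarSpace.wflag_eq_range w₁ hl]
      refine congrArg _ (congrArg _ (funext fun j => ?_))
      rcases eq_or_ne j l with rfl | hj
      · simp [w₁, Polar.vec, Polar.fr, QFrame.polarSpace]
      · simp [w₁, Polar.vec, Polar.fr, QFrame.polarSpace, hj]
    show Submodule.map _ B.polarSpace.eSpan ≠
      Submodule.span F (Set.range (Function.update B.e l (B.f l)))
    rw [hY]
    refine map_ne_of_commutator hQ hV hX (isomEquiv_mem g) ?_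
    have hbelow : Polar.below (B.polarSpace.wflag w₁) l ≤ B.polarSpace.eSpan := by
      by_cases h0 : (l : ℕ) = 0
      · rw [Polar.below_zero _ h0]; exact bot_le
      rw [Polar.below, dif_neg h0]
      refine Submodule.span_le.2 ?_
      rintro _ ⟨j, hj, rfl⟩
      have hjl : j ≠ l := fun e => by
        subst e
        have hle : (j : ℕ) ≤ (j : ℕ) - 1 := hj
        omega
      exact Submodule.subset_span ⟨j, by simp [w₁, Polar.vec, Polar.fr, hjl]⟩
    have hWf := B.polarSpace.isFlag_wflag w₁
    have h1 := Submodule.finrank_mono (le_inf hbelow (hWf.below_le l))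
    rw [hWf.finrank_below] at h1
    have hne : ¬ B.polarSpace.wflag w₁ l ≤ B.polarSpace.eSpan := fun h => by
      have h3 := B.polarSpace.α_eSpan (h (B.polarSpace.vec_mem w₁ le_rfl)) l
      simp [w₁, Polar.vec, Polar.fr, Polar.α_apply, Polar.h_fe, show B.polarSpace.ε = 1 from rfl] at h3
    have h2 := Submodule.finrank_lt_finrank_of_lt (lt_of_le_of_ne
      (inf_le_right : B.polarSpace.eSpan ⊓ B.polarSpace.wflag w₁ l ≤ _)
      fun e => hne (e ▸ inf_le_left))
    rw [hWf.1] at h2
    omega

theorem exists_omegaSteinberg (hQ : (polarBilin Q).Nondegenerate) (hR : reflGroup Q = orth Q)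
    (B : QFrame Q m) (hdim : Fintype.card ι ≤ 2 * m + 2) (p : ℕ) [Fact p.Prime] [CharP F p] :
    ∃ χ : Cfsg.POmega F ⇑Q → ℂ, Cfsg.IsIrrCharacter (Cfsg.POmega F ⇑Q) χ ∧
      ∀ P : Sylow p (Cfsg.POmega F ⇑Q),
        χ 1 = Nat.card P ∧ ∀ x : Cfsg.POmega F ⇑Q, x ∈ P → x ≠ 1 → χ x = 0 :=
  (omegaAct hQ hR B hdim p).exists_steinberg _ le_rfl

end action

end CfsgLib.CharsMore.St
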