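import Cfsg.Agent.Lib.CharsMore.St.OrthStd
import Cfsg.Agent.Lib.Chars.PermChar
import Cfsg.Agent.S2566

/-!
# The Steinberg character in the exceptional case `PΩ⁺₄(2)`

The commutator subgroup of `S₃ ≀ 2` is the group of pairs of permutations of equal sign, whose
character of degree two through one of the projections vanishes on involutions.
-/

set_option linter.unusedSectionVars false
set_option linter.style.haveILetI false

namespace CfsgLib.CharsMore.St

open Cfsg
open scoped commutatorElement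

universe u v

/-- Pairs of permutations of equal sign. -/
def samePairs : Subgroup (Equiv.Perm (Fin 3) × Equiv.Perm (Fin 3)) where
  carrier := {x | Equiv.Perm.sign x.1 = Equiv.Perm.sign x.2}
  one_mem' := by simp
  mul_mem' {a b} ha hb := by
    simp only [Set.mem_setOf_eq, Prod.fst_mul, Prod.snd_mul, map_mul] at ha hb ⊢
    rw [ha, hb]
  inv_mem' {a} ha := by
    simp only [Set.mem_setOf_eq, Prod.fst_inv, Prod.snd_inv, map_inv] at ha ⊢
    rw [ha]

theorem mem_samePairs {x : Equiv.Perm (Fin 3) × Equiv.Perm (Fin 3)} :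
    x ∈ samePairs ↔ Equiv.Perm.sign x.1 = Equiv.Perm.sign x.2 := Iff.rfl

instance : DecidablePred (· ∈ samePairs) := fun _ => decidable_of_iff _ mem_samePairs.symm

theorem card_samePairs : Fintype.card samePairs = 18 := by decide +kernel

theorem samePairs_center (x : samePairs) (h : ∀ y : samePairs, y * x = x * y) : x = 1 := by
  revert x
  decide +kernel

theorem samePairs_invol : ∀ x : samePairs, x * x = 1 → x ≠ 1 →
    (x : Equiv.Perm (Fin 3) × Equiv.Perm (Fin 3)).1 ≠ 1 := by decide +kernel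

theorem perm_three_invol : ∀ a : Equiv.Perm (Fin 3), a * a = 1 → a ≠ 1 →
    (Finset.univ.filter fun i => a i = i).card = 1 := by decide +kernel

theorem perm_three_sign : ∀ a : Equiv.Perm (Fin 3),
    Equiv.Perm.sign a = -1 ↔ a * a = 1 ∧ a ≠ 1 := by decide +kernel

theorem perm_three_commutator : ∀ a : Equiv.Perm (Fin 3), Equiv.Perm.sign a = 1 →
    ∃ u v : Equiv.Perm (Fin 3), u * v * u⁻¹ * v⁻¹ = a := by decide +kernel

theorem perm_three_transitive : ∀ a b c d : Fin 3, a ≠ b → c ≠ d →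
    ∃ σ : Equiv.Perm (Fin 3), σ a = c ∧ σ b = d := by decide +kernel

theorem sign_auto (τ : Equiv.Perm (Fin 3) →* Equiv.Perm (Fin 3)) (hτ : Function.Injective τ)
    (a : Equiv.Perm (Fin 3)) : Equiv.Perm.sign (τ a) = Equiv.Perm.sign a := by
  have h : Equiv.Perm.sign (τ a) = -1 ↔ Equiv.Perm.sign a = -1 := by
    rw [perm_three_sign, perm_three_sign, ← map_mul, ← hτ.eq_iff' (map_one τ) (a := a * a),
      hτ.ne_iff' (map_one τ)]
  rcases Int.units_eq_one_or (Equiv.Perm.sign a) with h1 | h1 <;>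
    rcases Int.units_eq_one_or (Equiv.Perm.sign (τ a)) with h2 | h2 <;>
    simp_all

/-- The character for a wreath product `S₃ ≀ 2`. -/
theorem exists_wreath_steinberg {G : Type u} [Group G] [Finite G] (hG : Nat.card G = 72)
    (A B : Subgroup G) (eA : A ≃* Equiv.Perm (Fin 3)) (eB : B ≃* Equiv.Perm (Fin 3))
    (hdisj : A ⊓ B = ⊥) (hcomm : ∀ a ∈ A, ∀ b ∈ B, a * b = b * a) (hidx : (A ⊔ B).index = 2)
    (g : G) (hg : A.map (MulAut.conj g).toMonoidHom = B) :
    ∃ χ : commutator G ⧸ Subgroup.center (commutator G) → ℂ,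
      IsIrrCharacter (commutator G ⧸ Subgroup.center (commutator G)) χ ∧
      ∀ P : Sylow 2 (commutator G ⧸ Subgroup.center (commutator G)), χ 1 = Nat.card P ∧
        ∀ x : commutator G ⧸ Subgroup.center (commutator G), x ∈ P → x ≠ 1 → χ x = 0 := by
  classical
  let iA : Equiv.Perm (Fin 3) →* G := A.subtype.comp eA.symm.toMonoidHom
  let iB : Equiv.Perm (Fin 3) →* G := B.subtype.comp eB.symm.toMonoidHom
  have hiA : ∀ a, iA a ∈ A := fun a => (eA.symm a).2
  have hiB : ∀ b, iB b ∈ B := fun b => (eB.symm b).2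
  have hiAinj : Function.Injective iA := Subtype.val_injective.comp eA.symm.injective
  have hiBinj : Function.Injective iB := Subtype.val_injective.comp eB.symm.injective
  let ψ : Equiv.Perm (Fin 3) × Equiv.Perm (Fin 3) →* G :=
    MonoidHom.noncommCoprod iA iB fun a b => hcomm _ (hiA a) _ (hiB b)
  have hψ : ∀ x, ψ x = iA x.1 * iB x.2 := fun x => MonoidHom.noncommCoprod_apply iA iB _ x
  have hψinj : Function.Injective ψ := by
    refine (injective_iff_map_eq_one ψ).2 fun x hx => ?_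
    rw [hψ, mul_eq_one_iff_eq_inv] at hx
    have h1 : iA x.1 ∈ A ⊓ B := Subgroup.mem_inf.2 ⟨hiA _, by rw [hx]; exact inv_mem (hiB _)⟩
    rw [hdisj, Subgroup.mem_bot] at h1
    rw [h1, eq_comm, inv_eq_one] at hx
    exact Prod.ext (hiAinj (h1.trans (map_one iA).symm)) (hiBinj (hx.trans (map_one iB).symm))
  have hrange : ψ.range = A ⊔ B := by
    rw [show ψ.range = iA.range ⊔ iB.range from MonoidHom.noncommCoprod_range _ _ _]
    congr 1
    · ext y
      exact ⟨fun ⟨a, ha⟩ => ha ▸ hiA a, fun hy => ⟨eA ⟨y, hy⟩, by simp [iA]⟩⟩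
    · ext y
      exact ⟨fun ⟨b, hb⟩ => hb ▸ hiB b, fun hy => ⟨eB ⟨y, hy⟩, by simp [iB]⟩⟩
  have hgA : ∀ a ∈ A, g * a * g⁻¹ ∈ B := fun a ha => hg ▸ ⟨a, ha, rfl⟩
  have hnormal : (A ⊔ B).Normal := Subgroup.normal_of_index_eq_two hidx
  have hgnot : g ∉ A ⊔ B := by
    intro hgm
    have hA : ∀ y ∈ A ⊔ B, ∀ a ∈ A, y * a * y⁻¹ ∈ A := by
      intro y hy a ha
      rw [← hrange] at hy
      obtain ⟨x, rfl⟩ := hy
      rw [hψ, show iA x.1 * iB x.2 * a * (iA x.1 * iB x.2)⁻¹ =
        iA x.1 * (iB x.2 * a * (iB x.2)⁻¹) * (iA x.1)⁻¹ by group,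
        ← hcomm a ha _ (hiB x.2), mul_inv_cancel_right]
      exact mul_mem (mul_mem (hiA _) ha) (inv_mem (hiA _))
    have h1 : g * iA (Equiv.swap 0 1) * g⁻¹ ∈ A ⊓ B := ⟨hA g hgm _ (hiA _), hgA _ (hiA _)⟩
    rw [hdisj, Subgroup.mem_bot, conj_eq_one_iff, ← map_one iA] at h1
    have h2 : (Equiv.swap 0 1 : Equiv.Perm (Fin 3)) ≠ 1 := by decide
    exact h2 (hiAinj h1)
  have hg2 : g * g ∈ A ⊔ B :=
    (Subgroup.mul_mem_iff_of_index_two hidx).2 ⟨fun h => absurd h hgnot, fun h => absurd h hgnot⟩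
  have hgB : ∀ b ∈ B, g * b * g⁻¹ ∈ A := by
    intro b hb
    rw [← hg] at hb
    obtain ⟨a, ha, rfl⟩ := hb
    simp only [MulEquiv.coe_toMonoidHom, MulAut.conj_apply]
    rw [← hrange] at hg2
    obtain ⟨x, hx⟩ := hg2
    rw [show g * (g * a * g⁻¹) * g⁻¹ = (g * g) * a * (g * g)⁻¹ by group, ← hx, hψ,
      show iA x.1 * iB x.2 * a * (iA x.1 * iB x.2)⁻¹ =
        iA x.1 * (iB x.2 * a * (iB x.2)⁻¹) * (iA x.1)⁻¹ by group,
      ← hcomm a ha _ (hiB x.2), mul_inv_cancel_right]
    exact mul_mem (mul_mem (hiA _) ha) (inv_mem (hiA _))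
  let τ : Equiv.Perm (Fin 3) →* Equiv.Perm (Fin 3) :=
    eB.toMonoidHom.comp (((MulAut.conj g).toMonoidHom.comp iA).codRestrict B fun a =>
      hgA _ (hiA a))
  let τ' : Equiv.Perm (Fin 3) →* Equiv.Perm (Fin 3) :=
    eA.toMonoidHom.comp (((MulAut.conj g).toMonoidHom.comp iB).codRestrict A fun b =>
      hgB _ (hiB b))
  have hτ : ∀ a, iB (τ a) = g * iA a * g⁻¹ := fun a => by simp [τ, iB]
  have hτ' : ∀ b, iA (τ' b) = g * iB b * g⁻¹ := fun b => by simp [τ', iA]
  have hτi : Function.Injective τ := fun a b h => hiAinj (by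
    have := congrArg iB h; rw [hτ, hτ] at this; simpa using this)
  have hτi' : Function.Injective τ' := fun a b h => hiBinj (by
    have := congrArg iA h; rw [hτ', hτ'] at this; simpa using this)
  -- the image of the pairs of equal sign
  let K : Subgroup G := samePairs.map ψ
  have hKcard : Nat.card K = 18 := by
    rw [Subgroup.card_map_of_injective hψinj, Nat.card_eq_fintype_card, card_samePairs]
  have hKg : ∀ y ∈ K, g * y * g⁻¹ ∈ K := by
    rintro _ ⟨x, hx, rfl⟩
    refine ⟨(τ' x.2, τ x.1), ?_, ?_⟩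
    · show Equiv.Perm.sign (τ' x.2) = Equiv.Perm.sign (τ x.1)
      rw [sign_auto τ hτi, sign_auto τ' hτi']
      exact hx.symm
    · rw [hψ, hψ, hτ, hτ']
      show g * iB x.2 * g⁻¹ * (g * iA x.1 * g⁻¹) = _
      rw [hcomm _ (hiA x.1) _ (hiB x.2)]
      group
  have hKn : K.Normal := by
    rw [← Subgroup.normalizer_eq_top_iff, eq_top_iff]
    intro y _
    have hr : ∀ z ∈ A ⊔ B, z ∈ Subgroup.normalizer (K : Set G) := by
      intro z hz
      rw [← hrange] at hz
      obtain ⟨x, rfl⟩ := hz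
      refine mem_normalizer_of_map_le (fun k hk => ?_)
      obtain ⟨w, hw, rfl⟩ := hk
      exact ⟨x * w * x⁻¹, by simp [mem_samePairs, mem_samePairs.1 hw, mul_right_comm _ (Equiv.Perm.sign w.2), Int.units_mul_self] , by simp [map_mul]⟩
    have hgn : g ∈ Subgroup.normalizer (K : Set G) := mem_normalizer_of_map_le hKg
    by_cases hy : y ∈ A ⊔ B
    · exact hr y hy
    · have : y * g⁻¹ ∈ A ⊔ B := (Subgroup.mul_mem_iff_of_index_two hidx).2
        ⟨fun h => absurd h hy, fun h => absurd (by simpa using inv_mem h) hgnot⟩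
      simpa using mul_mem (hr _ this) hgn
  have hle : commutator G ≤ K := by
    have hi : K.index = 4 := by
      have := K.card_mul_index
      rw [hKcard, hG] at this
      omega
    have hc : Nat.card (G ⧸ K) = 2 ^ 2 := hi
    haveI := Fact.mk Nat.prime_two
    rw [commutator_def, Subgroup.commutator_le]
    intro a _ b _
    rw [← QuotientGroup.eq_one_iff]
    show ((a * b * a⁻¹ * b⁻¹ : G) : G ⧸ K) = 1
    simp only [QuotientGroup.mk_mul, QuotientGroup.mk_inv]
    rw [(IsPGroup.isMulCommutative_of_card_eq_prime_sq hc).is_comm.comm (a : G ⧸ K) b]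
    group
  have hge : K ≤ commutator G := by
    rintro _ ⟨⟨x, y⟩, hxy, rfl⟩
    have hS : ∀ c, Equiv.Perm.sign c = 1 → ψ (c, 1) ∈ commutator G ∧ ψ (1, c) ∈ commutator G :=
      fun c hc => by
        obtain ⟨u, v, rfl⟩ := perm_three_commutator c hc
        refine ⟨?_, ?_⟩
        · rw [show ψ (u * v * u⁻¹ * v⁻¹, 1) = ⁅ψ (u, 1), ψ (v, 1)⁆ by
            simp [commutatorElement_def, hψ]]
          exact Subgroup.commutator_mem_commutator trivial trivial
        · rw [show ψ (1, u * v * u⁻¹ * v⁻¹) = ⁅ψ (1, u), ψ (1, v)⁆ by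
            simp [commutatorElement_def, hψ]]
          exact Subgroup.commutator_mem_commutator trivial trivial
    have hD : ψ (x, τ x⁻¹) ∈ commutator G := by
      have : ⁅g, iA x⁻¹⁆ ∈ commutator G := Subgroup.commutator_mem_commutator trivial trivial
      rw [commutatorElement_def, ← hτ, ← map_inv, inv_inv] at this
      rw [hψ, hcomm _ (hiA x) _ (hiB _)]
      exact this
    have h1 := (hS ((τ x⁻¹)⁻¹ * y) (by
      rw [map_mul, map_inv, sign_auto τ hτi, map_inv, inv_inv, mem_samePairs.1 hxy,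
        Int.units_mul_self])).2
    have := mul_mem hD h1
    rwa [← map_mul, Prod.mk_mul_mk, mul_one, mul_inv_cancel_left] at this
  have hKH : K = commutator G := le_antisymm hge hle
  let e₀ : commutator G ≃* samePairs :=
    ((MulEquiv.subgroupCongr hKH.symm).trans (samePairs.equivMapOfInjective ψ hψinj).symm)
  have hcen : Subgroup.center (commutator G) = ⊥ := by
    rw [eq_bot_iff]
    intro z hz
    rw [Subgroup.mem_bot, ← e₀.map_eq_one_iff]
    refine samePairs_center _ fun y => ?_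
    obtain ⟨w, rfl⟩ := e₀.surjective y
    rw [← map_mul, ← map_mul, Subgroup.mem_center_iff.1 hz w]
  let e : commutator G ⧸ Subgroup.center (commutator G) ≃* samePairs :=
    ((QuotientGroup.quotientMulEquivOfEq hcen).trans QuotientGroup.quotientBot).trans e₀
  let π : commutator G ⧸ Subgroup.center (commutator G) →* Equiv.Perm (Fin 3) :=
    ((MonoidHom.fst _ _).comp samePairs.subtype).comp e.toMonoidHom
  have hπ : Function.Surjective π := fun a => ⟨e.symm ⟨(a, a), rfl⟩, by simp [π]⟩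
  letI : MulAction (commutator G ⧸ Subgroup.center (commutator G)) (Fin 3) :=
    MulAction.compHom _ π
  have hsmul : ∀ (x : commutator G ⧸ Subgroup.center (commutator G)) (i : Fin 3), x • i = π x i :=
    fun x i => rfl
  haveI : MulAction.IsPretransitive (commutator G ⧸ Subgroup.center (commutator G)) (Fin 3) :=
    ⟨fun a b => by
      obtain ⟨x, hx⟩ := hπ (Equiv.swap a b)
      exact ⟨x, by rw [hsmul, hx, Equiv.swap_apply_left]⟩⟩
  letI := Fintype.ofFinite (commutator G ⧸ Subgroup.center (commutator G))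
  refine ⟨_, (CfsgLib.Chars.isIrr_fixedBy_sub_one_iff (X := Fin 3) (by simp)).2
    ((MulAction.is_two_pretransitive_iff).2 fun {a b c d} hab hcd => ?_), fun P => ?_⟩
  · obtain ⟨σ, h1, h2⟩ := perm_three_transitive a b c d hab hcd
    obtain ⟨x, hx⟩ := hπ σ
    exact ⟨x, by rw [hsmul, hx, h1], by rw [hsmul, hx, h2]⟩
  have hcard : Nat.card (commutator G ⧸ Subgroup.center (commutator G)) = 18 := by
    rw [Nat.card_congr e.toEquiv, Nat.card_eq_fintype_card, card_samePairs]
  haveI := Fact.mk Nat.prime_two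
  have hP : Nat.card P = 2 := by
    rw [Sylow.card_eq_multiplicity, hcard]
    rw [show (18 : ℕ) = 2 * 9 from rfl, Nat.factorization_mul (by norm_num) (by norm_num),
      Finsupp.add_apply, Nat.Prime.factorization_self Nat.prime_two,
      Nat.factorization_eq_zero_of_not_dvd (by norm_num)]
    norm_num
  have hfix : ∀ (x : commutator G ⧸ Subgroup.center (commutator G)),
      Nat.card (MulAction.fixedBy (Fin 3) x) = (Finset.univ.filter fun i => π x i = i).card := by
    intro x
    rw [← Fintype.card_subtype, ← Nat.card_eq_fintype_card]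
    exact Nat.card_congr (Equiv.subtypeEquivRight fun i => Iff.rfl)
  refine ⟨?_, fun x hx hx1 => ?_⟩
  · rw [hP, hfix, map_one]
    norm_num
  · have hsq : x * x = 1 := by
      have h : (⟨x, hx⟩ : (P : Subgroup _)) ^ Nat.card P = 1 := pow_card_eq_one'
      rw [hP, sq] at h
      exact congrArg Subtype.val h
    have hne : π x ≠ 1 := samePairs_invol (e x) (by rw [← map_mul, hsq, map_one])
      fun h => hx1 (e.map_eq_one_iff.1 h)
    have h1 := perm_three_invol (π x) (by rw [← map_mul, hsq, map_one]) hne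
    show (Nat.card (MulAction.fixedBy (Fin 3) x) : ℂ) - 1 = 0
    rw [hfix, h1, Nat.cast_one, sub_self]
where
  mem_normalizer_of_map_le {G : Type u} [Group G] [Finite G] {K : Subgroup G} {z : G}
      (h : ∀ k ∈ K, z * k * z⁻¹ ∈ K) : z ∈ Subgroup.normalizer (K : Set G) := by
    rw [Subgroup.mem_normalizer_iff]
    intro k
    refine ⟨h k, fun hk => ?_⟩
    have hsub : K.map (MulAut.conj z).toMonoidHom = K :=
      Subgroup.eq_of_le_of_card_ge (by rintro _ ⟨k, hk, rfl⟩; exact h k hk)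
        (Subgroup.card_map_of_injective (MulAut.conj z).injective).ge
    rw [← hsub] at hk
    obtain ⟨k', hk', he⟩ := hk
    have : k' = k := (MulAut.conj z).injective he
    exact this ▸ hk'

section transport

variable {F : Type v} [Field F] [Fintype F]

/-- Change of field for the isometries of the plus form. -/
theorem exists_isom_equiv (hF : Fintype.card F = 2) :
    Nonempty (Cfsg.isometryGroup F (Cfsg.quadFormPlus 2 F) ≃*
      Cfsg.isometryGroup (ZMod 2) (Cfsg.quadFormPlus 2 (ZMod 2))) := by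
  let e : ZMod 2 ≃+* F := ZMod.ringEquivOfPrime F Nat.prime_two hF
  let E : GL (Fin 2 ⊕ Fin 2) F ≃* GL (Fin 2 ⊕ Fin 2) (ZMod 2) :=
    Units.mapEquiv (e.symm.mapMatrix).toMulEquiv
  refine ⟨(MulEquiv.subgroupMap E _).trans (MulEquiv.subgroupCongr ?_)⟩
  have hmv : ∀ (M : Matrix (Fin 2 ⊕ Fin 2) (Fin 2 ⊕ Fin 2) F) (v : Fin 2 ⊕ Fin 2 → F) (k),
      (e.symm.mapMatrix M).mulVec (fun i => e.symm (v i)) k = e.symm (M.mulVec v k) := fun M v k => by
    simp [Matrix.mulVec, dotProduct]
  have hq : ∀ v : Fin 2 ⊕ Fin 2 → F, Cfsg.quadFormPlus 2 (ZMod 2) (fun i => e.symm (v i)) =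
      e.symm (Cfsg.quadFormPlus 2 F v) := fun v => by simp [Cfsg.quadFormPlus]
  ext y
  constructor
  · rintro ⟨x, hx, rfl⟩ u v
    obtain ⟨u', rfl⟩ : ∃ u', (fun i => e.symm (u' i)) = u := ⟨fun i => e (u i), by simp⟩
    show Cfsg.quadFormPlus 2 (ZMod 2) ((e.symm.mapMatrix (x : Matrix (Fin 2 ⊕ Fin 2) (Fin 2 ⊕ Fin 2) F)).mulVec _) = _
    rw [funext (hmv _ u')]
    show _ = Cfsg.quadFormPlus 2 (ZMod 2) (fun i => e.symm (u' i))
    rw [hq, hq]
    exact congrArg _ (hx u' u')
  · intro hy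
    refine ⟨E.symm y, fun u v => e.symm.injective ?_, E.apply_symm_apply y⟩
    rw [← hq, ← hq]
    have := hy (fun i => e.symm (u i)) (fun i => e.symm (v i))
    simp only at this
    convert this using 2
    funext k
    rw [← hmv]
    congr 2
    exact congrArg Units.val (E.apply_symm_apply y)

theorem exists_plusFourTwoSteinberg (hF : Fintype.card F = 2) :
    ∃ χ : Cfsg.POmega F (Cfsg.quadFormPlus 2 F) → ℂ,
      IsIrrCharacter (Cfsg.POmega F (Cfsg.quadFormPlus 2 F)) χ ∧
      ∀ P : Sylow 2 (Cfsg.POmega F (Cfsg.quadFormPlus 2 F)), χ 1 = Nat.card P ∧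
        ∀ x : Cfsg.POmega F (Cfsg.quadFormPlus 2 F), x ∈ P → x ≠ 1 → χ x = 0 := by
  obtain ⟨E⟩ := exists_isom_equiv hF
  obtain ⟨h72, A, B, ⟨eA⟩, ⟨eB⟩, hdisj, hcomm, hidx, g, hg⟩ := Cfsg.Agent.S2566.result
  let φ := E.symm.toMonoidHom
  have hφ : Function.Injective φ := E.symm.injective
  refine exists_wreath_steinberg ((Nat.card_congr E.toEquiv).trans h72) (A.map φ) (B.map φ)
    ((A.equivMapOfInjective φ hφ).symm.trans eA) ((B.equivMapOfInjective φ hφ).symm.trans eB)
    ?_ ?_ ?_ (φ g) ?_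
  · rw [← Subgroup.map_inf _ _ _ hφ, hdisj, Subgroup.map_bot]
  · rintro _ ⟨a, ha, rfl⟩ _ ⟨b, hb, rfl⟩
    rw [← map_mul, ← map_mul, hcomm a ha b hb]
  · rw [← Subgroup.map_sup, Subgroup.index_map_of_bijective E.symm.bijective, hidx]
  · rw [← hg, Subgroup.map_map, Subgroup.map_map]
    congr 1
    ext x
    simp [φ]

end transport

end CfsgLib.CharsMore.St
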