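import Mathlib

/-!
# Polar spaces with a hyperbolic frame

A reflexive sesquilinear form with a notion of singular vector and a frame `e₁, …, e_m, f₁, …, f_m`
whose orthogonal contains no singular vector.  We study maximal flags of totally singular
subspaces relative to the standard flag.
-/

set_option linter.unusedSectionVars false
set_option linter.style.haveILetI false

namespace CfsgLib.CharsMore.St

universe u v

/-- A polar space with a frame. -/
structure Polar (F : Type u) [Field F] (V : Type v) [AddCommGroup V] [Module F V] (m : ℕ) where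
  σ : F →+* F
  σ_σ : ∀ c, σ (σ c) = c
  ε : F
  ε_mul : ε * ε = 1
  σ_ε : σ ε = ε
  /-- the form, linear in the first argument -/
  h : V → V → F
  add_left : ∀ x y z, h (x + y) z = h x z + h y z
  smul_left : ∀ (c : F) x z, h (c • x) z = c * h x z
  swap : ∀ x y, h y x = ε * σ (h x y)
  sing : V → Prop
  sing_smul : ∀ (c : F) {x}, sing x → sing (c • x)
  sing_add : ∀ {x y}, sing x → sing y → h x y = 0 → sing (x + y)
  self_of_sing : ∀ {x}, sing x → h x x = 0
  e : Fin m → V
  f : Fin m → V
  sing_e : ∀ i, sing (e i)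
  sing_f : ∀ i, sing (f i)
  h_ee : ∀ i j, h (e i) (e j) = 0
  h_ff : ∀ i j, h (f i) (f j) = 0
  h_ef : ∀ i j, h (e i) (f j) = if i = j then 1 else 0
  aniso : ∀ x, sing x → (∀ i, h x (e i) = 0) → (∀ i, h x (f i) = 0) → x = 0
  complete : ∀ a b w, sing a → sing b → h a b = 1 → h w a = 0 → h w b = 0 →
    ∃ c, sing (b + ε • w + (ε * c) • a)

namespace Polar

variable {F : Type u} [Field F] {V : Type v} [AddCommGroup V] [Module F V] {m : ℕ}
  (Q : Polar F V m)

theorem add_right (x y z : V) : Q.h x (y + z) = Q.h x y + Q.h x z := by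
  rw [Q.swap (y + z) x, Q.add_left, map_add, mul_add, ← Q.swap y x, ← Q.swap z x]

theorem smul_right (c : F) (x y : V) : Q.h x (c • y) = Q.σ c * Q.h x y := by
  rw [Q.swap (c • y) x, Q.smul_left, map_mul, mul_left_comm, ← Q.swap y x]

theorem zero_left (z : V) : Q.h 0 z = 0 := by
  rw [← zero_smul F (0 : V), Q.smul_left, zero_mul]

theorem zero_right (z : V) : Q.h z 0 = 0 := by
  rw [← zero_smul F (0 : V), Q.smul_right, map_zero, zero_mul]

theorem neg_left (x z : V) : Q.h (-x) z = -Q.h x z := by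
  rw [← neg_one_smul F x, Q.smul_left, neg_one_mul]

theorem sub_left (x y z : V) : Q.h (x - y) z = Q.h x z - Q.h y z := by
  rw [sub_eq_add_neg, Q.add_left, Q.neg_left, sub_eq_add_neg]

theorem sum_left {ι : Type*} (s : Finset ι) (g : ι → V) (z : V) :
    Q.h (∑ i ∈ s, g i) z = ∑ i ∈ s, Q.h (g i) z := by
  classical
  induction s using Finset.induction with
  | empty => simp [Q.zero_left]
  | insert a s ha ih => rw [Finset.sum_insert ha, Finset.sum_insert ha, Q.add_left, ih]

theorem ε_ne : Q.ε ≠ 0 := fun h => by simpa [h] using Q.ε_mul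

theorem σ_eq_zero {c : F} : Q.σ c = 0 ↔ c = 0 := map_eq_zero Q.σ

theorem comm_zero {x y : V} (h : Q.h x y = 0) : Q.h y x = 0 := by
  rw [Q.swap, h, map_zero, mul_zero]

theorem h_fe (i j : Fin m) : Q.h (Q.f i) (Q.e j) = if i = j then Q.ε else 0 := by
  rw [Q.swap, Q.h_ef]
  by_cases hij : i = j
  · subst hij; simp
  · simp [hij, Ne.symm hij]

theorem sing_zero [Nonempty (Fin m)] : Q.sing 0 := by
  obtain ⟨i⟩ := ‹Nonempty (Fin m)›
  simpa using Q.sing_smul 0 (Q.sing_e i)

/-- The coefficient of `f i`, up to sign. -/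
def α (i : Fin m) : V →ₗ[F] F where
  toFun x := Q.h x (Q.e i)
  map_add' x y := Q.add_left x y _
  map_smul' c x := Q.smul_left c x _

/-- The coefficient of `e i`. -/
def β (i : Fin m) : V →ₗ[F] F where
  toFun x := Q.h x (Q.f i)
  map_add' x y := Q.add_left x y _
  map_smul' c x := Q.smul_left c x _

theorem α_apply (i : Fin m) (x : V) : Q.α i x = Q.h x (Q.e i) := rfl

theorem β_apply (i : Fin m) (x : V) : Q.β i x = Q.h x (Q.f i) := rfl

/-- The totally singular subspace spanned by the `e i`. -/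
def eSpan : Submodule F V := Submodule.span F (Set.range Q.e)

/-- Totally singular subspaces. -/
def TS (W : Submodule F V) : Prop := (∀ x ∈ W, Q.sing x) ∧ ∀ x ∈ W, ∀ y ∈ W, Q.h x y = 0

theorem TS.mono {Q : Polar F V m} {W W' : Submodule F V} (h : Q.TS W) (hle : W' ≤ W) : Q.TS W' :=
  ⟨fun x hx => h.1 x (hle hx), fun x hx y hy => h.2 x (hle hx) y (hle hy)⟩

theorem ts_span (h0 : Q.sing 0) {S : Set V} (hs : ∀ x ∈ S, Q.sing x)
    (ho : ∀ x ∈ S, ∀ y ∈ S, Q.h x y = 0) : Q.TS (Submodule.span F S) := by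
  have horth : ∀ y ∈ S, ∀ x ∈ Submodule.span F S, Q.h x y = 0 := by
    intro y hy x hx
    induction hx using Submodule.span_induction with
    | mem x hx => exact ho x hx y hy
    | zero => exact Q.zero_left y
    | add x z _ _ h1 h2 => rw [Q.add_left, h1, h2, add_zero]
    | smul c x _ h1 => rw [Q.smul_left, h1, mul_zero]
  have horth' : ∀ x ∈ Submodule.span F S, ∀ y ∈ Submodule.span F S, Q.h x y = 0 := by
    intro x hx y hy
    induction hy using Submodule.span_induction with
    | mem y hy => exact horth y hy x hx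
    | zero => exact Q.zero_right x
    | add y z _ _ h1 h2 => rw [Q.add_right, h1, h2, add_zero]
    | smul c y _ h1 => rw [Q.smul_right, h1, mul_zero]
  refine ⟨fun x hx => ?_, horth'⟩
  induction hx using Submodule.span_induction with
  | mem x hx => exact hs x hx
  | zero => exact h0
  | add x y hx hy h1 h2 => exact Q.sing_add h1 h2 (horth' x hx y hy)
  | smul c x _ h1 => exact Q.sing_smul c h1

theorem ts_eSpan [Nonempty (Fin m)] : Q.TS Q.eSpan :=
  Q.ts_span Q.sing_zero (by rintro _ ⟨i, rfl⟩; exact Q.sing_e i)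
    (by rintro _ ⟨i, rfl⟩ _ ⟨j, rfl⟩; exact Q.h_ee i j)

theorem β_sum (c : Fin m → F) (i : Fin m) : Q.β i (∑ j, c j • Q.e j) = c i := by
  simp [Q.β_apply, Q.sum_left, Q.smul_left, Q.h_ef]

theorem α_sum (c : Fin m → F) (i : Fin m) : Q.α i (∑ j, c j • Q.e j) = 0 := by
  simp [Q.α_apply, Q.sum_left, Q.smul_left, Q.h_ee]

/-- A singular vector orthogonal to all `e i` is a combination of them. -/
theorem eq_sum {x : V} (hs : Q.sing x) (hα : ∀ i, Q.α i x = 0) :
    x = ∑ i, Q.β i x • Q.e i := by
  rcases isEmpty_or_nonempty (Fin m) with h | h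
  · rw [Finset.univ_eq_empty, Finset.sum_empty]
    exact Q.aniso x hs (fun i => isEmptyElim i) (fun i => isEmptyElim i)
  set y := ∑ i, Q.β i x • Q.e i with hy
  have hyE : y ∈ Q.eSpan :=
    Submodule.sum_mem _ fun i _ => Submodule.smul_mem _ _ (Submodule.subset_span ⟨i, rfl⟩)
  have hxy : Q.h (-y) x = 0 := by
    rw [Q.neg_left, hy, Q.sum_left, Finset.sum_eq_zero fun i _ => ?_, neg_zero]
    rw [Q.smul_left, Q.comm_zero (hα i), mul_zero]
  have hsy : Q.sing (-y) := Q.ts_eSpan.1 _ (neg_mem hyE)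
  have h0 := Q.aniso (-y + x) (Q.sing_add hsy hs hxy)
    (fun i => by
      have h1 := Q.α_sum (fun j => Q.β j x) i
      rw [Q.α_apply] at h1
      rw [Q.add_left, Q.neg_left, show Q.h x (Q.e i) = 0 from hα i, hy, h1, neg_zero, add_zero])
    (fun i => by
      have h1 := Q.β_sum (fun j => Q.β j x) i
      rw [Q.β_apply] at h1
      rw [Q.add_left, Q.neg_left, hy, h1, Q.β_apply, neg_add_cancel])
  exact (neg_add_eq_zero.1 h0).symm

theorem mem_eSpan {x : V} (hs : Q.sing x) (hα : ∀ i, Q.α i x = 0) : x ∈ Q.eSpan := by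
  rw [Q.eq_sum hs hα]
  exact Submodule.sum_mem _ fun i _ => Submodule.smul_mem _ _ (Submodule.subset_span ⟨i, rfl⟩)

theorem α_eSpan {x : V} (hx : x ∈ Q.eSpan) (i : Fin m) : Q.α i x = 0 := by
  induction hx using Submodule.span_induction with
  | mem x hx => obtain ⟨j, rfl⟩ := hx; exact Q.h_ee j i
  | zero => rw [map_zero]
  | add x y _ _ h1 h2 => rw [map_add, h1, h2, add_zero]
  | smul c x _ h1 => rw [map_smul, h1, smul_zero]

/-- Totally singular subspaces have dimension at most `m`. -/
theorem finrank_le [Finite F] [FiniteDimensional F V] {W : Submodule F V} (hW : Q.TS W) :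
    Module.finrank F W ≤ m := by
  let A : W →ₗ[F] (Fin m → F) := (LinearMap.pi Q.α).domRestrict W
  let B : LinearMap.ker A →ₗ[F] (Fin m → F) :=
    ((LinearMap.pi Q.β).domRestrict W).domRestrict (LinearMap.ker A)
  have hker : ∀ x : LinearMap.ker A, ∀ i, Q.α i ((x : W) : V) = 0 := fun x i => congrFun x.2 i
  have hB : Function.Injective B := by
    refine (injective_iff_map_eq_zero B).2 fun x hx => ?_
    refine Subtype.ext (Subtype.ext ?_)
    rw [Q.eq_sum (hW.1 _ (x : W).2) (hker x)]
    exact Finset.sum_eq_zero fun i _ => by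
      rw [show Q.β i ((x : W) : V) = 0 from congrFun hx i, zero_smul]
  let S : Submodule F (Fin m → F) :=
    { carrier := {y | (fun i => Q.σ (y i)) ∈ LinearMap.range B}
      add_mem' := fun {a b} ha hb => by
        have := add_mem (s := LinearMap.range B) ha hb
        simp only [Set.mem_ofPred_eq]
        convert this using 1
        funext i; simp
      zero_mem' := by
        simp only [Set.mem_ofPred_eq]
        convert Submodule.zero_mem (LinearMap.range B) using 1
        funext i; simp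
      smul_mem' := fun c a ha => by
        have := Submodule.smul_mem (LinearMap.range B) (Q.σ c) ha
        simp only [Set.mem_ofPred_eq]
        convert this using 1
        funext i; simp }
  have hS : Module.finrank F S = Module.finrank F (LinearMap.ker A) := by
    rw [← LinearMap.finrank_range_of_inj hB]
    have e : Nat.card S = Nat.card (LinearMap.range B) :=
      Nat.card_congr
        { toFun := fun y => ⟨fun i => Q.σ (y.1 i), y.2⟩
          invFun := fun z => ⟨fun i => Q.σ (z.1 i), by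
            show (fun i => Q.σ (Q.σ (z.1 i))) ∈ LinearMap.range B
            simp only [Q.σ_σ]; exact z.2⟩
          left_inv := fun y => Subtype.ext (funext fun i => Q.σ_σ _)
          right_inv := fun z => Subtype.ext (funext fun i => Q.σ_σ _) }
    rw [Module.natCard_eq_pow_finrank (K := F) (V := S),
      Module.natCard_eq_pow_finrank (K := F) (V := LinearMap.range B)] at e
    exact Nat.pow_right_injective (Finite.one_lt_card (α := F)) e
  let Φ : (Fin m → F) →ₗ[F] Module.Dual F (Fin m → F) :=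
    { toFun := fun a => ∑ i, a i • LinearMap.proj i
      map_add' := fun a b => by simp [add_smul, Finset.sum_add_distrib]
      map_smul' := fun c a => by simp [Finset.smul_sum, smul_smul] }
  have hle : LinearMap.range A ≤ (S.dualAnnihilator).comap Φ := by
    rintro _ ⟨w, rfl⟩
    rw [Submodule.mem_comap, Submodule.mem_dualAnnihilator]
    rintro y ⟨x, hx⟩
    have h0 := hW.2 w w.2 ((x : W) : V) (x : W).2
    rw [Q.eq_sum (hW.1 _ (x : W).2) (hker x)] at h0
    have h1 : ∀ (s : Finset (Fin m)) (g : Fin m → V),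
        Q.h (w : V) (∑ i ∈ s, g i) = ∑ i ∈ s, Q.h (w : V) (g i) := fun s g => by
      induction s using Finset.induction with
      | empty => simp [Q.zero_right]
      | insert a s ha ih => rw [Finset.sum_insert ha, Finset.sum_insert ha, Q.add_right, ih]
    rw [h1] at h0
    refine Eq.trans ?_ h0
    simp only [Φ, LinearMap.coe_mk, AddHom.coe_mk, LinearMap.coe_sum, Finset.sum_apply,
      LinearMap.smul_apply, LinearMap.proj_apply, smul_eq_mul]
    refine Finset.sum_congr rfl fun i _ => ?_
    rw [Q.smul_right, show Q.β i ((x : W) : V) = Q.σ (y i) from congrFun hx i, Q.σ_σ, mul_comm]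
    rfl
  have hΦ : Function.Injective Φ := by
    refine (injective_iff_map_eq_zero Φ).2 fun a ha => funext fun i => ?_
    have := LinearMap.congr_fun ha (Pi.single i 1)
    simpa [Φ, Pi.single_apply] using this
  have h2 : Module.finrank F (LinearMap.range A) + Module.finrank F S ≤ m := by
    have h3 := Submodule.finrank_mono (Submodule.map_le_iff_le_comap.2 hle)
    rw [← (Submodule.equivMapOfInjective Φ hΦ (LinearMap.range A)).finrank_eq] at h3
    have h4 := Subspace.finrank_add_finrank_dualAnnihilator_eq S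
    rw [Module.finrank_fin_fun] at h4
    omega
  have h5 := LinearMap.finrank_range_add_finrank_ker A
  omega

/-! ### The flag of the standard chamber -/

/-- The `k`-th member of the filtration attached to the standard flag. -/
def L (k : ℕ) : Submodule F V where
  carrier := {x | ∀ j : Fin m, (k ≤ (j : ℕ) → Q.β j x = 0) ∧ (k + (j : ℕ) < 2 * m → Q.α j x = 0)}
  add_mem' {x y} hx hy j := by
    refine ⟨fun h => ?_, fun h => ?_⟩
    · rw [map_add, (hx j).1 h, (hy j).1 h, add_zero]
    · rw [map_add, (hx j).2 h, (hy j).2 h, add_zero]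
  zero_mem' j := ⟨fun _ => map_zero _, fun _ => map_zero _⟩
  smul_mem' c x hx j := by
    refine ⟨fun h => ?_, fun h => ?_⟩
    · rw [map_smul, (hx j).1 h, smul_zero]
    · rw [map_smul, (hx j).2 h, smul_zero]

theorem mem_L {k : ℕ} {x : V} : x ∈ Q.L k ↔
    ∀ j : Fin m, (k ≤ (j : ℕ) → Q.β j x = 0) ∧ (k + (j : ℕ) < 2 * m → Q.α j x = 0) := Iff.rfl

theorem L_mono {k l : ℕ} (h : k ≤ l) : Q.L k ≤ Q.L l := fun x hx j =>
  ⟨fun h' => (hx j).1 (by omega), fun h' => (hx j).2 (by omega)⟩

theorem L_top {k : ℕ} (h : 2 * m ≤ k) : Q.L k = ⊤ := eq_top_iff.2 fun x _ j =>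
  ⟨fun h' => absurd h' (by omega), fun h' => absurd h' (by omega)⟩

theorem eq_zero_of_L_zero {x : V} (hs : Q.sing x) (hx : x ∈ Q.L 0) : x = 0 :=
  Q.aniso x hs (fun i => (hx i).2 (by omega)) (fun i => (hx i).1 (Nat.zero_le _))

/-- The coordinate distinguishing `L (k + 1)` from `L k`. -/
theorem exists_coord (k : ℕ) (hk : k < 2 * m) : ∃ φ : V →ₗ[F] F, ∀ x ∈ Q.L (k + 1), φ x = 0 → x ∈ Q.L k := by
  by_cases hkm : k < m
  · refine ⟨Q.β ⟨k, hkm⟩, fun x hx h0 j => ⟨fun h => ?_, fun h => ?_⟩⟩
    · rcases eq_or_lt_of_le h with h' | h'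
      · rw [show j = ⟨k, hkm⟩ from Fin.ext h'.symm]; exact h0
      · exact (hx j).1 h'
    · exact (hx j).2 (by have := j.isLt; omega)
  · refine ⟨Q.α ⟨2 * m - 1 - k, by omega⟩, fun x hx h0 j => ⟨fun h => ?_, fun h => ?_⟩⟩
    · exact absurd h (by have := j.isLt; omega)
    · by_cases h' : k + 1 + (j : ℕ) < 2 * m
      · exact (hx j).2 h'
      · rw [show j = ⟨2 * m - 1 - k, by omega⟩ from Fin.ext (show (j : ℕ) = 2 * m - 1 - k by omega)]
        exact h0

/-- Flags of totally singular subspaces of dimensions `1, …, m`. -/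
def IsFlag (W : Fin m → Submodule F V) : Prop :=
  (∀ i, Module.finrank F (W i) = (i : ℕ) + 1) ∧ Monotone W ∧ ∀ i, Q.TS (W i)

/-- Chambers. -/
def Chamber : Type v := {W : Fin m → Submodule F V // Q.IsFlag W}

instance [Finite V] : Finite Q.Chamber := by unfold Chamber; infer_instance

/-- The member before the `i`-th one. -/
def below (W : Fin m → Submodule F V) (i : Fin m) : Submodule F V :=
  if h : (i : ℕ) = 0 then ⊥ else W ⟨(i : ℕ) - 1, by omega⟩

theorem below_zero (W : Fin m → Submodule F V) {i : Fin m} (h : (i : ℕ) = 0) : below W i = ⊥ :=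
  dif_pos h

theorem below_succ (W : Fin m → Submodule F V) {i j : Fin m} (h : (j : ℕ) + 1 = i) :
    below W i = W j := by
  rw [below, dif_neg (by omega)]
  congr 1
  exact Fin.ext (show (i : ℕ) - 1 = j by omega)

variable {Q}

theorem IsFlag.below_le {W : Fin m → Submodule F V} (hW : Q.IsFlag W) (i : Fin m) :
    below W i ≤ W i := by
  by_cases h : (i : ℕ) = 0
  · rw [below_zero W h]; exact bot_le
  · rw [below, dif_neg h]; exact hW.2.1 (Fin.le_iff_val_le_val.2 (Nat.sub_le _ _))

theorem IsFlag.finrank_below {W : Fin m → Submodule F V} (hW : Q.IsFlag W) (i : Fin m) :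
    Module.finrank F (below W i) = (i : ℕ) := by
  by_cases h : (i : ℕ) = 0
  · rw [below_zero W h, finrank_bot, h]
  · rw [below, dif_neg h, hW.1]
    show (i : ℕ) - 1 + 1 = i
    omega

theorem IsFlag.eq_sup {W : Fin m → Submodule F V} [FiniteDimensional F V] (hW : Q.IsFlag W)
    (i : Fin m) {x : V} (hx : x ∈ W i) (hx' : x ∉ below W i) :
    W i = below W i ⊔ Submodule.span F {x} := by
  refine (Submodule.eq_of_le_of_finrank_le
    (sup_le (hW.below_le i) ((Submodule.span_singleton_le_iff_mem _ _).2 hx)) ?_).symm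
  have hlt : below W i < below W i ⊔ Submodule.span F {x} := lt_of_le_of_ne le_sup_left fun h =>
    hx' (h ▸ Submodule.mem_sup_right (Submodule.mem_span_singleton_self x))
  have := Submodule.finrank_lt_finrank_of_lt hlt
  rw [hW.finrank_below] at this
  rw [hW.1]
  omega

variable (Q)

/-- The depth of a chamber relative to the standard one. -/
noncomputable def depth (W : Fin m → Submodule F V) : ℕ :=
  ∑ i, ∑ k ∈ Finset.range (2 * m + 1), Module.finrank F ↥(W i ⊓ Q.L k)

/-- The chambers opposite the standard one. -/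
def IsOpp (W : Fin m → Submodule F V) : Prop :=
  ∀ i : Fin m, ∀ x ∈ W i, (∀ j : Fin m, j ≤ i → Q.α j x = 0) → x = 0

variable {Q}

theorem inf_le_succ [FiniteDimensional F V] {A B U : Submodule F V} (hAB : A ≤ B)
    (hB : Module.finrank F B = Module.finrank F A + 1) :
    Module.finrank F ↥(B ⊓ U) ≤ Module.finrank F ↥(A ⊓ U) + 1 := by
  have h1 := Submodule.finrank_sup_add_finrank_inf_eq (B ⊓ U) A
  rw [show B ⊓ U ⊓ A = A ⊓ U by rw [inf_comm (B ⊓ U) A, ← inf_assoc, inf_eq_left.2 hAB]] at h1
  have h2 : Module.finrank F ↥(B ⊓ U ⊔ A) ≤ Module.finrank F B :=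
    Submodule.finrank_mono (sup_le inf_le_left hAB)
  omega

theorem inf_eq_of_le {A B U : Submodule F V} (hAB : A ≤ B) (h : B ⊓ U ≤ A) : B ⊓ U = A ⊓ U :=
  le_antisymm (le_inf h inf_le_right) (le_inf (inf_le_left.trans hAB) inf_le_right)

theorem inf_lt [FiniteDimensional F V] {A B U : Submodule F V} (hAB : A ≤ B) (h : ¬ B ⊓ U ≤ A) :
    Module.finrank F ↥(A ⊓ U) < Module.finrank F ↥(B ⊓ U) :=
  Submodule.finrank_lt_finrank_of_lt
    (lt_of_le_of_ne (inf_le_inf_right _ hAB) fun e => h (e ▸ inf_le_left))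

/-- Replacing one member by a shallower one decreases the depth. -/
theorem depth_lt [FiniteDimensional F V] {W W' : Fin m → Submodule F V} (hW : Q.IsFlag W)
    (hW' : Q.IsFlag W') (i : Fin m) (heq : ∀ j, j ≠ i → W' j = W j)
    (k₀ : ℕ) (hk₀ : k₀ ≤ 2 * m) (hmem : ¬ W i ⊓ Q.L k₀ ≤ below W i)
    (hsmall : ∀ k, k ≤ k₀ → W' i ⊓ Q.L k ≤ below W i) : Q.depth W' < Q.depth W := by
  classical
  have hbelow : below W' i = below W i := by
    by_cases h : (i : ℕ) = 0
    · rw [below_zero W h, below_zero W' h]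
    · rw [below, dif_neg h, below, dif_neg h]
      exact heq _ fun e => by
        have h1 : (i : ℕ) - 1 = i := congrArg Fin.val e
        omega
  have key : ∀ k, Module.finrank F ↥(W' i ⊓ Q.L k) ≤ Module.finrank F ↥(W i ⊓ Q.L k) := by
    intro k
    by_cases hk : k ≤ k₀
    · rw [inf_eq_of_le (hbelow ▸ hW'.below_le i) (hsmall k hk)]
      exact Submodule.finrank_mono (inf_le_inf_right _ (hW.below_le i))
    · have h1 : ¬ W i ⊓ Q.L k ≤ below W i := fun h =>
        hmem ((inf_le_inf_left _ (Q.L_mono (by omega))).trans h)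
      have h2 := inf_lt (hW.below_le i) h1
      have h3 := inf_le_succ (U := Q.L k) (hW'.below_le i) (by rw [hW'.1, hW'.finrank_below])
      rw [hbelow] at h3
      omega
  have hstrict : Module.finrank F ↥(W' i ⊓ Q.L k₀) < Module.finrank F ↥(W i ⊓ Q.L k₀) := by
    rw [inf_eq_of_le (hbelow ▸ hW'.below_le i) (hsmall k₀ le_rfl)]
    exact inf_lt (hW.below_le i) hmem
  refine Finset.sum_lt_sum (fun j _ => ?_) ⟨i, Finset.mem_univ i, ?_⟩
  · rcases eq_or_ne j i with rfl | hj
    · exact Finset.sum_le_sum fun k _ => key k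
    · rw [heq j hj]
  · exact Finset.sum_lt_sum (fun k _ => key k) ⟨k₀, Finset.mem_range.2 (by omega), hstrict⟩

/-- Every chamber not opposite to the standard one is strictly deepest in one of its panels. -/
theorem exists_up [Finite F] [FiniteDimensional F V] {W : Fin m → Submodule F V} (hW : Q.IsFlag W)
    (hT : ¬ Q.IsOpp W) :
    ∃ i, ∀ W', Q.IsFlag W' → (∀ j, j ≠ i → W' j = W j) → W' ≠ W → Q.depth W' < Q.depth W := by
  classical
  by_contra hcon
  push Not at hcon
  apply hT
  have hex : ∀ i, ∃ k, ¬ W i ⊓ Q.L k ≤ below W i := fun i => ⟨2 * m, fun h => by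
    rw [Q.L_top le_rfl, inf_top_eq] at h
    have := Submodule.finrank_mono h
    rw [hW.1, hW.finrank_below] at this
    omega⟩
  let key : Fin m → ℕ := fun i => Nat.find (hex i)
  have hkey : ∀ i, ¬ W i ⊓ Q.L (key i) ≤ below W i := fun i => Nat.find_spec (hex i)
  have hkey' : ∀ i k, k < key i → W i ⊓ Q.L k ≤ below W i := fun i k hk =>
    not_not.1 (Nat.find_min (hex i) hk)
  have hkeyle : ∀ i, key i ≤ 2 * m := fun i => Nat.find_min' (hex i) fun h => by
    rw [Q.L_top le_rfl, inf_top_eq] at h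
    have := Submodule.finrank_mono h
    rw [hW.1, hW.finrank_below] at this
    omega
  have eq_of : ∀ i W', Q.IsFlag W' → (∀ j, j ≠ i → W' j = W j) → W' ≠ W → W' i ≠ W i :=
    fun i W' _ heq hne h => hne (funext fun j => by
      rcases eq_or_ne j i with rfl | hj
      exacts [h, heq j hj])
  have hbel : ∀ i W', (∀ j, j ≠ i → W' j = W j) → below W' i = below W i := fun i W' heq => by
    by_cases h : (i : ℕ) = 0
    · rw [below_zero W h, below_zero W' h]
    · rw [below, dif_neg h, below, dif_neg h]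
      exact heq _ fun e => by
        have h1 : (i : ℕ) - 1 = i := congrArg Fin.val e
        omega
  -- the last member
  have hlast : ∀ i : Fin m, (i : ℕ) + 1 = m → m < key i := by
    intro i hi
    by_contra hle
    push Not at hle
    obtain ⟨W', hW', heq, hne, hge⟩ := hcon i
    refine absurd (depth_lt hW hW' i heq (key i) (hkeyle i) (hkey i) fun k hk => ?_) (not_lt.2 hge)
    intro v hv
    obtain ⟨u, hu, hu'⟩ := SetLike.not_le_iff_exists.1 (hkey i)
    by_contra hvA
    haveI : Nonempty (Fin m) := ⟨i⟩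
    have hE : ∀ x, Q.sing x → x ∈ Q.L m → x ∈ Q.eSpan := fun x hs hx =>
      Q.mem_eSpan hs fun j => (hx j).2 (by have := j.isLt; omega)
    have huv : Q.h u v = 0 := Q.ts_eSpan.2 u
      (hE u ((hW.2.2 i).1 u hu.1) (Q.L_mono hle hu.2)) v
      (hE v ((hW'.2.2 i).1 v hv.1) (Q.L_mono (hk.trans hle) hv.2))
    have hb' : below W i ≤ W' i := hbel i W' heq ▸ hW'.below_le i
    have hts : Q.TS (Submodule.span F ({u, v} ∪ (below W i : Set V))) := by
      refine Q.ts_span Q.sing_zero ?_ ?_
      · rintro x ((rfl | rfl) | hx)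
        exacts [(hW.2.2 i).1 _ hu.1, (hW'.2.2 i).1 _ hv.1, (hW.2.2 i).1 x (hW.below_le i hx)]
      · rintro x ((rfl | rfl) | hx) y ((rfl | rfl) | hy)
        exacts [(hW.2.2 i).2 _ hu.1 _ hu.1, huv, (hW.2.2 i).2 _ hu.1 y (hW.below_le i hy),
          Q.comm_zero huv, (hW'.2.2 i).2 _ hv.1 _ hv.1, (hW'.2.2 i).2 _ hv.1 y (hb' hy),
          (hW.2.2 i).2 x (hW.below_le i hx) _ hu.1, (hW'.2.2 i).2 x (hb' hx) _ hv.1,
          (hW.2.2 i).2 x (hW.below_le i hx) y (hW.below_le i hy)]
    have hle1 : W i ≤ Submodule.span F ({u, v} ∪ (below W i : Set V)) := by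
      rw [hW.eq_sup i hu.1 hu']
      exact sup_le (fun z hz => Submodule.subset_span (Or.inr hz))
        ((Submodule.span_singleton_le_iff_mem _ _).2 (Submodule.subset_span (Or.inl (Or.inl rfl))))
    have heq1 := Submodule.eq_of_le_of_finrank_le hle1 ((Q.finrank_le hts).trans (by rw [hW.1, hi]))
    have hvW : v ∈ W i := heq1 ▸ Submodule.subset_span (Or.inl (Or.inr rfl))
    refine eq_of i W' hW' heq hne ?_
    rw [hW'.eq_sup i hv.1 (hbel i W' heq ▸ hvA), hW.eq_sup i hvW hvA, hbel i W' heq]
  -- the other members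
  have hstep : ∀ i j : Fin m, (i : ℕ) + 1 = j → key j < key i := by
    intro i j hij
    have hC : W i ≤ W j := hW.2.1 (Fin.le_iff_val_le_val.2 (by omega))
    have hnot : ¬ W j ⊓ Q.L (key i) ≤ W i := by
      intro h
      obtain ⟨W', hW', heq, hne, hge⟩ := hcon i
      refine absurd (depth_lt hW hW' i heq (key i) (hkeyle i) (hkey i) fun k hk => ?_) (not_lt.2 hge)
      intro v hv
      by_contra hvA
      have hvj : v ∈ W j := by
        rw [← heq j (fun e => by omega)]
        exact hW'.2.1 (Fin.le_iff_val_le_val.2 (by omega)) hv.1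
      have hvW : v ∈ W i := h ⟨hvj, Q.L_mono hk hv.2⟩
      refine eq_of i W' hW' heq hne ?_
      rw [hW'.eq_sup i hv.1 (hbel i W' heq ▸ hvA), hW.eq_sup i hvW hvA, hbel i W' heq]
    have hle : key j ≤ key i := Nat.find_min' (hex j) (by rwa [below_succ W hij])
    refine lt_of_le_of_ne hle fun e => ?_
    obtain ⟨u, hu, hu'⟩ := SetLike.not_le_iff_exists.1 (hkey i)
    obtain ⟨v, hv, hv'⟩ := SetLike.not_le_iff_exists.1 (hkey j)
    rw [below_succ W hij] at hv'
    have hk0 : key i ≠ 0 := fun h0 => by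
      rw [h0] at hu
      exact hu' (Q.eq_zero_of_L_zero ((hW.2.2 i).1 u hu.1) hu.2 ▸ Submodule.zero_mem _)
    obtain ⟨k, hk⟩ : ∃ k, key i = k + 1 := ⟨key i - 1, by omega⟩
    obtain ⟨φ, hφ⟩ := Q.exists_coord k (by have := hkeyle i; omega)
    have hu2 : u ∈ Q.L (k + 1) := hk ▸ hu.2
    have hv2 : v ∈ Q.L (k + 1) := hk ▸ e ▸ hv.2
    have hφu : φ u ≠ 0 := fun h => hu' (hkey' i k (by omega) ⟨hu.1, hφ u hu2 h⟩)
    have hz := hφ (v - (φ v / φ u) • u) (sub_mem hv2 (Submodule.smul_mem _ _ hu2))
      (by rw [map_sub, map_smul, smul_eq_mul, div_mul_cancel₀ _ hφu, sub_self])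
    have := hkey' j k (by omega) ⟨sub_mem hv.1 (Submodule.smul_mem _ _ (hC hu.1)), hz⟩
    rw [below_succ W hij] at this
    exact hv' (by simpa using add_mem this (Submodule.smul_mem _ (φ v / φ u) hu.1))
  have hbound : ∀ d, ∀ i : Fin m, m - 1 - (i : ℕ) = d → 2 * m - (i : ℕ) ≤ key i := by
    intro d
    induction d with
    | zero => intro i hi; have := i.isLt; have := hlast i (by omega); omega
    | succ d ih =>
      intro i hi
      have h1 : (i : ℕ) + 1 < m := by omega
      have h2 := hstep i ⟨_, h1⟩ rfl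
      have h3 := ih ⟨_, h1⟩ (show m - 1 - ((i : ℕ) + 1) = d by omega)
      change 2 * m - ((i : ℕ) + 1) ≤ _ at h3
      omega
  intro i x hx hα
  have hxL : x ∈ Q.L (2 * m - 1 - (i : ℕ)) := fun j =>
    ⟨fun h => absurd h (by have := j.isLt; have := i.isLt; omega),
      fun h => hα j (Fin.le_iff_val_le_val.2 (by have := i.isLt; omega))⟩
  have down : ∀ d : ℕ, ∀ j : Fin m, (j : ℕ) = d → j ≤ i → x ∈ W j → x = 0 := by
    intro d
    induction d with
    | zero =>
      intro j hj hji hxj
      have hb := hbound _ j rfl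
      have h2 := hkey' j (2 * m - 1 - (i : ℕ)) (by
        have := i.isLt; have := Fin.le_iff_val_le_val.1 hji; omega) ⟨hxj, hxL⟩
      rwa [below_zero W hj, Submodule.mem_bot] at h2
    | succ d ih =>
      intro j hj hji hxj
      have hb := hbound _ j rfl
      have h2 := hkey' j (2 * m - 1 - (i : ℕ)) (by
        have := i.isLt; have := Fin.le_iff_val_le_val.1 hji; omega) ⟨hxj, hxL⟩
      have hd : d < m := by have := j.isLt; omega
      rw [below_succ W (j := ⟨d, hd⟩) hj.symm] at h2
      exact ih ⟨d, hd⟩ rfl (le_trans (Fin.le_iff_val_le_val.2 (show d ≤ (j : ℕ) by omega)) hji) h2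
  exact down _ i rfl le_rfl hx

end Polar

end CfsgLib.CharsMore.St
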